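import Groth.Agent.Lib.Hypercov.Fillers
import Groth.Agent.Lib.SiteCoh.HomAcyclic
import Groth.Agent.Lib.SiteCoh.Basic
import Mathlib.CategoryTheory.Limits.Shapes.ConcreteCategory
import Mathlib.Algebra.Category.Grp.Limits

/-!
# Cech complexes of simplicial formal coproducts as `Hom` out of free sheaves
-/

universe u

open CategoryTheory Limits Opposite Simplicial

namespace Groth.Agent.Lib.Hypercov.Resolution

open SiteCoh SiteCoh.FreeRes SiteCoh.Fillers SiteCoh.HomAcyclic Hypercov.Fillers

variable {C : Type u} [SmallCategory C] {J : GrothendieckTopology C}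

section Eval

/-- Maps out of a free sheaf on a presheaf of sets. -/
noncomputable def freeEquiv (R : Cᵒᵖ ⥤ Type u) (F : Sheaf J AddCommGrpCat.{u}) :
    ((freeP J).obj R ⟶ F) ≃ (R ⟶ F.obj ⋙ forget AddCommGrpCat.{u}) :=
  ((AddCommGrpCat.adj.whiskerRight Cᵒᵖ).comp
    (sheafificationAdjunction J AddCommGrpCat.{u})).homEquiv R F

lemma freeEquiv_naturality_left {R R' : Cᵒᵖ ⥤ Type u} (a : R ⟶ R') {F : Sheaf J AddCommGrpCat.{u}}
    (f : (freeP J).obj R' ⟶ F) :
    freeEquiv R F ((freeP J).map a ≫ f) = a ≫ freeEquiv R' F f :=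
  ((AddCommGrpCat.adj.whiskerRight Cᵒᵖ).comp
    (sheafificationAdjunction J AddCommGrpCat.{u})).homEquiv_naturality_left a f

lemma freeEquiv_naturality_right {R : Cᵒᵖ ⥤ Type u} {F G : Sheaf J AddCommGrpCat.{u}}
    (f : (freeP J).obj R ⟶ F) (φ : F ⟶ G) :
    freeEquiv R G (f ≫ φ) = freeEquiv R F f ≫ Functor.whiskerRight φ.hom (forget AddCommGrpCat.{u}) :=
  ((AddCommGrpCat.adj.whiskerRight Cᵒᵖ).comp
    (sheafificationAdjunction J AddCommGrpCat.{u})).homEquiv_naturality_right f φ

/-- The tautological element of a component. -/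
abbrev tautEl (E : FormalCoproduct.{u} C) (i : E.I) : (Sigma.hom.obj E).obj (op (E.obj i)) :=
  FormalCoproduct.Hom.fromIncl i (𝟙 _)

lemma eq_map_tautEl (E : FormalCoproduct.{u} C) {W : Cᵒᵖ} (x : (Sigma.hom.obj E).obj W) :
    x = (Sigma.hom.obj E).map x.asSigma.2.op (tautEl E x.asSigma.1) := by
  refine ((FormalCoproduct.inclHomEquiv W.unop E).injective ?_)
  refine Sigma.ext rfl (heq_of_eq ?_)
  exact (Category.comp_id _).symm

/-- Evaluation of maps out of the free sheaf on a formal coproduct. -/
noncomputable def evalMap (F : Sheaf J AddCommGrpCat.{u}) (E : FormalCoproduct.{u} C) :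
    AddCommGrpCat.of ((freeP J).obj (Sigma.hom.obj E) ⟶ F) ⟶
      ∏ᶜ fun i : E.I => F.obj.obj (op (E.obj i)) :=
  Pi.lift fun i => AddCommGrpCat.ofHom (AddMonoidHom.mk'
    (fun f => (freeEquiv (Sigma.hom.obj E) F f).app (op (E.obj i)) (tautEl E i))
    (fun f g => by rfl))

lemma evalMap_π (F : Sheaf J AddCommGrpCat.{u}) (E : FormalCoproduct.{u} C) (i : E.I)
    (f : (freeP J).obj (Sigma.hom.obj E) ⟶ F) :
    Pi.π (fun i : E.I => F.obj.obj (op (E.obj i))) i (evalMap F E f) =
      (freeEquiv (Sigma.hom.obj E) F f).app (op (E.obj i)) (tautEl E i) := by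
  rw [← ConcreteCategory.comp_apply, evalMap, Pi.lift_π]
  rfl

/-- The map out of the free sheaf defined by sections. -/
noncomputable def ofSections (F : Sheaf J AddCommGrpCat.{u}) (E : FormalCoproduct.{u} C)
    (s : ∀ i : E.I, F.obj.obj (op (E.obj i))) : (freeP J).obj (Sigma.hom.obj E) ⟶ F :=
  (freeEquiv (Sigma.hom.obj E) F).symm
    { app := fun W => ↾fun p => F.obj.map p.asSigma.2.op (s p.asSigma.1)
      naturality := fun W W' g => by
        ext p
        change F.obj.map (g.unop ≫ p.asSigma.2).op _ = F.obj.map g (F.obj.map p.asSigma.2.op _)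
        rw [op_comp, Functor.map_comp]
        rfl }

lemma freeEquiv_ofSections_tautEl (F : Sheaf J AddCommGrpCat.{u}) (E : FormalCoproduct.{u} C)
    (s : ∀ i : E.I, F.obj.obj (op (E.obj i))) (i : E.I) :
    (freeEquiv (Sigma.hom.obj E) F (ofSections F E s)).app (op (E.obj i)) (tautEl E i) = s i := by
  rw [ofSections, Equiv.apply_symm_apply]
  change F.obj.map (𝟙 (E.obj i)).op _ = _
  rw [op_id, F.obj.map_id]
  rfl

lemma hom_ext_tautEl {F : Sheaf J AddCommGrpCat.{u}} {E : FormalCoproduct.{u} C}
    {f g : (freeP J).obj (Sigma.hom.obj E) ⟶ F}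
    (h : ∀ i, (freeEquiv (Sigma.hom.obj E) F f).app (op (E.obj i)) (tautEl E i) =
      (freeEquiv (Sigma.hom.obj E) F g).app (op (E.obj i)) (tautEl E i)) : f = g := by
  apply (freeEquiv (Sigma.hom.obj E) F).injective
  ext W x
  rw [eq_map_tautEl E x]
  exact (NatTrans.naturality_apply _ x.asSigma.2.op _).trans
    ((congrArg _ (h _)).trans (NatTrans.naturality_apply _ x.asSigma.2.op _).symm)

instance isIso_evalMap (F : Sheaf J AddCommGrpCat.{u}) (E : FormalCoproduct.{u} C) :
    IsIso (evalMap F E) := by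
  refine (ConcreteCategory.isIso_iff_bijective _).2 ⟨fun f g h => hom_ext_tautEl fun i => ?_,
    fun x => ⟨ofSections F E fun i => Pi.π (fun i : E.I => F.obj.obj (op (E.obj i))) i x,
      Concrete.limit_ext _ _ _ fun ⟨i⟩ => (evalMap_π F E i _).trans
        (freeEquiv_ofSections_tautEl F E _ i)⟩⟩
  rw [← evalMap_π, ← evalMap_π, h]

/-- Maps out of free sheaves on formal coproducts are the evaluation there. -/
noncomputable def evalIso (F : Sheaf J AddCommGrpCat.{u}) :
    (Sigma.hom (C := C)).op ⋙ (freeP J).op ⋙ preadditiveYoneda.obj F ≅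
      (FormalCoproduct.evalOp.{u} C AddCommGrpCat.{u}).obj F.obj :=
  NatIso.ofComponents (fun E => @asIso _ _ _ _ _ (isIso_evalMap F E.unop)) (fun {E E'} g => by
    refine Pi.hom_ext _ _ fun i => ?_
    ext f
    refine (evalMap_π F E'.unop i _).trans ?_
    refine (congrArg (fun t => t.app (op (E'.unop.obj i)) (tautEl E'.unop i))
      (freeEquiv_naturality_left (Sigma.hom.map g.unop) f)).trans ?_
    let a := freeEquiv (Sigma.hom.obj E.unop) F f
    change a.app (op (E'.unop.obj i)) (tautEl E'.unop i ≫ g.unop) = _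
    have hm : tautEl E'.unop i ≫ g.unop =
        (Sigma.hom.obj E.unop).map (g.unop.φ i).op (tautEl E.unop (g.unop.f i)) := by
      refine FormalCoproduct.hom_ext rfl fun x => ?_
      exact (Category.comp_id _).trans ((Category.id_comp _).trans (Category.comp_id _).symm)
    rw [hm, NatTrans.naturality_apply a]
    refine (congrArg (F.obj.map (g.unop.φ i).op)
      (evalMap_π F E.unop (g.unop.f i) f).symm).trans ?_
    simp only [← ConcreteCategory.comp_apply]
    congr 2
    simp [FormalCoproduct.evalOp]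
    rfl)

end Eval

variable (J) (K : SimplicialObject (FormalCoproduct.{u} C))

/-- The free chain complex of elements. -/
noncomputable abbrev freeCx : ChainComplex (Sheaf J AddCommGrpCat.{u}) ℕ :=
  (AlgebraicTopology.alternatingFaceMapComplex _).obj (freeAug (J := J) (aug K)).left

/-- Comparison with the prelude's free chain complex. -/
noncomputable def freeCxIso : Hyper.freeChainCx J K ≅ freeCx J K :=
  (AlgebraicTopology.alternatingFaceMapComplex _).mapIso
    (Functor.isoWhiskerRight (Functor.isoWhiskerRight (Functor.isoWhiskerLeft K Sigma.compareIso) _)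
      _)

/-- The augmentation. -/
noncomputable abbrev freeε :
    (freeCx J K).X 0 ⟶ (freeP J).obj ((Functor.const Cᵒᵖ).obj PUnit.{u + 1}) :=
  ((AlgebraicTopology.AlternatingFaceMapComplex.ε (C := Sheaf J AddCommGrpCat.{u})).app
    (freeAug (aug K))).f 0

variable {J K}

/-- Fillers make the free complex a resolution. -/
theorem isResolution (hK : HasFillers (ofAugmented (aug K)) J) :
    IsResolution (freeCx J K) (freeε J K) :=
  have := FreeRes.quasiIso_ε hK
  isResolution_of_quasiIso _

theorem isZero_homology_succ (hK : HasFillers (ofAugmented (aug K)) J) (i : ℕ) :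
    IsZero ((Hyper.freeChainCx J K).homology (i + 1)) :=
  IsZero.of_iso ((isResolution hK).exactAt i).isZero_homology
    ((HomologicalComplex.homologyFunctor _ _ (i + 1)).mapIso (freeCxIso J K))

theorem nonempty_homology_zero_iso (hK : HasFillers (ofAugmented (aug K)) J) :
    Nonempty ((Hyper.freeChainCx J K).homology 0 ≅
      (freeP J).obj ((Functor.const Cᵒᵖ).obj PUnit.{u + 1})) := by
  let π := (AlgebraicTopology.AlternatingFaceMapComplex.ε (C := Sheaf J AddCommGrpCat.{u})).app
    (freeAug (J := J) (aug K))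
  have : QuasiIso π := FreeRes.quasiIso_ε hK
  have h0 : QuasiIsoAt π 0 := this.quasiIsoAt 0
  have : IsIso (HomologicalComplex.homologyMap π 0) :=
    (quasiIsoAt_iff_isIso_homologyMap π 0).1 h0
  exact ⟨(HomologicalComplex.homologyFunctor _ _ 0).mapIso (freeCxIso J K) ≪≫
    @asIso _ _ _ _ (HomologicalComplex.homologyMap π 0) this ≪≫
    HomologicalComplex.singleObjHomologySelfIso _ _ _⟩

variable (K) in
/-- The cosimplicial group of maps out of the free simplicial sheaf. -/
noncomputable abbrev homCos (F : Sheaf J AddCommGrpCat.{u}) : CosimplicialObject AddCommGrpCat.{u} :=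
  K.rightOp ⋙ ((Sigma.hom (C := C)).op ⋙ (freeP J).op ⋙ preadditiveYoneda.obj F)

variable (K) in
/-- The complex of maps out of the free complex. -/
noncomputable abbrev homCpx (F : Sheaf J AddCommGrpCat.{u}) : CochainComplex AddCommGrpCat.{u} ℕ :=
  (AlgebraicTopology.alternatingCofaceMapComplex AddCommGrpCat.{u}).obj (homCos K F)

lemma homCpx_d (F : Sheaf J AddCommGrpCat.{u}) (n : ℕ) (x : (freeCx J K).X n ⟶ F) :
    (homCpx K F).d n (n + 1) x = (freeCx J K).d (n + 1) n ≫ x := by
  let G := homCos K F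
  have h1 : ((AlgebraicTopology.alternatingCofaceMapComplex AddCommGrpCat.{u}).obj G).d n (n + 1) =
      ∑ i : Fin (n + 2), (-1 : ℤ) ^ (i : ℕ) • CosimplicialObject.δ G i := by
    exact CochainComplex.of_d (fun n => G.obj ⦋n⦌) (AlgebraicTopology.AlternatingCofaceMapComplex.objD G)
      n
  have h2 : (freeCx J K).d (n + 1) n =
      ∑ i : Fin (n + 2), (-1 : ℤ) ^ (i : ℕ) • (freeAug (J := J) (aug K)).left.δ i :=
    AlgebraicTopology.AlternatingFaceMapComplex.obj_d_eq _ n
  refine (ConcreteCategory.congr_hom h1 x).trans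
    (Eq.trans ?_ (congrArg (fun t => t ≫ x) h2).symm)
  refine ((congrArg (fun t : _ →+ _ => t x) (map_sum (AddCommGrpCat.homAddEquiv
      (M := G.obj ⦋n⦌) (N := G.obj ⦋n + 1⦌)) _ _)).trans (AddMonoidHom.finsetSum_apply _ _ x)).trans ?_
  refine Eq.trans ?_ (Preadditive.sum_comp _ _ _).symm
  refine Finset.sum_congr rfl fun i _ => ?_
  refine Eq.trans ?_ (Preadditive.zsmul_comp _ _ _).symm
  rfl

/-- The Cech complex is the complex of maps out of the free complex. -/
noncomputable def cechIso (F : Sheaf J AddCommGrpCat.{u}) :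
    Hyper.cechCxSite K F.obj ≅ homCpx K F :=
  (AlgebraicTopology.alternatingCofaceMapComplex AddCommGrpCat.{u}).mapIso
    (Functor.isoWhiskerLeft K.rightOp (evalIso F)).symm

theorem isZero_cech_succ (F : Sheaf J AddCommGrpCat.{u}) (q : ℕ)
    (h : ExactHom (freeCx J K) F q) :
    IsZero ((Hyper.cechCxSite K F.obj).homology (q + 1)) := by
  refine IsZero.of_iso ?_ ((HomologicalComplex.homologyFunctor _ _ (q + 1)).mapIso (cechIso F))
  change IsZero ((homCpx K F).homology (q + 1))
  rw [← HomologicalComplex.exactAt_iff_isZero_homology,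
    HomologicalComplex.exactAt_iff' _ q (q + 1) (q + 2) (by simp) (by simp),
    ShortComplex.ab_exact_iff]
  intro x hx
  obtain ⟨y, hy⟩ := h x ((homCpx_d F (q + 1) x).symm.trans hx)
  exact ⟨y, (homCpx_d F q y).trans hy⟩

/-- Injective sheaves have no higher Cech cohomology. -/
theorem isZero_cech_injective (hK : HasFillers (ofAugmented (aug K)) J)
    (I : Sheaf J AddCommGrpCat.{u}) [Injective I] (q : ℕ) :
    IsZero ((Hyper.cechCxSite K I.obj).homology (q + 1)) :=
  isZero_cech_succ I q (exactHom_of_injective _ I q ((isResolution hK).exactAt q))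

/-- Degree zero Cech cohomology is maps out of `ℤ[*]`. -/
theorem nonempty_cech_zero_iso (hK : HasFillers (ofAugmented (aug K)) J)
    (F : Sheaf J AddCommGrpCat.{u}) :
    Nonempty ((Hyper.cechCxSite K F.obj).homology 0 ≅
      AddCommGrpCat.of ((freeP J).obj ((Functor.const Cᵒᵖ).obj PUnit.{u + 1}) ⟶ F)) := by
  have h := isResolution hK
  let T : ShortComplex AddCommGrpCat.{u} := (homCpx K F).sc' 0 0 1
  have hf : T.f = 0 := (homCpx K F).shape 0 0 (by simp)
  let φ : ((freeP J).obj ((Functor.const Cᵒᵖ).obj PUnit.{u + 1}) ⟶ F) →+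
      AddMonoidHom.ker T.g.hom :=
    AddMonoidHom.mk' (fun y => ⟨freeε J K ≫ y, by
      change (homCpx K F).d 0 1 (freeε J K ≫ y) = 0
      rw [homCpx_d]
      exact (Category.assoc _ _ _).symm.trans ((congrArg (· ≫ y) h.w).trans zero_comp)⟩)
      (fun a b => Subtype.ext (Preadditive.comp_add _ _ _ _ _ _))
  have hφ : Function.Bijective φ := by
    have := h.epi
    refine ⟨fun a b e => (cancel_epi (freeε J K)).1 (congrArg Subtype.val e), fun x => ?_⟩
    obtain ⟨y, hy⟩ := h.exists_desc x.1 ((homCpx_d F 0 x.1).symm.trans x.2)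
    exact ⟨y, Subtype.ext hy⟩
  have hr : AddMonoidHom.range T.abToCycles = ⊥ := by
    rw [AddSubgroup.eq_bot_iff_forall]
    rintro _ ⟨x, rfl⟩
    exact Subtype.ext (ConcreteCategory.congr_hom hf x)
  exact ⟨(HomologicalComplex.homologyFunctor _ _ 0).mapIso (cechIso F) ≪≫
    (homCpx K F).homologyIsoSc' 0 0 1 (by simp) (by simp) ≪≫ T.abHomologyIso ≪≫
    AddEquiv.toAddCommGrpIso (((QuotientAddGroup.quotientAddEquivOfEq hr).trans
      QuotientAddGroup.quotientBot).trans (AddEquiv.ofBijective φ hφ).symm)⟩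

/-- The value of a map out of `ℤ[*]` at an object. -/
noncomputable def starValue (F : Sheaf J AddCommGrpCat.{u}) (W : Cᵒᵖ)
    (y : (freeP J).obj ((Functor.const Cᵒᵖ).obj PUnit.{u + 1}) ⟶ F) : F.obj.obj W :=
  (freeEquiv _ F y).app W PUnit.unit

lemma starValue_add (F : Sheaf J AddCommGrpCat.{u}) (W : Cᵒᵖ)
    (a b : (freeP J).obj ((Functor.const Cᵒᵖ).obj PUnit.{u + 1}) ⟶ F) :
    starValue F W (a + b) = starValue F W a + starValue F W b := rfl

/-- The compatible family of values of a map out of `ℤ[*]`. -/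
noncomputable def starFamily (F : Sheaf J AddCommGrpCat.{u})
    (y : (freeP J).obj ((Functor.const Cᵒᵖ).obj PUnit.{u + 1}) ⟶ F) :
    (F.obj ⋙ forget AddCommGrpCat.{u}).sections :=
  ⟨fun W => starValue F W y, by
    intro W W' g
    simp only [starValue]
    generalize freeEquiv _ F y = a
    exact (NatTrans.naturality_apply a g PUnit.unit).symm⟩

/-- The compatible families as an element of the limit. -/
noncomputable def toLimit (F : Sheaf J AddCommGrpCat.{u})
    (y : (freeP J).obj ((Functor.const Cᵒᵖ).obj PUnit.{u + 1}) ⟶ F) :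
    (limit F.obj : AddCommGrpCat.{u}) :=
  (Types.isLimitEquivSections
    (isLimitOfPreserves (forget AddCommGrpCat.{u}) (limit.isLimit F.obj))).symm (starFamily F y)

lemma π_toLimit (F : Sheaf J AddCommGrpCat.{u}) (W : Cᵒᵖ)
    (y : (freeP J).obj ((Functor.const Cᵒᵖ).obj PUnit.{u + 1}) ⟶ F) :
    limit.π F.obj W (toLimit F y) = starValue F W y :=
  Types.isLimitEquivSections_symm_apply
    (isLimitOfPreserves (forget AddCommGrpCat.{u}) (limit.isLimit F.obj)) (starFamily F y) W

/-- Maps out of `ℤ[*]` are the compatible families of sections. -/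
noncomputable def starLimitEquiv (F : Sheaf J AddCommGrpCat.{u}) :
    ((freeP J).obj ((Functor.const Cᵒᵖ).obj PUnit.{u + 1}) ⟶ F) ≃+ (limit F.obj : AddCommGrpCat.{u}) :=
  AddEquiv.ofBijective
    (AddMonoidHom.mk' (toLimit F) (fun a b => Concrete.limit_ext _ _ _ fun W => by
      rw [map_add, π_toLimit, π_toLimit, π_toLimit, starValue_add]))
    ⟨fun a b e => by
      apply (freeEquiv _ F).injective
      ext W ⟨⟩
      exact (π_toLimit F W a).symm.trans ((congrArg (fun t => limit.π F.obj W t) e).trans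
        (π_toLimit F W b)),
    fun s => ⟨(freeEquiv _ F).symm
      { app := fun W => ↾fun _ => limit.π F.obj W s
        naturality := fun W W' g => by
          ext
          exact (ConcreteCategory.congr_hom (limit.w F.obj g) s).symm },
      Concrete.limit_ext _ _ _ fun W => by
        refine (π_toLimit F W _).trans ?_
        rw [starValue, Equiv.apply_symm_apply]
        rfl⟩⟩

end Groth.Agent.Lib.Hypercov.Resolution
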