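import Groth.Agent.Lib.Hypercov.Conditions
import Groth.Agent.Lib.Hypercov.Resolution
import Groth.Agent.Lib.SiteCoh.OverForget

/-!
# Cech cohomology of acyclic sheaves with respect to hypercoverings of an object
-/

universe u

open CategoryTheory Limits Opposite Simplicial Abelian

namespace Groth.Agent.Lib.Hypercov.OverAcyclic

open SiteCoh SiteCoh.FreeRes SiteCoh.Fillers SiteCoh.HomAcyclic Hypercov.Fillers
  Hypercov.Resolution Hypercov.Conditions

variable {C : Type u} [SmallCategory C] {J : GrothendieckTopology C} {X : C}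

/-- Restriction to the localised site. -/
noncomputable abbrev restr (J : GrothendieckTopology C) (X : C) :
    Sheaf J AddCommGrpCat.{u} ⥤ Sheaf (J.over X) AddCommGrpCat.{u} :=
  CohSite.push J (J.over X) (Over.forget X)

/-- The embedding into an injective sheaf. -/
noncomputable abbrev embS (F : Sheaf J AddCommGrpCat.{u}) : ShortComplex (Sheaf J AddCommGrpCat.{u}) :=
  ShortComplex.mk (Injective.ι F) (cokernel.π _) (cokernel.condition _)

lemma embS_shortExact (F : Sheaf J AddCommGrpCat.{u}) : (embS F).ShortExact where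
  exact := ShortComplex.exact_of_g_is_cokernel _ (cokernelIsCokernel _)

lemma surjective_sections {F : Sheaf J AddCommGrpCat.{u}} (hF : ∀ U : C, Subsingleton (CohSite.HU F 1 U))
    (U : C) (s : (embS F).X₃.obj.obj (op U)) :
    ∃ t : (embS F).X₂.obj.obj (op U), (embS F).g.hom.app (op U) t = s := by
  obtain ⟨y, hy⟩ := surjective_comp (embS_shortExact F) (hF U) ((Basic.homEquiv U _).symm s)
  refine ⟨Basic.homEquiv U _ y, ?_⟩
  rw [← Basic.homEquiv_comp, hy, AddEquiv.apply_symm_apply]

lemma acyclic_X₃ {F : Sheaf J AddCommGrpCat.{u}}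
    (hF : ∀ (U : C) (q : ℕ), Subsingleton (CohSite.HU F (q + 1) U)) (U : C) (q : ℕ) :
    Subsingleton (CohSite.HU (embS F).X₃ (q + 1) U) := by
  refine subsingleton_of_forall_eq 0 fun x => ?_
  have : Injective (embS F).X₂ := inferInstanceAs (Injective (Injective.under F))
  obtain ⟨y, hy⟩ := Ext.covariant_sequence_exact₃ (CohCx.freeSheaf J U) (embS_shortExact F) x
    (rfl : q + 1 + 1 = q + 1 + 1) (@Subsingleton.elim _ (hF U (q + 1)) _ _)
  rw [← hy, Ext.eq_zero_of_injective y, Ext.zero_comp]
  rfl

lemma surjective_hom_of_sections {D : Type u} [SmallCategory D] {J' : GrothendieckTopology D}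
    {A B : Sheaf J' AddCommGrpCat.{u}} (φ : A ⟶ B)
    (h : ∀ (U : D) (s : B.obj.obj (op U)), ∃ t : A.obj.obj (op U), φ.hom.app (op U) t = s)
    (E : FormalCoproduct.{u} D) (x : (freeP J').obj (Sigma.hom.obj E) ⟶ B) :
    ∃ y : (freeP J').obj (Sigma.hom.obj E) ⟶ A, y ≫ φ = x := by
  choose t ht using fun i : E.I => h (E.obj i)
    ((freeEquiv (Sigma.hom.obj E) B x).app (op (E.obj i)) (tautEl E i))
  refine ⟨ofSections A E t, hom_ext_tautEl fun i => ?_⟩
  rw [freeEquiv_naturality_right]
  exact (congrArg (φ.hom.app (op (E.obj i))) (freeEquiv_ofSections_tautEl A E t i)).trans (ht i)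

lemma surjective_sections_restr (F : Sheaf J AddCommGrpCat.{u})
    (hF : ∀ U : C, Subsingleton (CohSite.HU F 1 U)) (W : Over X)
    (s : ((embS F).map (restr J X)).X₃.obj.obj (op W)) :
    ∃ t : ((embS F).map (restr J X)).X₂.obj.obj (op W),
      ((embS F).map (restr J X)).g.hom.app (op W) t = s :=
  surjective_sections hF W.left s

lemma surjective_hom_star (F : Sheaf J AddCommGrpCat.{u})
    (hF : ∀ U : C, Subsingleton (CohSite.HU F 1 U))
    (x : (freeP (J.over X)).obj ((Functor.const (Over X)ᵒᵖ).obj PUnit.{u + 1}) ⟶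
      ((embS F).map (restr J X)).X₃) :
    ∃ y, y ≫ ((embS F).map (restr J X)).g = x := by
  obtain ⟨t, ht⟩ := surjective_sections hF X (starValue _ (op (Over.mk (𝟙 X))) x)
  let a : (Functor.const (Over X)ᵒᵖ).obj PUnit.{u + 1} ⟶
      ((embS F).map (restr J X)).X₂.obj ⋙ forget AddCommGrpCat.{u} :=
    { app := fun W => ↾fun _ => (embS F).X₂.obj.map W.unop.hom.op t
      naturality := fun V W g => by
        ext
        change (embS F).X₂.obj.map W.unop.hom.op t =
          (embS F).X₂.obj.map g.unop.left.op ((embS F).X₂.obj.map V.unop.hom.op t)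
        rw [← Over.w g.unop, op_comp, Functor.map_comp]
        rfl }
  refine ⟨(freeEquiv _ _).symm a, (freeEquiv _ _).injective ?_⟩
  rw [freeEquiv_naturality_right, Equiv.apply_symm_apply]
  ext W ⟨⟩
  change (embS F).g.hom.app (op W.unop.left) ((embS F).X₂.obj.map W.unop.hom.op t) = _
  refine (NatTrans.naturality_apply (embS F).g.hom W.unop.hom.op t).trans ?_
  rw [ht]
  exact (NatTrans.naturality_apply (freeEquiv _ _ x)
    (Over.homMk W.unop.hom (Category.comp_id _) : W.unop ⟶ Over.mk (𝟙 X)).op PUnit.unit).symm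

variable (K : SimplicialObject (FormalCoproduct.{u} (Over X)))
  [∀ (n : ℕ) (F : (SimplexCategory.Truncated n)ᵒᵖ ⥤ FormalCoproduct.{u} (Over X)),
    (SimplexCategory.Truncated.inclusion n).op.HasRightKanExtension F]

theorem exactHom_restr (hK : Hyper.IsHypercovering J X K) (p : ℕ) :
    ∀ F : Sheaf J AddCommGrpCat.{u}, (∀ (U : C) (q : ℕ), Subsingleton (CohSite.HU F (q + 1) U)) →
      ExactHom (freeCx (J.over X) K) ((restr J X).obj F) p := by
  have hres := isResolution (hasFillers_over J X K hK)
  induction p with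
  | zero =>
    intro F hF
    have hS := (embS_shortExact F).map_of_exact (restr J X)
    have : Injective (embS F).X₂ := inferInstanceAs (Injective (Injective.under F))
    have : Injective ((embS F).map (restr J X)).X₂ :=
      inferInstanceAs (Injective ((restr J X).obj (embS F).X₂))
    exact exactHom_X₁_zero hS hres (surjective_hom_star F fun U => hF U 0)
      (exactHom_of_injective _ _ 0 (hres.exactAt 0))
  | succ p ih =>
    intro F hF
    have hS := (embS_shortExact F).map_of_exact (restr J X)
    have : Injective (embS F).X₂ := inferInstanceAs (Injective (Injective.under F))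
    have : Injective ((embS F).map (restr J X)).X₂ :=
      inferInstanceAs (Injective ((restr J X).obj (embS F).X₂))
    exact exactHom_X₁_succ hS p
      (surjective_hom_of_sections _ (surjective_sections_restr F fun U => hF U 0) _)
      (exactHom_of_injective _ _ (p + 1) (hres.exactAt (p + 1))) (ih _ (acyclic_X₃ hF))

end Groth.Agent.Lib.Hypercov.OverAcyclic
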