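import Groth.Agent.Lib.Hypercov.Dies
import Groth.Agent.Lib.Hypercov.OverAcyclic
import Mathlib.CategoryTheory.Sites.Whiskering

/-!
# The degree zero class of a section
-/

universe u

open CategoryTheory Limits Opposite Simplicial

namespace Groth.Agent.Lib.Hypercov.AugClass

open Hypercov.Fillers Hypercov.Labels KillZero

variable {C : Type u} [SmallCategory C] {X : C}
  (K : SimplicialObject (FormalCoproduct.{u} (Over X))) (P : Cᵒᵖ ⥤ AddCommGrpCat.{u})

/-- The restrictions of a section. -/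
noncomputable def aug₀ : P.obj (op X) ⟶ (Hyper.cechCx X K P).X 0 :=
  Pi.lift fun i => P.map ((K.obj (op ⦋0⦌)).obj i).hom.op

lemma aug₀_π (s : P.obj (op X)) (i : (K.obj (op ⦋0⦌)).I) :
    Pi.π (fun i => ((Over.forget X).op ⋙ P).obj (op ((K.obj (op ⦋0⦌)).obj i))) i
      (aug₀ K P s) = P.map ((K.obj (op ⦋0⦌)).obj i).hom.op s :=
  ConcreteCategory.congr_hom (Pi.lift_π _ i) s

lemma aug₀_comp_π (i : (K.obj (op ⦋0⦌)).I) :
    aug₀ K P ≫ Pi.π (fun i => ((Over.forget X).op ⋙ P).obj (op ((K.obj (op ⦋0⦌)).obj i))) i =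
      P.map ((K.obj (op ⦋0⦌)).obj i).hom.op :=
  Pi.lift_π _ i

lemma valAt_aug₀ (s : P.obj (op X)) {W : Over X} (e : El (K.obj (op ⦋0⦌)) W) :
    valAt P (aug₀ K P s) e = P.map W.hom.op s := by
  change P.map (hm e).left.op
    (Pi.π (fun i => ((Over.forget X).op ⋙ P).obj (op ((K.obj (op ⦋0⦌)).obj i))) (ix e)
      (aug₀ K P s)) = _
  rw [aug₀_π, ← ConcreteCategory.comp_apply, ← Functor.map_comp, ← op_comp, Over.w]

lemma d_π (c : (Hyper.cechCx X K P).X 0) (i : (K.obj (op ⦋1⦌)).I) :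
    Pi.π (fun i => ((Over.forget X).op ⋙ P).obj (op ((K.obj (op ⦋1⦌)).obj i))) i
      ((Hyper.cechCx X K P).d 0 1 c) =
      valAt P c (mkEl i (𝟙 _) ≫ K.δ (0 : Fin 2)) - valAt P c (mkEl i (𝟙 _) ≫ K.δ (1 : Fin 2)) := by
  have hd : (Hyper.cechCx X K P).d 0 1 =
      ∑ j : Fin 2, (-1 : ℤ) ^ (j : ℕ) • CosimplicialObject.δ
        ((FormalCoproduct.cosimplicialObjectFunctor K).obj ((Over.forget X).op ⋙ P)) j :=
    CochainComplex.of_d (fun m => ((FormalCoproduct.cosimplicialObjectFunctor K).obj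
      ((Over.forget X).op ⋙ P)).obj ⦋m⦌) (AlgebraicTopology.AlternatingCofaceMapComplex.objD _) 0
  have hδ : ∀ j : Fin 2, Pi.π (fun i => ((Over.forget X).op ⋙ P).obj (op ((K.obj (op ⦋1⦌)).obj i))) i
      ((CosimplicialObject.δ ((FormalCoproduct.cosimplicialObjectFunctor K).obj
        ((Over.forget X).op ⋙ P)) j) c) = valAt P c (mkEl i (𝟙 _) ≫ K.δ j) := fun j => by
    refine (ConcreteCategory.congr_hom (Pi.lift_π (fun k => Pi.π _ ((K.δ j).f k) ≫
      ((Over.forget X).op ⋙ P).map ((K.δ j).φ k).op) i) c).trans ?_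
    exact (congrArg (fun t : (K.obj (op ⦋1⦌)).obj i ⟶ (K.obj (op ⦋0⦌)).obj ((K.δ j).f i) =>
      P.map t.left.op (Pi.π (fun k => ((Over.forget X).op ⋙ P).obj (op ((K.obj (op ⦋0⦌)).obj k)))
        ((K.δ j).f i) c)) (Category.id_comp ((K.δ j).φ i))).symm
  rw [hd, Fin.sum_univ_two]
  simp only [Fin.val_zero, pow_zero, one_zsmul, Fin.val_one, pow_one, neg_one_zsmul]
  refine (map_add (Pi.π (fun i => ((Over.forget X).op ⋙ P).obj (op ((K.obj (op ⦋1⦌)).obj i))) i).hom
    _ _).trans ?_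
  rw [sub_eq_add_neg]
  refine congrArg₂ (· + ·) (hδ 0) ?_
  exact (map_neg (Pi.π (fun i => ((Over.forget X).op ⋙ P).obj
    (op ((K.obj (op ⦋1⦌)).obj i))) i).hom _).trans (congrArg (- ·) (hδ 1))

lemma aug₀_d : aug₀ K P ≫ (Hyper.cechCx X K P).d 0 1 = 0 := by
  refine ConcreteCategory.hom_ext _ _ fun s => ?_
  refine Concrete.limit_ext _ _ _ fun ⟨i⟩ => ?_
  refine (d_π K P (aug₀ K P s) i).trans ?_
  rw [valAt_aug₀, valAt_aug₀, sub_self]
  exact (map_zero _).symm

/-- The class of a section. -/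
noncomputable def aug : P.obj (op X) ⟶ Hyper.cechH X K P 0 :=
  (Hyper.cechCx X K P).liftCycles (aug₀ K P) 1 (by simp) (aug₀_d K P) ≫
    (Hyper.cechCx X K P).homologyπ 0

variable {K P}

lemma aug_coef {Q : Cᵒᵖ ⥤ AddCommGrpCat.{u}} (φ : P ⟶ Q) (s : P.obj (op X)) :
    Dies.coefMap K φ 0 (aug K P s) = aug K Q (φ.app (op X) s) := by
  have h : aug₀ K P ≫ ((Dies.cech K).map φ).f 0 = φ.app (op X) ≫ aug₀ K Q := by
    refine Pi.hom_ext _ _ fun i => ?_
    refine ((Category.assoc _ _ _).trans ((congrArg (aug₀ K P ≫ ·) (Pi.map_π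
      (fun i => φ.app (op ((K.obj (op ⦋0⦌)).obj i).left)) i)).trans (Category.assoc _ _ _).symm)).trans ?_
    refine (congrArg (· ≫ φ.app _) (Pi.lift_π _ i)).trans ?_
    refine (φ.naturality _).trans ?_
    exact ((Category.assoc _ _ _).trans (congrArg (φ.app (op X) ≫ ·) (aug₀_comp_π K Q i))).symm
  have e : aug K P ≫ Dies.coefMap K φ 0 = φ.app (op X) ≫ aug K Q := by
    simp only [aug, Dies.coefMap, Category.assoc, HomologicalComplex.homologyπ_naturality]
    rw [← Category.assoc, HomologicalComplex.liftCycles_comp_cyclesMap, ← Category.assoc,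
      HomologicalComplex.comp_liftCycles]
    simp only [h]
    rfl
  exact ConcreteCategory.congr_hom e s

lemma aug_refine {L : SimplicialObject (FormalCoproduct.{u} (Over X))} (f : L ⟶ K)
    (s : P.obj (op X)) : Hyper.cechHMap X f P 0 (aug K P s) = aug L P s := by
  have h : aug₀ K P ≫ (Hyper.cechMap X f P).f 0 = aug₀ L P := by
    refine Pi.hom_ext _ _ fun i => ?_
    refine ((Category.assoc _ _ _).trans (congrArg (aug₀ K P ≫ ·) (Pi.lift_π (fun j => Pi.π _ ((f.app (op ⦋0⦌)).f j) ≫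
      ((Over.forget X).op ⋙ P).map ((f.app (op ⦋0⦌)).φ j).op) i))).trans ?_
    refine ((Category.assoc _ _ _).symm.trans (congrArg (· ≫ _) (Pi.lift_π _ _))).trans ?_
    refine Eq.trans ?_ (aug₀_comp_π L P i).symm
    change P.map _ ≫ P.map ((f.app (op ⦋0⦌)).φ i).left.op = _
    rw [← P.map_comp, ← op_comp, Over.w]
  have e : aug K P ≫ HomologicalComplex.homologyMap (Hyper.cechMap X f P) 0 = aug L P := by
    simp only [aug, Category.assoc, HomologicalComplex.homologyπ_naturality]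
    rw [← Category.assoc, HomologicalComplex.liftCycles_comp_cyclesMap]
    simp only [h]
  exact ConcreteCategory.congr_hom e s

variable {J : GrothendieckTopology C}
  [∀ (n : ℕ) (F : (SimplexCategory.Truncated n)ᵒᵖ ⥤ FormalCoproduct.{u} (Over X)),
    (SimplexCategory.Truncated.inclusion n).op.HasRightKanExtension F]

/-- For a sheaf, sections are the degree zero classes. -/
theorem bijective_aug (hK : Hyper.IsHypercovering J X K) (F : Sheaf J AddCommGrpCat.{u}) :
    Function.Bijective (aug K F.obj) := by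
  haveI : IsIso ((Hyper.cechCx X K F.obj).homologyπ 0) :=
    inferInstanceAs (IsIso (CochainComplex.isoHomologyπ₀ (Hyper.cechCx X K F.obj)).hom)
  let π₀ := asIso ((Hyper.cechCx X K F.obj).homologyπ 0)
  have hiC : Function.Injective ((Hyper.cechCx X K F.obj).iCycles 0) :=
    (AddCommGrpCat.mono_iff_injective _).1 inferInstance
  have hl : ∀ s, (Hyper.cechCx X K F.obj).iCycles 0
      ((Hyper.cechCx X K F.obj).liftCycles (aug₀ K F.obj) 1 (by simp) (aug₀_d K F.obj) s) =
        aug₀ K F.obj s := fun s =>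
    ConcreteCategory.congr_hom ((Hyper.cechCx X K F.obj).liftCycles_i _ _ _ _) s
  refine ⟨fun s t hst => ?_, fun ξ => ?_⟩
  · have h1 : aug₀ K F.obj s = aug₀ K F.obj t := by
      rw [← hl, ← hl]
      exact congrArg _ ((ConcreteCategory.bijective_of_isIso π₀.hom).1 hst)
    refine Sheaf.isSeparated F _ _ hK.1 _ _ fun V g hg => ?_
    obtain ⟨i, a, rfl⟩ := (Sieve.mem_ofArrows_iff _ _ _).1 hg
    change F.obj.map (a ≫ _).op s = F.obj.map (a ≫ _).op t
    rw [op_comp, Functor.map_comp, ConcreteCategory.comp_apply, ConcreteCategory.comp_apply]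
    refine congrArg _ ?_
    rw [← aug₀_π, ← aug₀_π, h1]
  · obtain ⟨z, rfl⟩ := (ConcreteCategory.bijective_of_isIso π₀.hom).2 ξ
    let c : (Hyper.cechCx X K F.obj).X 0 := (Hyper.cechCx X K F.obj).iCycles 0 z
    let x : ∀ i : (K.obj (op ⦋0⦌)).I, F.obj.obj (op ((K.obj (op ⦋0⦌)).obj i).left) := fun i =>
      Pi.π (fun i => ((Over.forget X).op ⋙ F.obj).obj (op ((K.obj (op ⦋0⦌)).obj i))) i c
    have hdc : (Hyper.cechCx X K F.obj).d 0 1 c = 0 :=
      ConcreteCategory.congr_hom ((Hyper.cechCx X K F.obj).iCycles_d 0 1) z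
    have hsheaf := (isSheaf_iff_isSheaf_of_type J (F.obj ⋙ forget AddCommGrpCat.{u})).1
      ((sheafCompose J (forget AddCommGrpCat.{u})).obj F).2 _ hK.1
    rw [Sieve.ofArrows, ← Presieve.isSheafFor_iff_generate, Presieve.isSheafFor_arrows_iff] at hsheaf
    have hx : Presieve.Arrows.Compatible (F.obj ⋙ forget AddCommGrpCat.{u})
        (fun i => ((K.obj (op ⦋0⦌)).obj i).hom) x := by
      intro i j Z gi gj hg
      let W : Over X := Over.mk (gi ≫ ((K.obj (op ⦋0⦌)).obj i).hom)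
      let y : Fin (0 + 2) → El (K.obj (op ⦋0⦌)) W :=
        ![mkEl i (Over.homMk gi rfl), mkEl j (Over.homMk gj hg.symm)]
      have hcov := Conditions.fillSieve_zero J X K hK W y
      rw [GrothendieckTopology.mem_over_iff] at hcov
      change F.obj.map gi.op (x i) = F.obj.map gj.op (x j)
      refine Sheaf.isSeparated F _ _ hcov _ _ fun V g hgV => ?_
      rw [Sieve.overEquiv_iff] at hgV
      obtain ⟨e, he⟩ := hgV
      let e' : El (K.obj (op ⦋1⦌)) (Over.mk (g ≫ W.hom)) := e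
      have h01 : valAt F.obj c (e' ≫ K.δ (0 : Fin 2)) = valAt F.obj c (e' ≫ K.δ (1 : Fin 2)) := by
        have hd := d_π K F.obj c (ix e')
        replace hd := sub_eq_zero.1 (hd.symm.trans ((congrArg _ hdc).trans (map_zero _)))
        have : e' = (FormalCoproduct.incl _).map (hm e') ≫ mkEl (ix e') (𝟙 _) :=
          el_ext rfl ((Category.comp_id _).trans (Category.comp_id _).symm)
        rw [this, Category.assoc, Category.assoc]
        exact ((valAt_restr F.obj c (hm e') _).trans (congrArg _ hd)).trans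
          (valAt_restr F.obj c (hm e') _).symm
      have e0 : e' ≫ K.δ (0 : Fin 2) = (FormalCoproduct.incl _).map (Over.homMk g rfl :
          Over.mk (g ≫ W.hom) ⟶ W) ≫ y 0 := he 0
      have e1 : e' ≫ K.δ (1 : Fin 2) = (FormalCoproduct.incl _).map (Over.homMk g rfl :
          Over.mk (g ≫ W.hom) ⟶ W) ≫ y 1 := he 1
      rw [e0, e1] at h01
      exact ((valAt_restr F.obj c _ (y 0)).symm.trans h01).trans (valAt_restr F.obj c _ (y 1))
    obtain ⟨s, hs, -⟩ := hsheaf x hx
    refine ⟨s, congrArg π₀.hom (hiC ?_)⟩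
    refine (hl s).trans ?_
    exact Concrete.limit_ext _ _ _ fun ⟨i⟩ => (aug₀_π K F.obj s i).trans (hs i)

end Groth.Agent.Lib.Hypercov.AugClass
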