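import Groth.Prelude.Def_Hyper2
import Mathlib.AlgebraicTopology.SimplicialObject.ChainHomotopy
import Mathlib.Algebra.Homology.Homotopy

/-!
# Homotopic maps of simplicial formal coproducts agree on Cech cohomology
-/

universe u

open CategoryTheory Limits Opposite Simplicial AlgebraicTopology

namespace Groth.Agent.Lib.Hypercov.CechHomotopy

variable {C : Type u} [SmallCategory C] (X : C) (P : Cᵒᵖ ⥤ AddCommGrpCat.{u})

/-- Products of sections, contravariantly. -/
noncomputable abbrev G : FormalCoproduct.{u} (Over X) ⥤ AddCommGrpCat.{u}ᵒᵖ :=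
  ((FormalCoproduct.evalOp.{u} (Over X) AddCommGrpCat.{u}).obj ((Over.forget X).op ⋙ P)).rightOp

variable {X P} {K L : SimplicialObject (FormalCoproduct.{u} (Over X))} {a b : L ⟶ K}

lemma d_eq (K : SimplicialObject (FormalCoproduct.{u} (Over X))) (n : ℕ) :
    (Hyper.cechCx X K P).d n (n + 1) =
      (((alternatingFaceMapComplex AddCommGrpCat.{u}ᵒᵖ).obj (K ⋙ G X P)).d (n + 1) n).unop := by
  rw [alternatingFaceMapComplex_obj_d]
  refine (CochainComplex.of_d (fun m => (FormalCoproduct.cosimplicialObjectFunctor K).obj
    ((Over.forget X).op ⋙ P) |>.obj ⦋m⦌) (AlternatingCofaceMapComplex.objD _) n).trans ?_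
  simp only [AlternatingCofaceMapComplex.objD, AlternatingFaceMapComplex.objD, unop_sum,
    unop_zsmul]
  rfl

/-- The cochain homotopy. -/
noncomputable def homotopy (H : SimplicialObject.Homotopy a b) :
    Homotopy (Hyper.cechMap X a P) (Hyper.cechMap X b P) where
  hom i j := ((H.whiskerRight (G X P)).toChainHomotopy.hom j i).unop
  zero i j hij := by
    rw [(H.whiskerRight (G X P)).toChainHomotopy.zero j i hij]
    rfl
  comm n := by
    have h := congrArg Quiver.Hom.unop ((H.whiskerRight (G X P)).toChainHomotopy.comm n)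
    refine h.trans ?_
    cases n with
    | zero =>
      rw [prevD_eq (j' := 1) (w := by simp), dNext_eq_zero _ _ (by simp), zero_add,
        dNext_eq (i' := 1) (w := by simp), prevD_eq_zero _ _ (by simp), add_zero, d_eq K 0]
      simp only [unop_add, unop_comp]
      rfl
    | succ n =>
      rw [dNext_eq (i' := n) (w := by simp), prevD_eq (j' := n + 2) (w := by simp),
        dNext_eq (i' := n + 2) (w := by simp), prevD_eq (j' := n) (w := by simp),
        d_eq K (n + 1), d_eq L n]
      simp only [unop_add, unop_comp]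
      rw [add_comm (((H.whiskerRight (G X P)).toChainHomotopy.hom n (n + 1)).unop ≫ _)]
      rfl

theorem cechHMap_eq (H : SimplicialObject.Homotopy a b) (p : ℕ) :
    Hyper.cechHMap X a P p = Hyper.cechHMap X b P p :=
  congrArg AddCommGrpCat.Hom.hom ((homotopy H).homologyMap_eq p)

end Groth.Agent.Lib.Hypercov.CechHomotopy
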