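import Mathlib.AlgebraicTopology.CechNerve
import Mathlib.AlgebraicTopology.SimplicialObject.Coskeletal

/-!
# Cech nerves over the terminal object are coskeletal
-/

universe v u

open CategoryTheory Limits Opposite Simplicial

namespace Groth.Agent.Lib.Hypercov.CechNerveCosk

variable {C : Type u} [Category.{v} C] [HasFiniteProducts C] (X : C) (n : ℕ)

/-- The zeroth object of the truncation. -/
abbrev zeroT : (SimplexCategory.Truncated n)ᵒᵖ := op ⟨⦋0⦌, Nat.zero_le n⟩

/-- A vertex. -/
abbrev vertex (m : SimplexCategory) (i : Fin (m.len + 1)) : (⦋0⦌ : SimplexCategory) ⟶ m :=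
  SimplexCategory.const ⦋0⦌ m i

lemma const_comp {m m' : SimplexCategory} (θ : m' ⟶ m) (i : Fin (m'.len + 1)) :
    vertex m' i ≫ θ = vertex m (θ.toOrderHom i) := by
  ext j
  rfl

lemma π_vertex (m : SimplexCategory) (i : Fin (m.len + 1)) :
    (cechNerveTerminalFrom X).map (vertex m i).op ≫ Pi.π (fun _ : Fin (0 + 1) => X) 0 =
      Pi.π (fun _ : Fin (m.len + 1) => X) i :=
  Pi.lift_π _ _

/-- The comparison map. -/
noncomputable def lift {G : SimplicialObject C}
    (α : (SimplexCategory.Truncated.inclusion n).op ⋙ G ⟶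
      (SimplexCategory.Truncated.inclusion n).op ⋙ cechNerveTerminalFrom X) :
    G ⟶ cechNerveTerminalFrom X where
  app m := Pi.lift fun i => G.map (vertex m.unop i).op ≫ α.app (zeroT n) ≫
    Pi.π (fun _ : Fin (0 + 1) => X) 0
  naturality m m' φ := Pi.hom_ext _ _ fun i => by
    have h := congrArg (fun t => t ≫ α.app (zeroT n) ≫ Pi.π (fun _ : Fin (0 + 1) => X) 0)
      (congrArg (fun t => G.map (Quiver.Hom.op t)) (const_comp φ.unop i))
    simp only [op_comp, Quiver.Hom.op_unop, Functor.map_comp, Category.assoc] at h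
    refine ((Category.assoc _ _ _).trans (congrArg (G.map φ ≫ ·) (Pi.lift_π _ _))).trans ?_
    refine h.trans ?_
    symm
    refine ((Category.assoc _ _ _).trans (congrArg (_ ≫ ·) (Pi.lift_π _ _))).trans ?_
    exact Pi.lift_π _ _

theorem isCoskeletal : SimplicialObject.IsCoskeletal (cechNerveTerminalFrom X) n where
  isRightKanExtension := ⟨⟨IsTerminal.ofUniqueHom
    (fun s => CostructuredArrow.homMk (lift X n s.hom) (by
      refine NatTrans.ext (funext fun j => Pi.hom_ext _ _ fun i => ?_)
      have h := congrArg (· ≫ Pi.π (fun _ : Fin (0 + 1) => X) 0)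
        (s.hom.naturality (X := j) (Y := zeroT n)
          (ObjectProperty.homMk (X := (zeroT n).unop) (Y := j.unop) (vertex j.unop.obj i)).op)
      simp only [Category.assoc] at h
      refine ((Category.assoc _ _ _).trans (congrArg ((lift X n s.hom).app _ ≫ ·)
        (Category.id_comp _))).trans ?_
      exact (Pi.lift_π _ _).trans (((Category.assoc _ _ _).symm.trans h).trans ((Category.assoc _ _ _).trans (congrArg (s.hom.app j ≫ ·) (π_vertex X _ i))))))
    (fun s f => by
      apply CostructuredArrow.hom_ext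
      refine NatTrans.ext (funext fun m => Pi.hom_ext _ _ fun i => ?_)
      change f.left.app m ≫ _ = (lift X n s.hom).app m ≫ Pi.π (fun _ : Fin (m.unop.len + 1) => X) i
      rw [show (lift X n s.hom).app m ≫ Pi.π (fun _ : Fin (m.unop.len + 1) => X) i =
        s.left.map (vertex m.unop i).op ≫ s.hom.app (zeroT n) ≫
          Pi.π (fun _ : Fin (0 + 1) => X) 0 from Pi.lift_π _ _]
      have hf : f.left.app (op ⦋0⦌) = s.hom.app (zeroT n) :=
        (Category.comp_id _).symm.trans (NatTrans.congr_app (CostructuredArrow.w f) (zeroT n))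
      rw [← hf, ← π_vertex X m.unop i]
      refine ((Category.assoc _ _ _).symm.trans ((congrArg (· ≫ Pi.π (fun _ : Fin (0 + 1) => X) 0)
        (f.left.naturality (vertex m.unop i).op).symm).trans (Category.assoc _ _ _))))⟩⟩

end Groth.Agent.Lib.Hypercov.CechNerveCosk
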