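import Groth.Agent.Lib.Hypercov.Fillers
import Mathlib.CategoryTheory.Sites.Over
import Mathlib.CategoryTheory.Limits.Shapes.BinaryProducts

/-!
# The covering conditions of hypercoverings as local fillers
-/

universe u

open CategoryTheory Limits Opposite Simplicial SimplexCategory

namespace Groth.Agent.Lib.Hypercov.Conditions

open SiteCoh SiteCoh.FreeRes SiteCoh.Fillers Hypercov.Fillers

variable {C : Type u} [SmallCategory C]

/-- The element of a formal coproduct given by an element of the coproduct of representables. -/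
noncomputable abbrev toEl {E : FormalCoproduct.{u} C} {W : C}
    (x : ((FormalCoproduct.yoneda (C := C)).obj E).obj (op W)) : El E W :=
  (Sigma.compareIso.hom.app E).app (op W) x

lemma toEl_map {E : FormalCoproduct.{u} C} {V W : C} (g : V ⟶ W)
    (x : ((FormalCoproduct.yoneda (C := C)).obj E).obj (op W)) :
    toEl (((FormalCoproduct.yoneda (C := C)).obj E).map g.op x) =
      (FormalCoproduct.incl C).map g ≫ toEl x :=
  NatTrans.naturality_apply (Sigma.compareIso.hom.app E) g.op x

lemma toEl_comp {E E' : FormalCoproduct.{u} C} (f : E ⟶ E') {W : C}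
    (x : ((FormalCoproduct.yoneda (C := C)).obj E).obj (op W)) :
    toEl ((FormalCoproduct.yoneda.map f).app (op W) x) = toEl x ≫ f :=
  ConcreteCategory.congr_hom
    (NatTrans.congr_app (Sigma.compareIso.hom.naturality f) (op W)) x

lemma toEl_injective {E : FormalCoproduct.{u} C} {W : C} :
    Function.Injective (toEl (E := E) (W := W)) := by
  have : IsIso ((Sigma.compareIso.hom.app E).app (op W)) := inferInstance
  exact ((isIso_iff_bijective _).1 this).1

/-- The element of the coproduct of representables given by an element. -/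
noncomputable abbrev ofEl {E : FormalCoproduct.{u} C} {W : C} (y : El E W) :
    ((FormalCoproduct.yoneda (C := C)).obj E).obj (op W) :=
  (Sigma.compareIso.inv.app E).app (op W) y

lemma toEl_ofEl {E : FormalCoproduct.{u} C} {W : C} (y : El E W) : toEl (ofEl y) = y :=
  ConcreteCategory.congr_hom
    (NatTrans.congr_app (Sigma.compareIso.inv_hom_id_app E) (op W)) y

lemma isLocallySurjective_yoneda_map {J : GrothendieckTopology C} {E E' : FormalCoproduct.{u} C}
    (f : E ⟶ E') (h : Presheaf.IsLocallySurjective J (Sigma.hom.map f)) :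
    Presheaf.IsLocallySurjective J (FormalCoproduct.yoneda.map f) := ⟨fun {U} s => by
  refine J.superset_covering ?_ (Presheaf.imageSieve_mem J (Sigma.hom.map f) (toEl s))
  rintro V g ⟨x, hx⟩
  refine ⟨ofEl x, toEl_injective ?_⟩
  rw [toEl_comp, toEl_ofEl, toEl_map]
  exact hx⟩

lemma prod_app_ext {P Q : Cᵒᵖ ⥤ Type u} {V : C} {x y : (P ⨯ Q).obj (op V)}
    (h₁ : (prod.fst : P ⨯ Q ⟶ P).app (op V) x = (prod.fst : P ⨯ Q ⟶ P).app (op V) y)
    (h₂ : (prod.snd : P ⨯ Q ⟶ Q).app (op V) x = (prod.snd : P ⨯ Q ⟶ Q).app (op V) y) : x = y := by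
  apply yonedaEquiv.symm.injective
  refine Limits.prod.hom_ext ?_ ?_ <;> apply yonedaEquiv.injective <;>
    simp only [yonedaEquiv_comp, Equiv.apply_symm_apply] <;> assumption

lemma isSRCovering_of_isLocallySurjective {J : GrothendieckTopology C}
    {E E' : FormalCoproduct.{u} C} (f : E ⟶ E')
    (h : Presheaf.IsLocallySurjective J (Sigma.hom.map f)) : Hyper.IsSRCovering J f := by
  intro j
  refine J.superset_covering ?_ (Presheaf.imageSieve_mem J (Sigma.hom.map f) (U := op (E'.obj j))
    (FormalCoproduct.Hom.fromIncl j (𝟙 _)))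
  rintro V g ⟨x, hx⟩
  change x ≫ f = (FormalCoproduct.incl C).map g ≫ FormalCoproduct.Hom.fromIncl j (𝟙 _) at hx
  obtain ⟨xf, xφ⟩ := x
  have hi : f.f (xf PUnit.unit) = j := congrFun (congrArg FormalCoproduct.Hom.f hx) PUnit.unit
  refine (Sieve.mem_ofArrows_iff _ _ _).2 ⟨⟨xf PUnit.unit, hi⟩, xφ PUnit.unit, ?_⟩
  subst hi
  injection hx with h1 h2
  have h3 : xφ PUnit.unit ≫ f.φ (xf PUnit.unit) = g ≫ 𝟙 _ := congrFun h2 PUnit.unit
  rw [eqToHom_refl, Category.comp_id]
  exact ((Category.comp_id g).symm.trans h3.symm)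

section Site

variable (J : GrothendieckTopology C) (K : SimplicialObject (FormalCoproduct.{u} C))
  [∀ (n : ℕ) (F : (SimplexCategory.Truncated n)ᵒᵖ ⥤ FormalCoproduct.{u} C),
    (SimplexCategory.Truncated.inclusion n).op.HasRightKanExtension F]

/-- A hypercovering of the final object has local fillers. -/
theorem hasFillers_site (hK : Hyper.IsHypercoveringSite J K) :
    HasFillers (ofAugmented (aug K)) J := by
  refine hasFillers K J (fun W => ?_) (fun W y => ?_) (fun n => ?_)
  · let t := (terminal.from ((Functor.const Cᵒᵖ).obj PUnit.{u + 1})).app (op W) PUnit.unit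
    refine ⟨_, hK.1.imageSieve_mem t, fun V g hg => ?_⟩
    obtain ⟨x, -⟩ := hg
    exact ⟨toEl x⟩
  · let f1 := FormalCoproduct.yoneda.map (K.δ (1 : Fin 2))
    let f0 := FormalCoproduct.yoneda.map (K.δ (0 : Fin 2))
    let t := (prod.lift (yonedaEquiv.symm (ofEl (y 1))) (yonedaEquiv.symm (ofEl (y 0)))).app (op W) (𝟙 W)
    refine J.superset_covering ?_ (hK.2.1.imageSieve_mem t)
    rintro V g ⟨x, hx⟩
    refine ⟨toEl x, ?_⟩
    have key : ∀ (P : Cᵒᵖ ⥤ Type u) (q : _ ⨯ _ ⟶ P),
        (prod.lift f1 f0 ≫ q).app (op V) x =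
          P.map g.op ((prod.lift (yonedaEquiv.symm (ofEl (y 1)))
            (yonedaEquiv.symm (ofEl (y 0))) ≫ q).app (op W) (𝟙 W)) := fun P q =>
      (congrArg (q.app (op V)) hx).trans (NatTrans.naturality_apply q g.op t)
    have h1 := key _ prod.fst
    have h0 := key _ prod.snd
    simp only [prod.lift_fst, prod.lift_snd] at h1 h0
    intro i
    match i with
    | 0 =>
      change toEl x ≫ K.δ (0 : Fin 2) = _
      rw [← toEl_comp, h0, toEl_map, show (yonedaEquiv.symm (ofEl (y 0))).app (op W) (𝟙 W) = ofEl (y 0)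
        from Equiv.apply_symm_apply yonedaEquiv _, toEl_ofEl]
      rfl
    | 1 =>
      change toEl x ≫ K.δ (1 : Fin 2) = _
      rw [← toEl_comp, h1, toEl_map, show (yonedaEquiv.symm (ofEl (y 1))).app (op W) (𝟙 W) = ofEl (y 1)
        from Equiv.apply_symm_apply yonedaEquiv _, toEl_ofEl]
      rfl
  · exact Sigma.isLocallySurjective_hom_map _ (hK.2.2 (n + 1) n.succ_pos)

end Site

section Over

variable (J : GrothendieckTopology C) (X : C) (K : SimplicialObject (FormalCoproduct.{u} (Over X)))
  [∀ (n : ℕ) (F : (SimplexCategory.Truncated n)ᵒᵖ ⥤ FormalCoproduct.{u} (Over X)),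
    (SimplexCategory.Truncated.inclusion n).op.HasRightKanExtension F]

lemma exists_el_zero (hK : Hyper.IsHypercovering J X K) (W : Over X) :
    ∃ S ∈ (J.over X) W, ∀ ⦃V : Over X⦄ (g : V ⟶ W), S.arrows g →
      Nonempty (El (K.obj (op ⦋0⦌)) V) := by
  refine ⟨_, J.overEquiv_symm_mem_over W _ (J.pullback_stable W.hom hK.1), fun V g hg => ?_⟩
  rw [Sieve.overEquiv_symm_iff] at hg
  obtain ⟨i, a, ha⟩ := (Sieve.mem_ofArrows_iff _ _ _).1 hg
  exact ⟨FormalCoproduct.Hom.fromIncl i (Over.homMk a (ha.symm.trans (Over.w g)))⟩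

lemma fillSieve_zero (hK : Hyper.IsHypercovering J X K) (W : Over X)
    (y : Fin (0 + 2) → El (K.obj (op ⦋0⦌)) W) :
    fillSieve (ofAugmented (aug K)) (k := 0) y ∈ (J.over X) W :=
  exists_lift_of_cosk K (J.over X)
    (Sigma.isLocallySurjective_of_isSRCovering _ (hK.2 0)) y (consistent_zero K y)

/-- A hypercovering of an object has local fillers on the localised site. -/
theorem hasFillers_over (hK : Hyper.IsHypercovering J X K) :
    HasFillers (ofAugmented (aug K)) (J.over X) :=
  hasFillers K (J.over X) (exists_el_zero J X K hK) (fillSieve_zero J X K hK)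
    (fun n => Sigma.isLocallySurjective_of_isSRCovering _ (hK.2 (n + 1)))

/-- A hypercovering of `X` is a hypercovering of the final object of the localised topos. -/
theorem isHypercoveringSite_over (hK : Hyper.IsHypercovering J X K) :
    Hyper.IsHypercoveringSite (J.over X) K := by
  refine ⟨⟨fun {W} s => ?_⟩, ⟨fun {W} t => ?_⟩, fun n _ => isLocallySurjective_yoneda_map _
    (Sigma.isLocallySurjective_of_isSRCovering _ (hK.2 n))⟩
  · obtain ⟨S, hS, hS'⟩ := exists_el_zero J X K hK W
    refine (J.over X).superset_covering ?_ hS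
    intro V g hg
    refine ⟨ofEl (hS' g hg).some, ?_⟩
    have : Subsingleton ((⊤_ ((Over X)ᵒᵖ ⥤ Type u)).obj (op V)) :=
      ⟨fun a b => yonedaEquiv.symm.injective (terminal.hom_ext _ _)⟩
    exact Subsingleton.elim _ _
  · let e1 := (prod.fst (X := FormalCoproduct.yoneda.obj (K.obj (op ⦋0⦌)))
      (Y := FormalCoproduct.yoneda.obj (K.obj (op ⦋0⦌)))).app (op W) t
    let e0 := (prod.snd (X := FormalCoproduct.yoneda.obj (K.obj (op ⦋0⦌)))
      (Y := FormalCoproduct.yoneda.obj (K.obj (op ⦋0⦌)))).app (op W) t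
    refine (J.over X).superset_covering ?_ (fillSieve_zero J X K hK W ![toEl e0, toEl e1])
    rintro V g ⟨z, hz⟩
    let z' : El (K.obj (op ⦋1⦌)) V := z
    let f1 := FormalCoproduct.yoneda.map (K.δ (1 : Fin 2))
    let f0 := FormalCoproduct.yoneda.map (K.δ (0 : Fin 2))
    refine ⟨ofEl z', prod_app_ext ?_ ?_⟩
    · refine ((congrArg (fun q => q.app (op V) (ofEl z')) (prod.lift_fst f1 f0)).trans ?_).trans
        (NatTrans.naturality_apply prod.fst g.op t).symm
      apply toEl_injective
      rw [toEl_comp, toEl_ofEl, toEl_map]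
      exact hz 1
    · refine ((congrArg (fun q => q.app (op V) (ofEl z')) (prod.lift_snd f1 f0)).trans ?_).trans
        (NatTrans.naturality_apply prod.snd g.op t).symm
      apply toEl_injective
      rw [toEl_comp, toEl_ofEl, toEl_map]
      exact hz 0

end Over

end Groth.Agent.Lib.Hypercov.Conditions
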