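import Groth.Agent.Lib.Hypercov.Conditions

/-!
# Local fillers give the covering conditions of hypercoverings
-/

universe u

open CategoryTheory Limits Opposite Simplicial SimplexCategory

namespace Groth.Agent.Lib.Hypercov.Converse

open Hypercov.Fillers

variable {C : Type u} [SmallCategory C] {U : C} {n : ℕ}

/-- A consistent family is independent of the chosen face in every degree. -/
lemma consistent_apply {K : SimplicialObject (FormalCoproduct.{u} C)}
    {y : Fin (n + 2) → El (K.obj (op ⦋n⦌)) U} (hy : Consistent K y) {m : SimplexCategory}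
    (θ : m ⟶ ⦋n + 1⦌) (i j : Fin (n + 2))
    (hi : ∀ k, θ.toOrderHom k ≠ i) (hj : ∀ k, θ.toOrderHom k ≠ j) :
    y i ≫ K.map (factor_δ θ i).op = y j ≫ K.map (factor_δ θ j).op := by
  suffices H : ∀ {k : ℕ} (e : m ⟶ ⦋k⦌) (μ : (⦋k⦌ : SimplexCategory) ⟶ ⦋n + 1⦌),
      Epi e → Mono μ → e ≫ μ = θ →
      y i ≫ K.map (factor_δ θ i).op = y j ≫ K.map (factor_δ θ j).op from
    H (k := (image θ).len) (factorThruImage θ) (image.ι θ) inferInstance inferInstance
      (image.fac θ)
  intro k e μ he hμ hf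
  subst hf
  have hsurj : Function.Surjective e.toOrderHom := SimplexCategory.epi_iff_surjective.1 he
  have hmiss : ∀ l, (∀ x, (e ≫ μ).toOrderHom x ≠ l) → ∀ x, μ.toOrderHom x ≠ l := by
    intro l hl x hx
    obtain ⟨x', rfl⟩ := hsurj x
    exact hl x' hx
  have hlen : k ≤ n := by
    have h2 := Fintype.card_lt_of_injective_of_notMem _ (SimplexCategory.mono_iff_injective.1 hμ)
      (fun hm : i ∈ Set.range μ.toOrderHom => by
        obtain ⟨x, hx⟩ := hm
        exact hmiss i hi x hx)
    simp only [Fintype.card_fin, SimplexCategory.len_mk] at h2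
    omega
  have key : ∀ l, factor_δ (m := m.len) (e ≫ μ) l = e ≫ factor_δ μ l := fun l =>
    factor_δ_comp (l := m.len) e μ l
  rw [key i, key j, op_comp, op_comp, K.map_comp, K.map_comp, ← Category.assoc, ← Category.assoc]
  exact congrArg (· ≫ K.map e.op) (hy hlen μ i j (hmiss i hi) (hmiss j hj))

variable (K : SimplicialObject (FormalCoproduct.{u} C))
  [∀ (n : ℕ) (F : (SimplexCategory.Truncated n)ᵒᵖ ⥤ FormalCoproduct.{u} C),
    (SimplexCategory.Truncated.inclusion n).op.HasRightKanExtension F]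

/-- The coskeleton of the truncation. -/
noncomputable abbrev csk (n : ℕ) : SimplicialObject (FormalCoproduct.{u} C) :=
  (SimplicialObject.Truncated.cosk n).obj ((SimplicialObject.truncation n).obj K)

/-- The unit into the coskeleton. -/
noncomputable abbrev unitApp (n : ℕ) (m : SimplexCategoryᵒᵖ) : K.obj m ⟶ (csk K n).obj m :=
  ((SimplicialObject.coskAdj n).unit.app K).app m

/-- The counit in a degree of the truncation. -/
noncomputable abbrev counitApp (n : ℕ) (j : (SimplexCategory.Truncated n)ᵒᵖ) :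
    (csk K n).obj (op j.unop.obj) ⟶ K.obj (op j.unop.obj) :=
  ((SimplicialObject.coskAdj n).counit.app ((SimplicialObject.truncation n).obj K)).app j

lemma unit_counit (j : (SimplexCategory.Truncated n)ᵒᵖ) :
    unitApp K n (op j.unop.obj) ≫ counitApp K n j = 𝟙 _ :=
  NatTrans.congr_app ((SimplicialObject.coskAdj n).left_triangle_components K) j

lemma counit_nat {j j' : (SimplexCategory.Truncated n)ᵒᵖ} (ψ : j'.unop.obj ⟶ j.unop.obj) :
    (csk K n).map ψ.op ≫ counitApp K n j' = counitApp K n j ≫ K.map ψ.op :=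
  ((SimplicialObject.coskAdj n).counit.app ((SimplicialObject.truncation n).obj K)).naturality
    (ObjectProperty.homMk (X := j'.unop) (Y := j.unop) ψ).op

/-- The map from the copies given by an element. -/
def ofEl {E : SimplicialObject (FormalCoproduct.{u} C)} {k : ℕ} (z : El (E.obj (op ⦋k⦌)) U) :
    copies U k ⟶ E where
  app m := desc fun θ => z ≫ E.map θ.op
  naturality m m' φ := hom_ext_ι fun θ => by
    rw [← Category.assoc, ι_map, ι_desc, ← Category.assoc, ι_desc, Category.assoc, ← E.map_comp]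
    rfl

lemma ι_ofEl {E : SimplicialObject (FormalCoproduct.{u} C)} {k : ℕ} (z : El (E.obj (op ⦋k⦌)) U)
    (m : SimplexCategoryᵒᵖ) (θ : m.unop ⟶ ⦋k⦌) :
    ι U k θ ≫ (ofEl z).app m = z ≫ E.map θ.op :=
  ι_desc _ _

/-- Elements of the coskeleton in degree `n + 1` are determined by their faces. -/
theorem cosk_ext {z z' : El ((csk K n).obj (op ⦋n + 1⦌)) U}
    (h : ∀ i : Fin (n + 2), z ≫ (csk K n).δ i ≫ counitApp K n (op ⟨⦋n⦌, le_refl n⟩) =
      z' ≫ (csk K n).δ i ≫ counitApp K n (op ⟨⦋n⦌, le_refl n⟩)) : z = z' := by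
  have hh : ofEl z = ofEl z' := by
    apply ((SimplicialObject.coskAdj (C := FormalCoproduct.{u} C) n).homEquiv _ _).symm.injective
    rw [Adjunction.homEquiv_counit, Adjunction.homEquiv_counit]
    refine NatTrans.ext (funext fun j => hom_ext_ι fun θ => ?_)
    change ι U (n + 1) θ ≫ (ofEl z).app (op j.unop.obj) ≫ counitApp K n j =
      ι U (n + 1) θ ≫ (ofEl z').app (op j.unop.obj) ≫ counitApp K n j
    obtain ⟨i, hi⟩ := exists_avoid (m := j.unop.obj.len) θ j.unop.property
    have hz : ∀ w : El ((csk K n).obj (op ⦋n + 1⦌)) U,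
        ι U (n + 1) θ ≫ (ofEl w).app (op j.unop.obj) ≫ counitApp K n j =
          (w ≫ (csk K n).δ i ≫ counitApp K n (op ⟨⦋n⦌, le_refl n⟩)) ≫
            K.map (factor_δ (m := j.unop.obj.len) θ i).op := fun w => by
      refine ((Category.assoc _ _ _).symm.trans
        (congrArg (· ≫ counitApp K n j) (ι_ofEl w (op j.unop.obj) θ))).trans ?_
      conv_lhs => rw [← factor_δ_spec (m := j.unop.obj.len) θ i hi, op_comp, Functor.map_comp]
      simp only [Category.assoc]
      refine congrArg (fun t => w ≫ (csk K n).δ i ≫ t) ?_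
      exact counit_nat K (j := op ⟨⦋n⦌, le_refl n⟩) (j' := j) _
    rw [hz, hz, h i]
  have h' := congrArg (fun f => ι U (n + 1) (𝟙 ⦋n + 1⦌) ≫ f.app (op ⦋n + 1⦌)) hh
  simp only [ι_ofEl, op_id, CategoryTheory.Functor.map_id, Category.comp_id] at h'
  exact h'

/-- Fillers of consistent families give local surjectivity onto the coskeleton. -/
theorem isLocallySurjective_unit (J : GrothendieckTopology C) (n : ℕ)
    (hfill : ∀ (W : C) (y : Fin (n + 2) → El (K.obj (op ⦋n⦌)) W), Consistent K y →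
      ∃ S ∈ J W, ∀ ⦃V : C⦄ (g : V ⟶ W), S.arrows g → ∃ x : El (K.obj (op ⦋n + 1⦌)) V,
        ∀ i, x ≫ K.δ i = (FormalCoproduct.incl C).map g ≫ y i) :
    Presheaf.IsLocallySurjective J (Sigma.hom.map (unitApp K n (op ⦋n + 1⦌))) := ⟨fun {W} z => by
  let z : El ((csk K n).obj (op ⦋n + 1⦌)) W := z
  let j₀ : (SimplexCategory.Truncated n)ᵒᵖ := op ⟨⦋n⦌, le_refl n⟩
  let y : Fin (n + 2) → El (K.obj (op ⦋n⦌)) W := fun i => z ≫ (csk K n).δ i ≫ counitApp K n j₀
  have hy : Consistent K y := by
    intro m hm θ i j hi hj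
    have : ∀ l, (∀ k, θ.toOrderHom k ≠ l) → y l ≫ K.map (factor_δ θ l).op =
        z ≫ (csk K n).map θ.op ≫ counitApp K n (op ⟨⦋m⦌, hm⟩) := fun l hl => by
      conv_rhs => rw [← factor_δ_spec θ l hl, op_comp, Functor.map_comp]
      simp only [y, Category.assoc]
      exact congrArg (fun t => z ≫ (csk K n).δ l ≫ t)
        (counit_nat K (j := j₀) (j' := op ⟨⦋m⦌, hm⟩) _).symm
    rw [this i hi, this j hj]
  obtain ⟨S, hS, hS'⟩ := hfill W y hy
  refine J.superset_covering ?_ hS
  intro V g hg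
  obtain ⟨x, hx⟩ := hS' g hg
  refine ⟨x, ?_⟩
  change x ≫ unitApp K n (op ⦋n + 1⦌) = (FormalCoproduct.incl C).map g ≫ z
  refine cosk_ext K fun i => ?_
  have hn : unitApp K n (op ⦋n + 1⦌) ≫ (csk K n).δ i = K.δ i ≫ unitApp K n (op ⦋n⦌) :=
    (((SimplicialObject.coskAdj n).unit.app K).naturality (δ i).op).symm
  rw [Category.assoc, ← Category.assoc (unitApp K n _), hn, Category.assoc]
  refine ((congrArg (fun t => x ≫ K.δ i ≫ t) (unit_counit K j₀)).trans ?_).trans
    (Category.assoc _ _ _).symm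
  refine ((congrArg (x ≫ ·) (Category.comp_id _))).trans ?_
  exact hx i⟩

/-- Fillers give hypercoverings of an object. -/
theorem isHypercovering_of_fillers {C : Type u} [SmallCategory C] (J : GrothendieckTopology C)
    (X : C) (K : SimplicialObject (FormalCoproduct.{u} (Over X)))
    [∀ (n : ℕ) (F : (SimplexCategory.Truncated n)ᵒᵖ ⥤ FormalCoproduct.{u} (Over X)),
      (SimplexCategory.Truncated.inclusion n).op.HasRightKanExtension F]
    (h0 : Sieve.ofArrows (fun i => ((K.obj (op ⦋0⦌)).obj i).left)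
      (fun i => ((K.obj (op ⦋0⦌)).obj i).hom) ∈ J X)
    (hfill : ∀ (n : ℕ) (W : Over X) (y : Fin (n + 2) → El (K.obj (op ⦋n⦌)) W), Consistent K y →
      ∃ S ∈ (J.over X) W, ∀ ⦃V : Over X⦄ (g : V ⟶ W), S.arrows g →
        ∃ x : El (K.obj (op ⦋n + 1⦌)) V,
          ∀ i, x ≫ K.δ i = (FormalCoproduct.incl _).map g ≫ y i) :
    Hyper.IsHypercovering J X K :=
  ⟨h0, fun n => Conditions.isSRCovering_of_isLocallySurjective _
    (isLocallySurjective_unit K (J.over X) n (hfill n))⟩

/-- Fillers give hypercoverings of the final object. -/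
theorem isHypercoveringSite_of_fillers (J : GrothendieckTopology C)
    (h0 : ∀ W : C, ∃ S ∈ J W, ∀ ⦃V : C⦄ (g : V ⟶ W), S.arrows g →
      Nonempty (El (K.obj (op ⦋0⦌)) V))
    (hfill : ∀ (n : ℕ) (W : C) (y : Fin (n + 2) → El (K.obj (op ⦋n⦌)) W), Consistent K y →
      ∃ S ∈ J W, ∀ ⦃V : C⦄ (g : V ⟶ W), S.arrows g → ∃ x : El (K.obj (op ⦋n + 1⦌)) V,
        ∀ i, x ≫ K.δ i = (FormalCoproduct.incl C).map g ≫ y i) :
    Hyper.IsHypercoveringSite J K := by
  refine ⟨⟨fun {W} s => ?_⟩, ⟨fun {W} t => ?_⟩, fun n _ =>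
    Conditions.isLocallySurjective_yoneda_map _ (isLocallySurjective_unit K J n (hfill n))⟩
  · obtain ⟨S, hS, hS'⟩ := h0 W
    refine J.superset_covering ?_ hS
    intro V g hg
    refine ⟨Conditions.ofEl (hS' g hg).some, ?_⟩
    have : Subsingleton ((⊤_ (Cᵒᵖ ⥤ Type u)).obj (op V)) :=
      ⟨fun a b => yonedaEquiv.symm.injective (terminal.hom_ext _ _)⟩
    exact Subsingleton.elim _ _
  · let e1 := (prod.fst (X := FormalCoproduct.yoneda.obj (K.obj (op ⦋0⦌)))
      (Y := FormalCoproduct.yoneda.obj (K.obj (op ⦋0⦌)))).app (op W) t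
    let e0 := (prod.snd (X := FormalCoproduct.yoneda.obj (K.obj (op ⦋0⦌)))
      (Y := FormalCoproduct.yoneda.obj (K.obj (op ⦋0⦌)))).app (op W) t
    obtain ⟨S, hS, hS'⟩ :=
      hfill 0 W ![Conditions.toEl e0, Conditions.toEl e1] (consistent_zero K _)
    refine J.superset_covering ?_ hS
    intro V g hg
    obtain ⟨z, hz⟩ := hS' g hg
    let f1 := FormalCoproduct.yoneda.map (K.δ (1 : Fin 2))
    let f0 := FormalCoproduct.yoneda.map (K.δ (0 : Fin 2))
    refine ⟨Conditions.ofEl z, Conditions.prod_app_ext ?_ ?_⟩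
    · refine ((congrArg (fun q => q.app (op V) (Conditions.ofEl z)) (prod.lift_fst f1 f0)).trans
        ?_).trans (NatTrans.naturality_apply prod.fst g.op t).symm
      apply Conditions.toEl_injective
      rw [Conditions.toEl_comp, Conditions.toEl_ofEl, Conditions.toEl_map]
      exact hz 1
    · refine ((congrArg (fun q => q.app (op V) (Conditions.ofEl z)) (prod.lift_snd f1 f0)).trans
        ?_).trans (NatTrans.naturality_apply prod.snd g.op t).symm
      apply Conditions.toEl_injective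
      rw [Conditions.toEl_comp, Conditions.toEl_ofEl, Conditions.toEl_map]
      exact hz 0

end Groth.Agent.Lib.Hypercov.Converse
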