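import Groth.Agent.Lib.Hypercov.Resolution
import Groth.Agent.Lib.Hypercov.Conditions
import Groth.Agent.Lib.SpecSeq.CxExt
import Groth.Agent.Lib.SpecSeq.Composite
import Groth.Agent.Lib.SiteCoh.CohPresheaf
import Mathlib.CategoryTheory.Sites.SheafCohomology.Basic
import Mathlib.CategoryTheory.Sites.ConstantSheaf

/-!
# The spectral sequence of a hypercovering
-/

universe u

open CategoryTheory Limits Opposite Simplicial

namespace Groth.Agent.Lib.Hypercov.SpectralSeq

open SiteCoh SiteCoh.FreeRes SiteCoh.Fillers SiteCoh.HomAcyclic Hypercov.Fillers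
  Hypercov.Resolution SpecSeq

variable {C : Type u} [SmallCategory C] {J : GrothendieckTopology C}
  (K : SimplicialObject (FormalCoproduct.{u} C))

/-- `F ↦ s(F(K))`. -/
noncomputable abbrev cechFunctor :
    Sheaf J AddCommGrpCat.{u} ⥤ CochainComplex AddCommGrpCat.{u} ℕ :=
  sheafToPresheaf J AddCommGrpCat.{u} ⋙ FormalCoproduct.cochainComplexFunctor K

instance : (FormalCoproduct.cochainComplexFunctor K :
    (Cᵒᵖ ⥤ AddCommGrpCat.{u}) ⥤ CochainComplex AddCommGrpCat.{u} ℕ).Additive where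
  map_add {P Q f g} := by
    refine HomologicalComplex.hom_ext _ _ fun n => ?_
    refine Pi.hom_ext _ _ fun i => ?_
    refine (Pi.map_π (fun i => (f + g).app (op ((K.obj (op ⦋n⦌)).obj i))) i).trans ?_
    refine Eq.trans ?_ (Preadditive.add_comp _ _ _ _ _ _).symm
    rw [NatTrans.app_add, Preadditive.comp_add]
    exact congrArg₂ (· + ·) (Pi.map_π (fun i => f.app (op ((K.obj (op ⦋n⦌)).obj i))) i).symm
      (Pi.map_π (fun i => g.app (op ((K.obj (op ⦋n⦌)).obj i))) i).symm

instance : (FormalCoproduct.cochainComplexFunctor K :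
    (Cᵒᵖ ⥤ AddCommGrpCat.{u}) ⥤ CochainComplex AddCommGrpCat.{u} ℕ).PreservesHomology :=
  Functor.preservesHomology_of_map_exact _ fun S hS => by
    refine HomologicalComplex.exact_of_degreewise_exact _ fun n => ?_
    rw [ShortComplex.ab_exact_iff]
    intro x hx
    have h : ∀ i : (K.obj (op ⦋n⦌)).I, ∃ t,
        S.f.app (op ((K.obj (op ⦋n⦌)).obj i)) t =
          Pi.π (fun i : (K.obj (op ⦋n⦌)).I => S.X₂.obj (op ((K.obj (op ⦋n⦌)).obj i))) i x := fun i => by
      refine (ShortComplex.ab_exact_iff _).1 (hS.map ((evaluation _ _).obj _)) _ ?_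
      refine Eq.trans ?_ ((congrArg (Pi.π (fun i : (K.obj (op ⦋n⦌)).I =>
        S.X₃.obj (op ((K.obj (op ⦋n⦌)).obj i))) i) hx).trans (map_zero _))
      exact (ConcreteCategory.congr_hom (Pi.map_π (fun i => S.g.app (op ((K.obj (op ⦋n⦌)).obj i))) i) x).symm
    choose t ht using h
    obtain ⟨y, hy⟩ : ∃ y, ∀ i,
        Pi.π (fun i : (K.obj (op ⦋n⦌)).I => S.X₁.obj (op ((K.obj (op ⦋n⦌)).obj i))) i y = t i :=
      ⟨(Pi.lift fun i => (SpecSeq.CxExt.eval₁ _).symm (t i)) ⟨1⟩, fun i =>
        (ConcreteCategory.congr_hom (Pi.lift_π (fun i : (K.obj (op ⦋n⦌)).I =>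
          (SpecSeq.CxExt.eval₁ (S.X₁.obj (op ((K.obj (op ⦋n⦌)).obj i)))).symm (t i)) i)
          (⟨1⟩ : ULift.{u} ℤ)).trans
          ((SpecSeq.CxExt.eval₁ _).apply_symm_apply (t i))⟩
    refine ⟨y, Concrete.limit_ext _ _ _ fun ⟨i⟩ => ?_⟩
    refine (ConcreteCategory.congr_hom (Pi.map_π (fun i => S.f.app (op ((K.obj (op ⦋n⦌)).obj i))) i) y).trans ?_
    exact (congrArg _ (hy i)).trans (ht i)

/-- The elements of degree zero defined by a map out of `ℤ[*]`. -/
noncomputable def η₀ (F : Sheaf J AddCommGrpCat.{u}) :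
    ((freeP J).obj ((Functor.const Cᵒᵖ).obj PUnit.{u + 1}) ⟶ F) →+
      ((cechFunctor K).obj F).X 0 :=
  AddMonoidHom.mk' (fun y => evalMap F (K.obj (op ⦋0⦌)) (freeε J K ≫ y))
    (fun a b => by rw [Preadditive.comp_add]; exact map_add (evalMap F (K.obj (op ⦋0⦌))).hom _ _)

lemma evalMap_comp {F G : Sheaf J AddCommGrpCat.{u}} (φ : F ⟶ G) (E : FormalCoproduct.{u} C)
    (x : (freeP J).obj (Sigma.hom.obj E) ⟶ F) (i : E.I) :
    Pi.π (fun i : E.I => G.obj.obj (op (E.obj i))) i (evalMap G E (x ≫ φ)) =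
      φ.hom.app (op (E.obj i)) (Pi.π (fun i : E.I => F.obj.obj (op (E.obj i))) i (evalMap F E x)) := by
  rw [evalMap_π, evalMap_π, freeEquiv_naturality_right]
  rfl

lemma η₀_natural {F G : Sheaf J AddCommGrpCat.{u}} (φ : F ⟶ G)
    (y : (freeP J).obj ((Functor.const Cᵒᵖ).obj PUnit.{u + 1}) ⟶ F) :
    ((cechFunctor K).map φ).f 0 (η₀ K F y) = η₀ K G (y ≫ φ) := by
  refine Concrete.limit_ext _ _ _ fun ⟨i⟩ => ?_
  refine (ConcreteCategory.congr_hom
    (Pi.map_π (fun i => φ.hom.app (op ((K.obj (op ⦋0⦌)).obj i))) i) _).trans ?_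
  exact ((evalMap_comp φ _ (freeε J K ≫ y) i).symm.trans
    (congrArg _ (congrArg _ (Category.assoc _ _ _))))

/-- The evaluation comparison, by degrees. -/
lemma cech_d_evalMap (F : Sheaf J AddCommGrpCat.{u}) (n : ℕ) (x : (freeCx J K).X n ⟶ F) :
    ((cechFunctor K).obj F).d n (n + 1) (evalMap F (K.obj (op ⦋n⦌)) x) =
      evalMap F (K.obj (op ⦋n + 1⦌)) ((freeCx J K).d (n + 1) n ≫ x) := by
  refine Eq.trans ?_ (congrArg (evalMap F (K.obj (op ⦋n + 1⦌))) (homCpx_d F n x))
  exact ConcreteCategory.congr_hom ((cechIso (K := K) F).inv.comm n (n + 1)) x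

variable {K} in
lemma η₀_cocycle (hK : HasFillers (ofAugmented (aug K)) J) (F : Sheaf J AddCommGrpCat.{u})
    (y : (freeP J).obj ((Functor.const Cᵒᵖ).obj PUnit.{u + 1}) ⟶ F) :
    ((cechFunctor K).obj F).d 0 1 (η₀ K F y) = 0 := by
  refine (cech_d_evalMap K F 0 _).trans ?_
  refine (congrArg (evalMap F (K.obj (op ⦋1⦌))) ((Category.assoc _ _ _).symm.trans
    ((congrArg (fun t => t ≫ y) (isResolution hK).w).trans zero_comp))).trans ?_
  exact map_zero (evalMap F (K.obj (op ⦋1⦌))).hom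

variable {K}

/-- Maps out of `ℤ[*]` are the maps from `ℤ` to the Cech complex. -/
noncomputable def toCech (hK : HasFillers (ofAugmented (aug K)) J) (F : Sheaf J AddCommGrpCat.{u}) :
    ((freeP J).obj ((Functor.const Cᵒᵖ).obj PUnit.{u + 1}) ⟶ F) →+
      (CxExt.X.{u} ⟶ (cechFunctor K).obj F) :=
  AddMonoidHom.mk' (fun y => HomologicalComplex.mkHomFromSingle
      ((CxExt.eval₁ _).symm (η₀ K F y)) (fun i hi => by
        obtain rfl : 0 + 1 = i := hi
        apply (CxExt.eval₁ _).injective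
        refine Eq.trans ?_ (map_zero (CxExt.eval₁ _)).symm
        change ((cechFunctor K).obj F).d 0 1 ((CxExt.eval₁ _) ((CxExt.eval₁ _).symm (η₀ K F y))) = 0
        rw [AddEquiv.apply_symm_apply]
        exact η₀_cocycle hK F y))
    (fun a b => by
      apply HomologicalComplex.from_single_hom_ext
      rw [HomologicalComplex.add_f_apply]
      simp only [HomologicalComplex.mkHomFromSingle_f, map_add, Preadditive.comp_add])

lemma bijective_toCech (hK : HasFillers (ofAugmented (aug K)) J) (F : Sheaf J AddCommGrpCat.{u}) :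
    Function.Bijective (toCech hK F) := by
  have h := isResolution hK
  have := h.epi
  have hev := ConcreteCategory.bijective_of_isIso (evalMap F (K.obj (op ⦋0⦌)))
  refine ⟨fun a b e => ?_, fun f => ?_⟩
  · have e' := HomologicalComplex.congr_hom e 0
    simp only [toCech, AddMonoidHom.mk'_apply, HomologicalComplex.mkHomFromSingle_f] at e'
    rw [cancel_epi] at e'
    exact (cancel_epi (freeε J K)).1 (hev.1 ((CxExt.eval₁ _).symm.injective e'))
  · obtain ⟨x, hx⟩ := hev.2 (CxExt.eval₁ _ (f.f 0))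
    have hd : (freeCx J K).d 1 0 ≫ x = 0 := by
      refine (ConcreteCategory.bijective_of_isIso (evalMap F (K.obj (op ⦋1⦌)))).1 ?_
      refine (cech_d_evalMap K F 0 x).symm.trans ?_
      refine (congrArg (((cechFunctor K).obj F).d 0 1) hx).trans (Eq.trans ?_ (map_zero _).symm)
      change (f.f 0 ≫ ((cechFunctor K).obj F).d 0 1) (⟨1⟩ : ULift.{u} ℤ) = 0
      rw [f.comm, HomologicalComplex.single_obj_d, zero_comp]
      rfl
    obtain ⟨y, rfl⟩ := h.exists_desc x hd
    refine ⟨y, HomologicalComplex.from_single_hom_ext ?_⟩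
    simp only [toCech, AddMonoidHom.mk'_apply, HomologicalComplex.mkHomFromSingle_f]
    rw [show (η₀ K F) y = CxExt.eval₁ _ (f.f 0) from hx, AddEquiv.symm_apply_apply]
    exact Category.id_comp _

/-- `H⁰` of the Cech complex is `Hom` out of `ℤ[*]`, naturally. -/
noncomputable def toCechIso (hK : HasFillers (ofAugmented (aug K)) J) :
    HomExt.homFunctor ((freeP J).obj ((Functor.const Cᵒᵖ).obj PUnit.{u + 1})) ≅
      cechFunctor K ⋙ HomExt.homFunctor CxExt.X.{u} :=
  NatIso.ofComponents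
    (fun F => (AddEquiv.ofBijective (toCech hK F) (bijective_toCech hK F)).toAddCommGrpIso)
    (fun {F G} φ => by
      ext y
      change toCech hK G (y ≫ φ) = toCech hK F y ≫ (cechFunctor K).map φ
      apply HomologicalComplex.from_single_hom_ext
      rw [HomologicalComplex.comp_f]
      simp only [toCech, AddMonoidHom.mk'_apply, HomologicalComplex.mkHomFromSingle_f, Category.assoc]
      congr 1
      apply (CxExt.eval₁ _).injective
      rw [AddEquiv.apply_symm_apply, ← η₀_natural K φ y]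
      exact congrArg (((cechFunctor K).map φ).f 0) ((CxExt.eval₁ _).apply_symm_apply _).symm)

/-- The constant sheaf `ℤ` is free on a point. -/
noncomputable def constIso : (freeP J).obj ((Functor.const Cᵒᵖ).obj PUnit.{u + 1}) ≅
    (constantSheaf J AddCommGrpCat.{u}).obj (AddCommGrpCat.of (ULift.{u} ℤ)) :=
  (presheafToSheaf J AddCommGrpCat.{u}).mapIso
    (Functor.constComp Cᵒᵖ PUnit.{u + 1} AddCommGrpCat.free.{u} ≪≫
      (Functor.const Cᵒᵖ).mapIso ((FreeAbelianGroup.uniqueEquiv PUnit.{u + 1}).trans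
        AddEquiv.ulift.symm).toAddCommGrpIso)

/-- The spectral sequence `Ȟᵖ(K, H^q(F)) ⇒ H^{p+q}(F)`. -/
theorem exists_spectralSequence (hK : HasFillers (ofAugmented (aug K)) J)
    (F : Sheaf J AddCommGrpCat.{u}) :
    ∃ (E : E₂CohomologicalSpectralSequence AddCommGrpCat.{u})
      (a : SpSeq.Abutment E (fun n : ℤ => if 0 ≤ n then AddCommGrpCat.of (Sheaf.H F n.toNat) else AddCommGrpCat.of PUnit.{u + 1})),
      (∀ n, a.IsFinite n) ∧ SpSeq.IsBounded E ∧
      ∀ p q : ℤ, Nonempty ((E.page 2 le_rfl).X (p, q) ≅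
        (if 0 ≤ p ∧ 0 ≤ q then (Hyper.cechCxSite K (Sheaf.cohomologyPresheaf F q.toNat)).homology p.toNat
         else AddCommGrpCat.of PUnit.{u + 1})) := by
  have hz : IsZero (AddCommGrpCat.of PUnit.{u + 1}) := AddCommGrpCat.isZero_of_subsingleton _
  refine Composite.exists_spectralSequence (cechFunctor K) (HomExt.homFunctor CxExt.X.{u})
    (fun I _ p => ?_) F _ (fun n => ?_) (fun n hn => ?_)
    (fun p q : ℤ => if 0 ≤ p ∧ 0 ≤ q then
        (Hyper.cechCxSite K (Sheaf.cohomologyPresheaf F q.toNat)).homology p.toNat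
      else AddCommGrpCat.of PUnit.{u + 1})
    (fun p q => ?_) (fun p q hpq => ?_)
  · obtain ⟨e⟩ := CxExt.nonempty_rightDerived_iso ((cechFunctor K).obj I) (p + 1)
    exact (isZero_cech_injective hK I p).of_iso e
  · refine ⟨Composite.rightDerivedCongr
      ((toCechIso hK).symm ≪≫ preadditiveCoyoneda.mapIso (constIso (J := J)).symm.op) n F ≪≫
      HomExt.rightDerivedIso _ F n ≪≫ eqToIso ?_⟩
    rw [if_pos (Int.natCast_nonneg n), Int.toNat_natCast]
  · rw [if_neg (by lia)]
    exact hz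
  · obtain ⟨e⟩ := CxExt.nonempty_rightDerived_iso (((cechFunctor K).rightDerived q).obj F) p
    let R := injectiveResolution F
    let i : ((cechFunctor K).rightDerived q).obj F ≅
        Hyper.cechCxSite K (Sheaf.cohomologyPresheaf F q) :=
      R.isoRightDerivedObj (cechFunctor K) q ≪≫
        ((CohPresheaf.presheafCx R).sc q).mapHomologyIso (FormalCoproduct.cochainComplexFunctor K) ≪≫
        (FormalCoproduct.cochainComplexFunctor K).mapIso
          (@asIso _ _ _ _ _ (CohPresheaf.isIso_homologyMap R q))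
    refine ⟨e ≪≫ (HomologicalComplex.homologyFunctor AddCommGrpCat.{u} _ p).mapIso i ≪≫ eqToIso ?_⟩
    rw [if_pos ⟨Int.natCast_nonneg p, Int.natCast_nonneg q⟩, Int.toNat_natCast, Int.toNat_natCast]
    rfl
  · rw [if_neg hpq]
    exact hz

end Groth.Agent.Lib.Hypercov.SpectralSeq
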