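import Groth.Agent.Lib.Hypercov.KillZero
import Groth.Agent.Lib.Hypercov.SpectralSeq
import Mathlib.Algebra.Homology.HomologySequenceLemmas

/-!
# Cech classes that die on refinements of hypercoverings
-/

universe u

open CategoryTheory Limits Opposite Simplicial

namespace Groth.Agent.Lib.Hypercov.Dies

variable {C : Type u} [SmallCategory C] {X : C}

/-- The Cech complex as a functor of the presheaf. -/
noncomputable abbrev cech (K : SimplicialObject (FormalCoproduct.{u} (Over X))) :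
    (Cᵒᵖ ⥤ AddCommGrpCat.{u}) ⥤ CochainComplex AddCommGrpCat.{u} ℕ :=
  (Functor.whiskeringLeft (Over X)ᵒᵖ Cᵒᵖ AddCommGrpCat.{u}).obj (Over.forget X).op ⋙
    FormalCoproduct.cochainComplexFunctor K

/-- Refinement, as a natural transformation. -/
noncomputable def cechNat {K L : SimplicialObject (FormalCoproduct.{u} (Over X))} (f : L ⟶ K) :
    cech K ⟶ cech L :=
  Functor.whiskerLeft ((Functor.whiskeringLeft (Over X)ᵒᵖ Cᵒᵖ AddCommGrpCat.{u}).obj (Over.forget X).op ⋙
      FormalCoproduct.evalOp.{u} (Over X) AddCommGrpCat.{u})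
    (Functor.whiskerRight ((Functor.whiskeringLeft _ _ _).map (NatTrans.rightOp f))
      (AlgebraicTopology.alternatingCofaceMapComplex AddCommGrpCat.{u}))

lemma cechHMap_comp {K L M : SimplicialObject (FormalCoproduct.{u} (Over X))} (f : L ⟶ K)
    (g : M ⟶ L) (P : Cᵒᵖ ⥤ AddCommGrpCat.{u}) (p : ℕ) (ξ : Hyper.cechH X K P p) :
    Hyper.cechHMap X (g ≫ f) P p ξ = Hyper.cechHMap X g P p (Hyper.cechHMap X f P p ξ) := by
  have h : Hyper.cechMap X (g ≫ f) P = Hyper.cechMap X f P ≫ Hyper.cechMap X g P := by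
    refine Eq.trans (congrArg (AlgebraicTopology.alternatingCofaceMapComplex AddCommGrpCat.{u}).map ?_)
      (Functor.map_comp _ _ _)
    refine NatTrans.ext (funext fun m => ?_)
    exact ((FormalCoproduct.evalOp.{u} (Over X) AddCommGrpCat.{u}).obj
      ((Over.forget X).op ⋙ P)).map_comp (f.app (op m)).op (g.app (op m)).op
  exact ConcreteCategory.congr_hom ((congrArg (HomologicalComplex.homologyMap · p) h).trans
    (HomologicalComplex.homologyMap_comp _ _ p)) ξ

/-- The map induced by a map of presheaves. -/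
noncomputable abbrev coefMap (K : SimplicialObject (FormalCoproduct.{u} (Over X)))
    {P Q : Cᵒᵖ ⥤ AddCommGrpCat.{u}} (φ : P ⟶ Q) (p : ℕ) :
    Hyper.cechH X K P p ⟶ Hyper.cechH X K Q p :=
  HomologicalComplex.homologyMap ((cech K).map φ) p

lemma coefMap_comp (K : SimplicialObject (FormalCoproduct.{u} (Over X)))
    {P Q R : Cᵒᵖ ⥤ AddCommGrpCat.{u}} (φ : P ⟶ Q) (ψ : Q ⟶ R) (p : ℕ) (ξ : Hyper.cechH X K P p) :
    coefMap K (φ ≫ ψ) p ξ = coefMap K ψ p (coefMap K φ p ξ) := by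
  exact ConcreteCategory.congr_hom ((congrArg (HomologicalComplex.homologyMap · p)
    ((cech K).map_comp φ ψ)).trans (HomologicalComplex.homologyMap_comp _ _ p)) ξ

lemma coefMap_nat {K L : SimplicialObject (FormalCoproduct.{u} (Over X))} (f : L ⟶ K)
    {P Q : Cᵒᵖ ⥤ AddCommGrpCat.{u}} (φ : P ⟶ Q) (p : ℕ) (ξ : Hyper.cechH X K P p) :
    coefMap L φ p (Hyper.cechHMap X f P p ξ) = Hyper.cechHMap X f Q p (coefMap K φ p ξ) := by
  have h : Hyper.cechMap X f P ≫ (cech L).map φ = (cech K).map φ ≫ Hyper.cechMap X f Q :=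
    ((cechNat f).naturality φ).symm
  exact ConcreteCategory.congr_hom (((HomologicalComplex.homologyMap_comp _ _ p).symm.trans
    (congrArg (HomologicalComplex.homologyMap · p) h)).trans
      (HomologicalComplex.homologyMap_comp _ _ p)) ξ

section SES

variable {S : ShortComplex (Cᵒᵖ ⥤ AddCommGrpCat.{u})}

lemma cech_shortExact (hS : S.ShortExact) (K : SimplicialObject (FormalCoproduct.{u} (Over X))) :
    (S.map (cech K)).ShortExact := by
  haveI : PreservesFiniteLimits (FormalCoproduct.cochainComplexFunctor K :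
    ((Over X)ᵒᵖ ⥤ AddCommGrpCat.{u}) ⥤ CochainComplex AddCommGrpCat.{u} ℕ) :=
    Functor.preservesFiniteLimits_of_preservesHomology _
  haveI : PreservesFiniteColimits (FormalCoproduct.cochainComplexFunctor K :
    ((Over X)ᵒᵖ ⥤ AddCommGrpCat.{u}) ⥤ CochainComplex AddCommGrpCat.{u} ℕ) :=
    Functor.preservesFiniteColimits_of_preservesHomology _
  exact hS.map_of_exact _

/-- The connecting map. -/
noncomputable abbrev del (hS : S.ShortExact) (K : SimplicialObject (FormalCoproduct.{u} (Over X)))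
    (p : ℕ) : Hyper.cechH X K S.X₃ p ⟶ Hyper.cechH X K S.X₁ (p + 1) :=
  (cech_shortExact hS K).δ p (p + 1) (by simp)

lemma del_nat (hS : S.ShortExact) {K L : SimplicialObject (FormalCoproduct.{u} (Over X))}
    (f : L ⟶ K) (p : ℕ) (ξ : Hyper.cechH X K S.X₃ p) :
    del hS L p (Hyper.cechHMap X f S.X₃ p ξ) = Hyper.cechHMap X f S.X₁ (p + 1) (del hS K p ξ) :=
  (ConcreteCategory.congr_hom (HomologicalComplex.HomologySequence.δ_naturality
    (S.mapNatTrans (cechNat f)) (cech_shortExact hS K) (cech_shortExact hS L) p (p + 1) (by simp))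
    ξ).symm

variable (hS : S.ShortExact) (K : SimplicialObject (FormalCoproduct.{u} (Over X))) (p : ℕ)
include hS

lemma exact₁ (x : Hyper.cechH X K S.X₁ (p + 1)) (hx : coefMap K S.f (p + 1) x = 0) :
    ∃ y, del hS K p y = x :=
  (ShortComplex.ab_exact_iff _).1 ((cech_shortExact hS K).homology_exact₁ p (p + 1) (by simp)) x hx

lemma exact₂ (x : Hyper.cechH X K S.X₂ p) (hx : coefMap K S.g p x = 0) :
    ∃ y, coefMap K S.f p y = x :=
  (ShortComplex.ab_exact_iff _).1 ((cech_shortExact hS K).homology_exact₂ p) x hx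

lemma exact₃ (x : Hyper.cechH X K S.X₃ p) (hx : del hS K p x = 0) :
    ∃ y, coefMap K S.g p y = x :=
  (ShortComplex.ab_exact_iff _).1 ((cech_shortExact hS K).homology_exact₃ p (p + 1) (by simp)) x hx

lemma del_g (y : Hyper.cechH X K S.X₂ p) : del hS K p (coefMap K S.g p y) = 0 :=
  ConcreteCategory.congr_hom ((cech_shortExact hS K).comp_δ p (p + 1) (by simp)) y

lemma f_del (y : Hyper.cechH X K S.X₃ p) : coefMap K S.f (p + 1) (del hS K p y) = 0 :=
  ConcreteCategory.congr_hom ((cech_shortExact hS K).δ_comp p (p + 1) (by simp)) y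

lemma injective_zero : Function.Injective (coefMap K S.f 0) := by
  refine (AddCommGrpCat.mono_iff_injective _).1 ?_
  have := (cech_shortExact hS K).mono_f
  rw [HomologicalComplex.mono_homologyMap_iff_up_to_refinements _ 0 0 1 (by simp) (by simp)]
  intro A x₁ hx₁ x₂ hx₂
  refine ⟨A, 𝟙 A, inferInstance, 0, ?_⟩
  have : Mono ((S.map (cech K)).f.f 0) :=
    inferInstanceAs (Mono ((HomologicalComplex.eval _ _ 0).map (S.map (cech K)).f))
  refine (cancel_mono ((S.map (cech K)).f.f 0)).1 ?_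
  simp only [Category.id_comp, zero_comp]
  refine Eq.trans ?_ (zero_comp).symm
  refine hx₂.trans ?_
  rw [((cech K).obj S.X₂).shape 0 0 (by simp), comp_zero]
  rfl

end SES

variable (J : GrothendieckTopology C) (X)
  [∀ (n : ℕ) (F : (SimplexCategory.Truncated n)ᵒᵖ ⥤ FormalCoproduct.{u} (Over X)),
    (SimplexCategory.Truncated.inclusion n).op.HasRightKanExtension F]

/-- Every class dies on some refinement. -/
def Dies (P : Cᵒᵖ ⥤ AddCommGrpCat.{u}) (q : ℕ) : Prop :=
  ∀ (K : SimplicialObject (FormalCoproduct.{u} (Over X))), Hyper.IsHypercovering J X K →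
    ∀ ξ : Hyper.cechH X K P q, ∃ (L : SimplicialObject (FormalCoproduct.{u} (Over X))) (f : L ⟶ K),
      Hyper.IsHypercovering J X L ∧ Hyper.cechHMap X f P q ξ = 0

/-- Surjectivity up to refinement. -/
def LocSurj {P Q : Cᵒᵖ ⥤ AddCommGrpCat.{u}} (φ : P ⟶ Q) (q : ℕ) : Prop :=
  ∀ (K : SimplicialObject (FormalCoproduct.{u} (Over X))), Hyper.IsHypercovering J X K →
    ∀ ξ : Hyper.cechH X K Q q, ∃ (L : SimplicialObject (FormalCoproduct.{u} (Over X))) (f : L ⟶ K)
      (η : Hyper.cechH X L P q), Hyper.IsHypercovering J X L ∧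
        coefMap L φ q η = Hyper.cechHMap X f Q q ξ

/-- Injectivity up to refinement. -/
def LocInj {P Q : Cᵒᵖ ⥤ AddCommGrpCat.{u}} (φ : P ⟶ Q) (q : ℕ) : Prop :=
  ∀ (K : SimplicialObject (FormalCoproduct.{u} (Over X))), Hyper.IsHypercovering J X K →
    ∀ ξ : Hyper.cechH X K P q, coefMap K φ q ξ = 0 →
      ∃ (L : SimplicialObject (FormalCoproduct.{u} (Over X))) (f : L ⟶ K),
        Hyper.IsHypercovering J X L ∧ Hyper.cechHMap X f P q ξ = 0

variable {X J} {P Q R : Cᵒᵖ ⥤ AddCommGrpCat.{u}} {φ : P ⟶ Q} {ψ : Q ⟶ R} {q : ℕ}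

lemma LocInj.comp (h : LocInj X J φ q) (h' : LocInj X J ψ q) : LocInj X J (φ ≫ ψ) q := by
  intro K hK ξ hξ
  rw [coefMap_comp] at hξ
  obtain ⟨L, f, hL, hf⟩ := h' K hK _ hξ
  rw [← coefMap_nat] at hf
  obtain ⟨M, g, hM, hg⟩ := h L hL _ hf
  exact ⟨M, g ≫ f, hM, (cechHMap_comp f g P q ξ).trans hg⟩

lemma LocSurj.comp (h : LocSurj X J φ q) (h' : LocSurj X J ψ q) : LocSurj X J (φ ≫ ψ) q := by
  intro K hK ξ
  obtain ⟨L, f, η, hL, hf⟩ := h' K hK ξ
  obtain ⟨M, g, θ, hM, hg⟩ := h L hL η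
  refine ⟨M, g ≫ f, θ, hM, ?_⟩
  rw [coefMap_comp, hg, coefMap_nat, hf, cechHMap_comp]

lemma LocInj.dies (h : LocInj X J φ q) (hQ : Dies X J Q q) : Dies X J P q := by
  intro K hK ξ
  obtain ⟨L, f, hL, hf⟩ := hQ K hK (coefMap K φ q ξ)
  rw [← coefMap_nat] at hf
  obtain ⟨M, g, hM, hg⟩ := h L hL _ hf
  exact ⟨M, g ≫ f, hM, (cechHMap_comp f g P q ξ).trans hg⟩

lemma LocSurj.dies (h : LocSurj X J φ q) (hP : Dies X J P q) : Dies X J Q q := by
  intro K hK ξ
  obtain ⟨L, f, η, hL, hf⟩ := h K hK ξ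
  obtain ⟨M, g, hM, hg⟩ := hP L hL η
  exact ⟨M, g ≫ f, hM, by rw [cechHMap_comp, ← hf, ← coefMap_nat, hg, map_zero]⟩

variable {S : ShortComplex (Cᵒᵖ ⥤ AddCommGrpCat.{u})} (hS : S.ShortExact)
include hS

lemma locSurj_g (h : Dies X J S.X₁ (q + 1)) : LocSurj X J S.g q := by
  intro K hK ξ
  obtain ⟨L, f, hL, hf⟩ := h K hK (del hS K q ξ)
  rw [← del_nat] at hf
  obtain ⟨η, hη⟩ := exact₃ hS L q _ hf
  exact ⟨L, f, η, hL, hη⟩

lemma locInj_g (h : Dies X J S.X₁ q) : LocInj X J S.g q := by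
  intro K hK ξ hξ
  obtain ⟨η, rfl⟩ := exact₂ hS K q ξ hξ
  obtain ⟨L, f, hL, hf⟩ := h K hK η
  exact ⟨L, f, hL, by rw [← coefMap_nat, hf, map_zero]⟩

lemma locSurj_f (h : Dies X J S.X₃ q) : LocSurj X J S.f q := by
  intro K hK ξ
  obtain ⟨L, f, hL, hf⟩ := h K hK (coefMap K S.g q ξ)
  rw [← coefMap_nat] at hf
  obtain ⟨η, hη⟩ := exact₂ hS L q _ hf
  exact ⟨L, f, η, hL, hη⟩

lemma locInj_f_succ (h : Dies X J S.X₃ q) : LocInj X J S.f (q + 1) := by
  intro K hK ξ hξ
  obtain ⟨η, rfl⟩ := exact₁ hS K q ξ hξ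
  obtain ⟨L, f, hL, hf⟩ := h K hK η
  exact ⟨L, f, hL, by rw [← del_nat, hf, map_zero]⟩

lemma locInj_f_zero : LocInj X J S.f 0 := by
  intro K hK ξ hξ
  have h0 : ξ = 0 := injective_zero hS K (hξ.trans (map_zero _).symm)
  exact ⟨K, 𝟙 K, hK, by rw [h0, map_zero]⟩

omit hS

lemma isZero_sheafify_kernel {A B : Cᵒᵖ ⥤ AddCommGrpCat.{u}} (η : A ⟶ B)
    [IsIso ((presheafToSheaf J AddCommGrpCat.{u}).map η)] :
    IsZero ((presheafToSheaf J AddCommGrpCat.{u}).obj (kernel η)) :=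
  IsZero.of_iso (isZero_kernel_of_mono ((presheafToSheaf J AddCommGrpCat.{u}).map η))
    (PreservesKernel.iso (presheafToSheaf J AddCommGrpCat.{u}) η)

lemma isZero_sheafify_cokernel {A B : Cᵒᵖ ⥤ AddCommGrpCat.{u}} (η : A ⟶ B)
    [IsIso ((presheafToSheaf J AddCommGrpCat.{u}).map η)] :
    IsZero ((presheafToSheaf J AddCommGrpCat.{u}).obj (cokernel η)) := by
  haveI : PreservesColimitsOfSize.{0, 0} (presheafToSheaf J AddCommGrpCat.{u}) :=
    (sheafificationAdjunction J AddCommGrpCat.{u}).leftAdjoint_preservesColimits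
  exact IsZero.of_iso (isZero_cokernel_of_epi ((presheafToSheaf J AddCommGrpCat.{u}).map η))
    (PreservesCokernel.iso (presheafToSheaf J AddCommGrpCat.{u}) η)

lemma shortExact_kernel_image {A : Type*} [Category A] [Abelian A] {M N : A} (η : M ⟶ N) :
    (ShortComplex.mk (kernel.ι η) (Abelian.factorThruImage η) (by
      rw [← cancel_mono (Abelian.image.ι η), Category.assoc, Abelian.image.fac, kernel.condition,
        zero_comp])).ShortExact where
  exact := ShortComplex.exact_of_f_is_kernel _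
    (isKernelOfComp (Abelian.image.ι η) η (kernelIsKernel η) _ (Abelian.image.fac η))

lemma shortExact_image_cokernel {A : Type*} [Category A] [Abelian A] {M N : A} (η : M ⟶ N) :
    (ShortComplex.mk (Abelian.image.ι η) (cokernel.π η) (kernel.condition _)).ShortExact where
  exact := ShortComplex.exact_of_f_is_kernel _ (kernelIsKernel _)

lemma locBij_comp {A B I N₁ N₂ : Cᵒᵖ ⥤ AddCommGrpCat.{u}} {k : N₁ ⟶ A} {e : A ⟶ I} {m : I ⟶ B}
    {c : B ⟶ N₂} {w₁ : k ≫ e = 0} {w₂ : m ≫ c = 0} (h₁ : (ShortComplex.mk k e w₁).ShortExact)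
    (h₂ : (ShortComplex.mk m c w₂).ShortExact) (hk : ∀ p, Dies X J N₁ p)
    (hc : ∀ p, Dies X J N₂ p) (q : ℕ) :
    LocInj X J (e ≫ m) q ∧ LocSurj X J (e ≫ m) q := by
  have a : LocInj X J e q := locInj_g (S := ShortComplex.mk k e w₁) h₁ (hk q)
  have b : LocSurj X J e q := locSurj_g (S := ShortComplex.mk k e w₁) h₁ (hk (q + 1))
  have d : LocSurj X J m q := locSurj_f (S := ShortComplex.mk m c w₂) h₂ (hc q)
  have c' : LocInj X J m q := by
    cases q with
    | zero => exact locInj_f_zero (S := ShortComplex.mk m c w₂) h₂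
    | succ p => exact locInj_f_succ (S := ShortComplex.mk m c w₂) h₂ (hc p)
  exact ⟨LocInj.comp a c', LocSurj.comp b d⟩

/-- A map inducing an isomorphism of associated sheaves is bijective up to refinement. -/
theorem locBij_of_isIso_sheafify {A B : Cᵒᵖ ⥤ AddCommGrpCat.{u}} (η : A ⟶ B)
    (h : IsIso ((presheafToSheaf J AddCommGrpCat.{u}).map η)) (q : ℕ) :
    LocInj X J η q ∧ LocSurj X J η q := by
  have hk : ∀ p, Dies X J (kernel η) p := fun p K hK' ξ =>
    KillZero.exists_kill _ hK' (isZero_sheafify_kernel η) p ξ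
  have hc : ∀ p, Dies X J (cokernel η) p := fun p K hK' ξ =>
    KillZero.exists_kill _ hK' (isZero_sheafify_cokernel η) p ξ
  have h₁ := shortExact_kernel_image η
  have h₂ := shortExact_image_cokernel η
  have := locBij_comp (X := X) (J := J) h₁ h₂ hk hc q
  rw [Abelian.image.fac η] at this
  exact this

theorem dies_iff_of_isIso_sheafify {A B : Cᵒᵖ ⥤ AddCommGrpCat.{u}} (η : A ⟶ B)
    (h : IsIso ((presheafToSheaf J AddCommGrpCat.{u}).map η)) (q : ℕ) :
    Dies X J A q ↔ Dies X J B q :=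
  ⟨(locBij_of_isIso_sheafify η h q).2.dies, (locBij_of_isIso_sheafify η h q).1.dies⟩

end Groth.Agent.Lib.Hypercov.Dies
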