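import Groth.Agent.Lib.Hypercov.Glue

/-!
# Existence of hypercoverings

For a class `B` of objects covering every object, a simplicial presheaf `P` with local fillers and a
locally surjective `π : Q ⟶ P_{n₀}`, the labelled simplices with values in `B` form a hypercovering
over `P` whose degree `n₀` part lifts to `Q`.
-/

universe u

open CategoryTheory Limits Opposite Simplicial SimplexCategory

namespace Groth.Agent.Lib.Hypercov.Exist

attribute [local semireducible] SimplexCategory.Hom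

open Hypercov.Fillers Hypercov.Labels

variable {D : Type u} [SmallCategory D] (J : GrothendieckTopology D)
  (P : SimplexCategoryᵒᵖ ⥤ (Dᵒᵖ ⥤ Type u))

/-- A consistent family of faces in a simplicial presheaf. -/
def ConsistentP {n : ℕ} {W : D} (y : Fin (n + 2) → (P.obj (op ⦋n⦌)).obj (op W)) : Prop :=
  ∀ (m : SimplexCategory) (θ : m ⟶ ⦋n + 1⦌) (i j : Fin (n + 2)),
    (∀ k, θ.toOrderHom k ≠ i) → (∀ k, θ.toOrderHom k ≠ j) →
      (P.map (factor_δ (m := m.len) θ i).op).app (op W) (y i) =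
        (P.map (factor_δ (m := m.len) θ j).op).app (op W) (y j)

/-- Local fillers in a simplicial presheaf. -/
structure LocFill : Prop where
  zero : ∀ W : D, ∃ S ∈ J W, ∀ ⦃V : D⦄ (g : V ⟶ W), S.arrows g →
    Nonempty ((P.obj (op ⦋0⦌)).obj (op V))
  fill : ∀ (n : ℕ) (W : D) (y : Fin (n + 2) → (P.obj (op ⦋n⦌)).obj (op W)), ConsistentP P y →
    ∃ S ∈ J W, ∀ ⦃V : D⦄ (g : V ⟶ W), S.arrows g → ∃ p : (P.obj (op ⦋n + 1⦌)).obj (op V),
      ∀ i, (P.map (δ i).op).app (op V) p = (P.obj (op ⦋n⦌)).map g.op (y i)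

/-- Every object is covered by objects of `B`. -/
def Covers (B : Set D) : Prop :=
  ∀ W : D, ∃ S ∈ J W, ∀ ⦃V : D⦄ (g : V ⟶ W), S.arrows g →
    ∃ (Z : D) (h : V ⟶ Z) (b : Z ⟶ W), Z ∈ B ∧ h ≫ b = g

lemma covers_of_families {B : Set D}
    (h : ∀ W : D, ∃ (ι : Type u) (Y : ι → D) (f : ∀ i, Y i ⟶ W),
      Sieve.ofArrows Y f ∈ J W ∧ ∀ i, Y i ∈ B) : Covers J B := fun W => by
  obtain ⟨ι, Y, f, hf, hY⟩ := h W
  refine ⟨_, hf, fun V g hg => ?_⟩
  obtain ⟨i, a, ha⟩ := (Sieve.mem_ofArrows_iff _ _ _).1 hg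
  exact ⟨Y i, a, f i, hY i, ha.symm⟩

variable {P} {n₀ : ℕ} {Q : Dᵒᵖ ⥤ Type u} {π : Q ⟶ P.obj (op ⦋n₀⦌)}

/-- Labels with values in `B`. -/
def InB (B : Set D) (m : SimplexCategory) (ℓ : Lab P π m) : Prop := ∀ a, ℓ.F.obj a ∈ B

lemma stable_inB (B : Set D) : Stable (InB (P := P) (π := π) B) := fun _ _ θ _ h a =>
  h ((Over.map θ).op.obj a)

variable (P π) in
/-- The simplicial formal coproduct of `B`-valued labels. -/
abbrev obj (B : Set D) : SimplicialObject (FormalCoproduct.{u} D) :=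
  simp (P := P) (π := π) (stable_inB B)

lemma obj_mem (B : Set D) (n : SimplexCategoryᵒᵖ) (i : ((obj P π B).obj n).I) :
    ((obj P π B).obj n).obj i ∈ B :=
  i.2 _

lemma exists_lifts (hπ : Presheaf.IsLocallySurjective J π) {m : SimplexCategory} {V : D}
    (p : (P.obj (op m)).obj (op V)) :
    ∃ S ∈ J V, ∀ ⦃V' : D⦄ (g : V' ⟶ V), S.arrows g → ∀ α : (⦋n₀⦌ : SimplexCategory) ⟶ m,
      ∃ q : Q.obj (op V'),
        π.app (op V') q = (P.map α.op).app (op V') ((P.obj (op m)).map g.op p) := by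
  classical
  have : Fintype ((⦋n₀⦌ : SimplexCategory) ⟶ m) :=
    Fintype.ofInjective (fun α => (α.toOrderHom : Fin (n₀ + 1) → Fin (m.len + 1)))
      (fun α β h => SimplexCategory.Hom.ext _ _ (OrderHom.ext _ _ h))
  let T : ((⦋n₀⦌ : SimplexCategory) ⟶ m) → Sieve V := fun α =>
    Presheaf.imageSieve π ((P.map α.op).app (op V) p)
  refine ⟨Finset.univ.inf T, ?_, fun V' g hg α => ?_⟩
  · refine Finset.inf_induction (p := fun S => S ∈ J V) (J.top_mem V)
      (fun S hS S' hS' => J.intersection_covering hS hS') (fun α _ => Presheaf.imageSieve_mem J π _)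
  · have hle : Finset.univ.inf T ≤ T α := Finset.inf_le (Finset.mem_univ α)
    have : T α g := hle _ hg
    obtain ⟨q, hq⟩ := this
    exact ⟨q, hq.trans (NatTrans.naturality_apply (P.map α.op) g.op p).symm⟩

/-- Fillers in the labels. -/
theorem fill {B : Set D} (hB : Covers J B) (hP : LocFill J P)
    (hπ : Presheaf.IsLocallySurjective J π) (n : ℕ) (W : D)
    (y : Fin (n + 2) → El ((obj P π B).obj (op ⦋n⦌)) W) (hy : Consistent (obj P π B) y) :
    ∃ S ∈ J W, ∀ ⦃V : D⦄ (g : V ⟶ W), S.arrows g →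
      ∃ x : El ((obj P π B).obj (op ⦋n + 1⦌)) V,
        ∀ i, x ≫ (obj P π B).δ i = (FormalCoproduct.incl D).map g ≫ y i := by
  let T : Sieve W :=
    { arrows := fun V g => ∃ x : El ((obj P π B).obj (op ⦋n + 1⦌)) V,
        ∀ i, x ≫ (obj P π B).δ i = (FormalCoproduct.incl D).map g ≫ y i
      downward_closed := by
        rintro V V' g ⟨x, hx⟩ h
        refine ⟨(FormalCoproduct.incl D).map h ≫ x, fun i => ?_⟩
        rw [Category.assoc, hx i, ← Category.assoc, ← Functor.map_comp] }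
  refine ⟨T, ?_, fun V g hg => hg⟩
  obtain ⟨S₁, hS₁, h₁⟩ := hP.fill n W (fun i => elAug _ (y i)) (fun m θ i j hi hj => by
    rw [← elAug_map, ← elAug_map, Converse.consistent_apply hy θ i j hi hj])
  refine J.transitive hS₁ T fun V g hg => ?_
  obtain ⟨p, hp⟩ := h₁ g hg
  obtain ⟨S₂, hS₂, h₂⟩ := exists_lifts J hπ p
  refine J.transitive hS₂ _ fun V₁ g₁ hg₁ => ?_
  obtain ⟨S₃, hS₃, h₃⟩ := hB V₁
  refine J.superset_covering ?_ hS₃
  intro V₂ g₂ hg₂
  obtain ⟨Z, h, b, hZ, rfl⟩ := h₃ g₂ hg₂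
  change T.arrows (((h ≫ b) ≫ g₁) ≫ g)
  rw [Category.assoc h b g₁, Category.assoc h]
  refine T.downward_closed ?_ h
  have hq : S₂.arrows (b ≫ g₁) := S₂.downward_closed hg₁ b
  choose q hq using h₂ (b ≫ g₁) hq
  have hp' : ∀ i, (P.map (δ i).op).app (op Z) ((P.obj (op ⦋n + 1⦌)).map (b ≫ g₁).op p) =
      (P.obj (op ⦋n⦌)).map ((b ≫ g₁) ≫ g).op (elAug _ (y i)) := fun i => by
    rw [NatTrans.naturality_apply, hp i, op_comp (f := b ≫ g₁) (g := g), Functor.map_comp,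
      ConcreteCategory.comp_apply]
  let qs : ∀ α : (⦋n₀⦌ : SimplexCategory) ⟶ ⦋n + 1⦌, Function.Surjective α.toOrderHom →
      {q : Q.obj (op Z) // π.app (op Z) q =
        (P.map α.op).app (op Z) ((P.obj (op ⦋n + 1⦌)).map (b ≫ g₁).op p)} :=
    fun α _ => ⟨q α, hq α⟩
  obtain ⟨x, hx, -⟩ := Glue.exists_el _ y hy ((b ≫ g₁) ≫ g) _ hp' qs (fun a => by
    rcases Glue.hom_cases _ y hy ((b ≫ g₁) ≫ g) _ hp' qs a.unop with h | ⟨i, a', h⟩
    · exact (congrArg (· ∈ B) h).mpr hZ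
    · exact (congrArg (· ∈ B) h).mpr ((ix (y i)).2 (op a')))
  exact ⟨x, hx⟩

/-- The constant label in dimension zero. -/
def pointLab {Z : D} (p : (P.obj (op ⦋0⦌)).obj (op Z))
    (q : ∀ α : (⦋n₀⦌ : SimplexCategory) ⟶ ⦋0⦌,
      {q : Q.obj (op Z) // π.app (op Z) q = (P.map α.op).app (op Z) p}) : Lab P π ⦋0⦌ where
  F := (Functor.const _).obj Z
  aug a := (P.map a.hom.op).app (op Z) p
  aug_nat {a b} f := by
    change (P.obj (op a.left)).map (𝟙 Z).op _ = _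
    rw [op_id, CategoryTheory.Functor.map_id]
    conv_lhs => rw [← Over.w f, op_comp, Functor.map_comp]
    rfl
  lift α := (q α).1
  lift_spec α := (q α).2

/-- The degree zero part covers. -/
theorem zero {B : Set D} (hB : Covers J B) (hP : LocFill J P)
    (hπ : Presheaf.IsLocallySurjective J π) (W : D) :
    ∃ S ∈ J W, ∀ ⦃V : D⦄ (g : V ⟶ W), S.arrows g →
      Nonempty (El ((obj P π B).obj (op ⦋0⦌)) V) := by
  let T : Sieve W :=
    { arrows := fun V _ => Nonempty (El ((obj P π B).obj (op ⦋0⦌)) V)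
      downward_closed := by
        rintro V V' g ⟨x⟩ h
        exact ⟨(FormalCoproduct.incl D).map h ≫ x⟩ }
  refine ⟨T, ?_, fun V g hg => hg⟩
  obtain ⟨S₁, hS₁, h₁⟩ := hP.zero W
  refine J.transitive hS₁ T fun V g hg => ?_
  obtain ⟨p⟩ := h₁ g hg
  obtain ⟨S₂, hS₂, h₂⟩ := exists_lifts J hπ p
  refine J.transitive hS₂ _ fun V₁ g₁ hg₁ => ?_
  obtain ⟨S₃, hS₃, h₃⟩ := hB V₁
  refine J.superset_covering ?_ hS₃
  intro V₂ g₂ hg₂
  obtain ⟨Z, h, b, hZ, rfl⟩ := h₃ g₂ hg₂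
  have hq : S₂.arrows (b ≫ g₁) := S₂.downward_closed hg₁ b
  choose q hq using h₂ (b ≫ g₁) hq
  exact ⟨(FormalCoproduct.incl D).map h ≫
    mkEl ⟨pointLab _ (fun α => ⟨q α, hq α⟩), fun _ => hZ⟩ (𝟙 Z)⟩

section Over

variable {C : Type u} [SmallCategory C] {J₀ : GrothendieckTopology C} {X : C}
  {P : SimplexCategoryᵒᵖ ⥤ ((Over X)ᵒᵖ ⥤ Type u)} {Q : (Over X)ᵒᵖ ⥤ Type u}
  {π : Q ⟶ P.obj (op ⦋n₀⦌)}
  [∀ (n : ℕ) (F : (SimplexCategory.Truncated n)ᵒᵖ ⥤ FormalCoproduct.{u} (Over X)),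
    (SimplexCategory.Truncated.inclusion n).op.HasRightKanExtension F]

/-- The labels form a hypercovering of an object. -/
theorem isHypercovering {B : Set (Over X)} (hB : Covers (J₀.over X) B)
    (hP : LocFill (J₀.over X) P) (hπ : Presheaf.IsLocallySurjective (J₀.over X) π) :
    Hyper.IsHypercovering J₀ X (obj P π B) := by
  refine Converse.isHypercovering_of_fillers J₀ X _ ?_ (fill (J₀.over X) hB hP hπ)
  obtain ⟨S, hS, hS'⟩ := zero (J₀.over X) hB hP hπ (Over.mk (𝟙 X))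
  rw [GrothendieckTopology.mem_over_iff] at hS
  refine J₀.superset_covering ?_ hS
  intro V g hg
  rw [Sieve.overEquiv_iff] at hg
  obtain ⟨x⟩ := hS' _ hg
  exact (Sieve.mem_ofArrows_iff _ _ _).2
    ⟨ix x, (hm x).left, ((Over.w (hm x)).trans (Category.comp_id g)).symm⟩

end Over

end Groth.Agent.Lib.Hypercov.Exist
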