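import Groth.Agent.Lib.Hypercov.Exist

/-!
# Simplicial presheaves with fillers; morphisms out of labelled hypercoverings
-/

universe u

open CategoryTheory Limits Opposite Simplicial SimplexCategory

namespace Groth.Agent.Lib.Hypercov.Fillable

attribute [local semireducible] SimplexCategory.Hom

open Hypercov.Fillers Hypercov.Labels SiteCoh.Fillers

variable {D : Type u} [SmallCategory D] (J : GrothendieckTopology D)

/-- The point. -/
abbrev pt (D : Type u) [SmallCategory D] : SimplexCategoryᵒᵖ ⥤ (Dᵒᵖ ⥤ Type u) :=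
  (Functor.const _).obj ((Functor.const _).obj PUnit.{u + 1})

lemma locFill_pt : Exist.LocFill J (pt D) where
  zero W := ⟨⊤, J.top_mem W, fun _ _ _ => ⟨PUnit.unit⟩⟩
  fill _ W _ _ := ⟨⊤, J.top_mem W, fun _ _ _ => ⟨PUnit.unit, fun _ => rfl⟩⟩

lemma isLocallySurjective_id (P : Dᵒᵖ ⥤ Type u) : Presheaf.IsLocallySurjective J (𝟙 P) :=
  ⟨fun {U} s => J.superset_covering (fun V g _ => ⟨P.map g.op s, rfl⟩) (J.top_mem U)⟩

/-- The simplicial presheaf of a simplicial formal coproduct. -/
abbrev elP (K : SimplicialObject (FormalCoproduct.{u} D)) : SimplexCategoryᵒᵖ ⥤ (Dᵒᵖ ⥤ Type u) :=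
  K ⋙ Sigma.hom

lemma consistent_of_consistentP {K : SimplicialObject (FormalCoproduct.{u} D)} {n : ℕ} {W : D}
    {y : Fin (n + 2) → El (K.obj (op ⦋n⦌)) W} (hy : Exist.ConsistentP (elP K) y) :
    Consistent K y :=
  fun m _ θ i j hi hj => hy ⦋m⦌ θ i j hi hj

section Morphisms

variable {K : SimplicialObject (FormalCoproduct.{u} D)} {n₀ : ℕ} {Q : Dᵒᵖ ⥤ Type u}
  {π : Q ⟶ (elP K).obj (op ⦋n₀⦌)} {A : ∀ m : SimplexCategory, Lab (elP K) π m → Prop}
  (hA : Stable A)

/-- The morphism to the base. -/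
def toBase : simp hA ⟶ K where
  app m := ⟨fun ℓ => ix (topAug hA ℓ : El (K.obj m) _), fun ℓ => hm (topAug hA ℓ : El (K.obj m) _)⟩
  naturality m m' φ := FormalCoproduct.hom_ext
    (funext fun ℓ => by
      have h : (FormalCoproduct.incl D).map (((simp hA).map φ).φ ℓ) ≫
          (topAug hA (((simp hA).map φ).f ℓ) : El (K.obj m') _) =
          (topAug hA ℓ : El (K.obj m) _) ≫ K.map φ := topAug_map hA φ ℓ
      exact congrArg ix h)
    (fun ℓ => by
      have h : (FormalCoproduct.incl D).map (((simp hA).map φ).φ ℓ) ≫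
          (topAug hA (((simp hA).map φ).f ℓ) : El (K.obj m') _) =
          (topAug hA ℓ : El (K.obj m) _) ≫ K.map φ := topAug_map hA φ ℓ
      exact (congrArg (fun t => t ≫ eqToHom _) (hm_restr _ _).symm).trans
        ((congrArg (fun t => t ≫ eqToHom _) (Glue.hm_congr h)).trans
          ((Category.assoc _ _ _).trans ((congrArg (_ ≫ ·) (eqToHom_trans _ _)).trans
            (Category.comp_id _)))))

lemma el_comp_toBase {m : SimplexCategoryᵒᵖ} {W : D} (y : El ((simp hA).obj m) W) :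
    y ≫ (toBase hA).app m = elAug hA y :=
  el_ext rfl (Category.comp_id _)

/-- The lift in degree `n₀`. -/
def toLift (ℓ : ((simp hA).obj (op ⦋n₀⦌)).I) :
    Q.obj (op (((simp hA).obj (op ⦋n₀⦌)).obj ℓ)) :=
  ℓ.1.lift (𝟙 _)

lemma π_toLift (ℓ : ((simp hA).obj (op ⦋n₀⦌)).I) :
    π.app _ (toLift hA ℓ) = topAug hA ℓ :=
  ℓ.1.lift_spec (𝟙 _)

end Morphisms

section Over

variable {C : Type u} [SmallCategory C] {J₀ : GrothendieckTopology C} {X : C}
  {K : SimplicialObject (FormalCoproduct.{u} (Over X))}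
  [∀ (n : ℕ) (F : (SimplexCategory.Truncated n)ᵒᵖ ⥤ FormalCoproduct.{u} (Over X)),
    (SimplexCategory.Truncated.inclusion n).op.HasRightKanExtension F]

/-- Hypercoverings have fillers. -/
lemma locFill (hK : Hyper.IsHypercovering J₀ X K) : Exist.LocFill (J₀.over X) (elP K) where
  zero W := Conditions.exists_el_zero J₀ X K hK W
  fill n W y hy := ⟨fillSieve (SiteCoh.FreeRes.ofAugmented (aug K)) (k := n) y,
    exists_lift_of_cosk K (J₀.over X) (Sigma.isLocallySurjective_of_isSRCovering _ (hK.2 n)) y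
      (consistent_of_consistentP hy), fun _ g hg => hg⟩

/-- Objects with source in a covering class cover the objects over `X`. -/
lemma covers_over {B : Set C} (hB : Exist.Covers J₀ B) :
    Exist.Covers (J₀.over X) {Z : Over X | Z.left ∈ B} := fun W => by
  obtain ⟨S, hS, hS'⟩ := hB W.left
  refine ⟨_, J₀.overEquiv_symm_mem_over W S hS, fun V g hg => ?_⟩
  rw [Sieve.overEquiv_symm_iff] at hg
  obtain ⟨Z, h, b, hZ, hhb⟩ := hS' g.left hg
  refine ⟨Over.mk (b ≫ W.hom), Over.homMk h ?_, Over.homMk b rfl, hZ,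
    Over.OverMorphism.ext hhb⟩
  change h ≫ b ≫ W.hom = V.hom
  rw [← Category.assoc, hhb, Over.w g]

end Over

end Groth.Agent.Lib.Hypercov.Fillable
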