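import Groth.Agent.Lib.Hypercov.Sigma
import Groth.Agent.Lib.SiteCoh.FreeRes
import Mathlib.AlgebraicTopology.SimplicialObject.Basic
import Mathlib.AlgebraicTopology.SimplexCategory.Basic

/-!
# Hypercoverings have local fillers
-/

universe u

open CategoryTheory Limits Opposite Simplicial SimplexCategory

namespace Groth.Agent.Lib.Hypercov.Fillers

open SiteCoh SiteCoh.FreeRes SiteCoh.Fillers

variable {C : Type u} [SmallCategory C]

/-- Elements of a level. -/
abbrev El (E : FormalCoproduct.{u} C) (U : C) : Type u := (FormalCoproduct.incl C).obj U ⟶ E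

lemma exists_avoid {m n : ℕ} (θ : ⦋m⦌ ⟶ ⦋n + 1⦌) (h : m ≤ n) :
    ∃ i, ∀ k, θ.toOrderHom k ≠ i := by
  by_contra hc
  simp only [not_exists, not_forall, not_not] at hc
  have := Fintype.card_le_of_surjective _ hc
  simp at this
  omega

lemma factor_δ_comp {l m n : ℕ} (φ : ⦋l⦌ ⟶ ⦋m⦌) (θ : ⦋m⦌ ⟶ ⦋n + 1⦌) (i : Fin (n + 2)) :
    factor_δ (φ ≫ θ) i = φ ≫ factor_δ θ i :=
  Category.assoc _ _ _

lemma factor_δ_self {n : ℕ} (i : Fin (n + 2)) : factor_δ (δ i) i = 𝟙 ⦋n⦌ :=
  (cancel_mono (δ i)).1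
    ((factor_δ_spec (δ i) i fun k => Fin.succAbove_ne i k).trans (Category.id_comp _).symm)

variable {U : C} {n : ℕ}

/-- Independence of the chosen face. -/
def Consistent (K : SimplicialObject (FormalCoproduct.{u} C))
    (y : Fin (n + 2) → El (K.obj (op ⦋n⦌)) U) : Prop :=
  ∀ ⦃m : ℕ⦄ (_ : m ≤ n) (θ : ⦋m⦌ ⟶ ⦋n + 1⦌) (i j : Fin (n + 2)),
    (∀ k, θ.toOrderHom k ≠ i) → (∀ k, θ.toOrderHom k ≠ j) →
      y i ≫ K.map (factor_δ θ i).op = y j ≫ K.map (factor_δ θ j).op

lemma consistent_zero (K : SimplicialObject (FormalCoproduct.{u} C))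
    (y : Fin (0 + 2) → El (K.obj (op ⦋0⦌)) U) : Consistent K y := by
  intro m _ θ i j hi hj
  obtain rfl : i = j := by
    have h0i := hi 0
    have h0j := hj 0
    revert h0i h0j
    generalize θ.toOrderHom 0 = a
    revert a i j
    intro i j _ _ a
    fin_cases i <;> fin_cases j <;> fin_cases a <;> simp_all
  rfl

lemma consistent_succ (K : SimplicialObject (FormalCoproduct.{u} C))
    (y : Fin (n + 1 + 2) → El (K.obj (op ⦋n + 1⦌)) U)
    (hy : ∀ i j : Fin (n + 2), i ≤ j → y j.succ ≫ K.δ i = y i.castSucc ≫ K.δ j) :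
    Consistent K y := by
  intro m _ θ a b ha hb
  suffices H : ∀ a b : Fin (n + 1 + 2), a < b → (∀ k, θ.toOrderHom k ≠ a) →
      (∀ k, θ.toOrderHom k ≠ b) →
      y a ≫ K.map (factor_δ θ a).op = y b ≫ K.map (factor_δ θ b).op by
    rcases lt_trichotomy a b with h | rfl | h
    · exact H a b h ha hb
    · rfl
    · exact (H b a h hb ha).symm
  intro a b hab ha hb
  obtain ⟨i, rfl⟩ : ∃ i, Fin.castSucc i = a := Fin.exists_castSucc_eq.2 (by
    rintro rfl
    exact absurd hab (not_lt.2 (Fin.le_last b)))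
  obtain ⟨j, rfl⟩ : ∃ j, Fin.succ j = b := Fin.exists_succ_eq.2 (by
    rintro rfl
    exact absurd hab (not_lt.2 (Fin.zero_le _)))
  have hij : i ≤ j := Fin.castSucc_lt_succ_iff.1 hab
  have hθj := factor_δ_spec θ j.succ hb
  have hθi := factor_δ_spec θ i.castSucc ha
  have hav : ∀ k, (factor_δ θ j.succ).toOrderHom k ≠ i := fun k hk => ha k (by
    conv_lhs => rw [← hθj]
    change (δ j.succ).toOrderHom ((factor_δ θ j.succ).toOrderHom k) = _
    rw [hk]
    exact Fin.succAbove_of_castSucc_lt _ _ hab)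
  let ψ := factor_δ (factor_δ θ j.succ) i
  have h1 : ψ ≫ δ i = factor_δ θ j.succ := factor_δ_spec _ _ hav
  have h2 : ψ ≫ δ j = factor_δ θ i.castSucc := by
    rw [← cancel_mono (δ i.castSucc), Category.assoc, ← δ_comp_δ hij, ← Category.assoc, h1, hθj,
      hθi]
  rw [← h1, ← h2, op_comp, op_comp, K.map_comp, K.map_comp, ← Category.assoc, ← Category.assoc]
  exact congrArg (· ≫ K.map ψ.op) (hy i j hij).symm

/-- The simplicial formal coproduct with a copy of `U` for each simplex of `Δ[n]`. -/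
def copies (U : C) (n : ℕ) : SimplicialObject (FormalCoproduct.{u} C) where
  obj m := FormalCoproduct.mk (ULift.{u} (m.unop ⟶ ⦋n⦌)) fun _ => U
  map φ := ⟨fun θ => ⟨φ.unop ≫ θ.down⟩, fun _ => 𝟙 U⟩
  map_id m := FormalCoproduct.hom_ext (funext fun θ => congrArg ULift.up (Category.id_comp θ.down))
    (fun θ => by simp)
  map_comp φ φ' := FormalCoproduct.hom_ext
    (funext fun θ => congrArg ULift.up (Category.assoc φ'.unop φ.unop θ.down))
    (fun θ => by simp)

/-- The component of a simplex. -/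
def ι (U : C) (n : ℕ) {m : SimplexCategoryᵒᵖ} (θ : m.unop ⟶ ⦋n⦌) :
    (FormalCoproduct.incl C).obj U ⟶ (copies U n).obj m :=
  ⟨fun _ => ULift.up θ, fun _ => 𝟙 U⟩

lemma ι_map (U : C) (n : ℕ) {m m' : SimplexCategoryᵒᵖ} (θ : m.unop ⟶ ⦋n⦌) (φ : m ⟶ m') :
    ι U n θ ≫ (copies U n).map φ = ι U n (φ.unop ≫ θ) :=
  FormalCoproduct.hom_ext rfl (fun _ => by simp [ι, copies])

lemma hom_ext_ι {U : C} {n : ℕ} {m : SimplexCategoryᵒᵖ} {E : FormalCoproduct.{u} C}
    {f g : (copies U n).obj m ⟶ E} (h : ∀ θ, ι U n θ ≫ f = ι U n θ ≫ g) : f = g := by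
  obtain ⟨ff, fφ⟩ := f
  obtain ⟨gf, gφ⟩ := g
  obtain rfl : ff = gf := funext fun θ =>
    congrFun (congrArg FormalCoproduct.Hom.f (h (ULift.down θ))) PUnit.unit
  have : fφ = gφ := funext fun θ => by
    injection h (ULift.down θ) with h1 h2
    exact (Category.id_comp _).symm.trans
      ((congrFun h2 PUnit.unit).trans (Category.id_comp _))
  rw [this]

/-- The map out of the copies given by a family. -/
def desc {U : C} {n : ℕ} {m : SimplexCategoryᵒᵖ} {E : FormalCoproduct.{u} C}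
    (v : (m.unop ⟶ ⦋n⦌) → El E U) : (copies U n).obj m ⟶ E :=
  ⟨fun θ => (v (ULift.down θ)).f PUnit.unit, fun θ => (v (ULift.down θ)).φ PUnit.unit⟩

lemma ι_desc {U : C} {n : ℕ} {m : SimplexCategoryᵒᵖ} {E : FormalCoproduct.{u} C}
    (v : (m.unop ⟶ ⦋n⦌) → El E U) (θ : m.unop ⟶ ⦋n⦌) : ι U n θ ≫ desc v = v θ :=
  FormalCoproduct.hom_ext rfl (fun x => by
    obtain ⟨⟩ := x
    exact ((Category.comp_id _).trans (Category.id_comp _) :
      (𝟙 U ≫ (v θ).φ PUnit.unit) ≫ 𝟙 _ = (v θ).φ PUnit.unit))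

variable (K : SimplicialObject (FormalCoproduct.{u} C))
  [∀ (n : ℕ) (F : (SimplexCategory.Truncated n)ᵒᵖ ⥤ FormalCoproduct.{u} C),
    (SimplexCategory.Truncated.inclusion n).op.HasRightKanExtension F]

/-- A consistent family of faces is an element of the coskeleton. -/
theorem exists_cosk_element (y : Fin (n + 2) → El (K.obj (op ⦋n⦌)) U) (hy : Consistent K y) :
    ∃ z : El ((((SimplicialObject.Truncated.cosk n).obj
        ((SimplicialObject.truncation n).obj K))).obj (op ⦋n + 1⦌)) U,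
      ∀ (V : C) (g : V ⟶ U) (x : El (K.obj (op ⦋n + 1⦌)) V),
        x ≫ ((SimplicialObject.coskAdj n).unit.app K).app (op ⦋n + 1⦌) =
          (FormalCoproduct.incl C).map g ≫ z →
        ∀ i, x ≫ K.δ i = (FormalCoproduct.incl C).map g ≫ y i := by
  let adj := SimplicialObject.coskAdj (C := FormalCoproduct.{u} C) n
  let v : ∀ m : (SimplexCategory.Truncated n)ᵒᵖ, (m.unop.obj ⟶ ⦋n + 1⦌) →
      El (K.obj (op m.unop.obj)) U := fun m θ =>
    y (exists_avoid θ m.unop.property).choose ≫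
      K.map (factor_δ θ (exists_avoid θ m.unop.property).choose).op
  have hv : ∀ (m : (SimplexCategory.Truncated n)ᵒᵖ) (θ : m.unop.obj ⟶ ⦋n + 1⦌) (i : Fin (n + 2)),
      (∀ k, θ.toOrderHom k ≠ i) → v m θ = y i ≫ K.map (factor_δ θ i).op := fun m θ i hi =>
    hy m.unop.property θ _ i (exists_avoid θ m.unop.property).choose_spec hi
  let s : (SimplicialObject.truncation n).obj (copies U (n + 1)) ⟶
      (SimplicialObject.truncation n).obj K :=
    { app := fun m => desc (m := op m.unop.obj) (v m)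
      naturality := fun m m' φ => hom_ext_ι fun θ => by
        obtain ⟨i, hi⟩ := exists_avoid θ m.unop.property
        change ι U (n + 1) θ ≫ (copies U (n + 1)).map
            ((SimplexCategory.Truncated.inclusion n).op.map φ) ≫ desc (m := op m'.unop.obj) (v m') =
          ι U (n + 1) θ ≫ desc (m := op m.unop.obj) (v m) ≫ K.map ((SimplexCategory.Truncated.inclusion n).op.map φ)
        refine ((Category.assoc _ _ _).symm.trans ((congrArg (· ≫ desc (m := op m'.unop.obj) (v m')) (ι_map _ _ θ _)).trans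
          (ι_desc _ _))).trans ?_
        refine Eq.trans ?_ ((congrArg (· ≫ K.map _) (ι_desc (m := op m.unop.obj) (v m) θ)).symm.trans (Category.assoc _ _ _))
        rw [hv m θ i hi, hv m' _ i fun k => hi _]
        refine Eq.trans ?_ (Category.assoc _ _ _).symm
        rw [← K.map_comp, factor_δ_comp]
        rfl }
  let e := adj.homEquiv (copies U (n + 1)) ((SimplicialObject.truncation n).obj K) s
  refine ⟨ι U (n + 1) (𝟙 ⦋n + 1⦌) ≫ e.app (op ⦋n + 1⦌), fun V g x hx i => ?_⟩
  let m₀ : (SimplexCategory.Truncated n)ᵒᵖ := op ⟨⦋n⦌, le_refl n⟩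
  let ε := (adj.counit.app ((SimplicialObject.truncation n).obj K)).app m₀
  have htri : (adj.unit.app K).app (op ⦋n⦌) ≫ ε = 𝟙 _ :=
    NatTrans.congr_app (adj.left_triangle_components K) m₀
  have hs : e.app (op ⦋n⦌) ≫ ε = s.app m₀ := by
    have h := (adj.homEquiv_counit (X := copies U (n + 1))
      (Y := (SimplicialObject.truncation n).obj K) (g := e))
    rw [Equiv.symm_apply_apply] at h
    exact (NatTrans.congr_app h m₀).symm
  have key : x ≫ K.δ i = (FormalCoproduct.incl C).map g ≫ ι U (n + 1) (δ i) ≫ s.app m₀ := by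
    calc x ≫ K.δ i = x ≫ K.δ i ≫ (adj.unit.app K).app (op ⦋n⦌) ≫ ε := by
          rw [htri]
          exact congrArg (x ≫ ·) (Category.comp_id _).symm
      _ = (x ≫ (adj.unit.app K).app (op ⦋n + 1⦌)) ≫
            ((SimplicialObject.Truncated.cosk n).obj ((SimplicialObject.truncation n).obj K)).map
              (δ i).op ≫ ε := by
          have := (adj.unit.app K).naturality (δ i).op
          rw [Category.assoc]
          exact congrArg (x ≫ ·) ((Category.assoc _ _ _).symm.trans
            ((congrArg (· ≫ ε) this).trans (Category.assoc _ _ _)))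
      _ = (FormalCoproduct.incl C).map g ≫ ι U (n + 1) (δ i) ≫ e.app (op ⦋n⦌) ≫ ε := by
          rw [hx]
          simp only [Category.assoc]
          have h1 : ι U (n + 1) (δ i) = ι U (n + 1) (𝟙 ⦋n + 1⦌) ≫ (copies U (n + 1)).map (δ i).op :=
            ((ι_map U (n + 1) (𝟙 ⦋n + 1⦌) (δ i).op).trans
              (congrArg (ι U (n + 1)) (Category.comp_id (δ i)))).symm
          rw [h1, Category.assoc]
          exact congrArg (fun t => (FormalCoproduct.incl C).map g ≫ ι U (n + 1) (𝟙 ⦋n + 1⦌) ≫ t)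
            ((Category.assoc _ _ _).symm.trans
              ((congrArg (· ≫ ε) (e.naturality (δ i).op).symm).trans (Category.assoc _ _ _)))
      _ = _ := congrArg (fun t => (FormalCoproduct.incl C).map g ≫ ι U (n + 1) (δ i) ≫ t) hs
  refine key.trans (congrArg ((FormalCoproduct.incl C).map g ≫ ·) ?_)
  refine (ι_desc (v m₀) (δ i)).trans ?_
  refine (hv m₀ (δ i) i fun k => Fin.succAbove_ne i k).trans ?_
  rw [factor_δ_self, op_id, K.map_id]
  exact Category.comp_id _

omit [∀ (n : ℕ) (F : (SimplexCategory.Truncated n)ᵒᵖ ⥤ FormalCoproduct.{u} C),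
    (SimplexCategory.Truncated.inclusion n).op.HasRightKanExtension F]

/-- The augmented simplicial presheaf of elements. -/
noncomputable def aug : SimplicialObject.Augmented (Cᵒᵖ ⥤ Type u) where
  left := K ⋙ Sigma.hom
  right := (Functor.const _).obj PUnit.{u + 1}
  hom :=
    { app := fun m => { app := fun W => ↾fun _ => PUnit.unit }
      naturality := fun m m' θ => rfl }

variable [∀ (n : ℕ) (F : (SimplexCategory.Truncated n)ᵒᵖ ⥤ FormalCoproduct.{u} C),
    (SimplexCategory.Truncated.inclusion n).op.HasRightKanExtension F]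
  (J : GrothendieckTopology C)

/-- Filling of a consistent family of faces. -/
lemma exists_lift_of_cosk
    (h : Presheaf.IsLocallySurjective J
      (Sigma.hom.map (((SimplicialObject.coskAdj n).unit.app K).app (op ⦋n + 1⦌))))
    (y : Fin (n + 2) → El (K.obj (op ⦋n⦌)) U) (hy : Consistent K y) :
    fillSieve (ofAugmented (aug K)) (k := n) y ∈ J U := by
  obtain ⟨z, hz⟩ := exists_cosk_element K y hy
  refine J.superset_covering ?_ (Presheaf.imageSieve_mem J
    (Sigma.hom.map (((SimplicialObject.coskAdj n).unit.app K).app (op ⦋n + 1⦌))) z)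
  rintro V g ⟨x, hx⟩
  exact ⟨x, fun i => hz V g x hx i⟩

/-- The covering conditions give local fillers. -/
theorem hasFillers
    (h₀ : ∀ W : C, ∃ S ∈ J W, ∀ ⦃V : C⦄ (g : V ⟶ W), S.arrows g → Nonempty (El (K.obj (op ⦋0⦌)) V))
    (h₁ : ∀ (W : C) (y : Fin (0 + 2) → El (K.obj (op ⦋0⦌)) W),
      fillSieve (ofAugmented (aug K)) (k := 0) y ∈ J W)
    (h : ∀ n : ℕ, Presheaf.IsLocallySurjective J
      (Sigma.hom.map (((SimplicialObject.coskAdj (n + 1)).unit.app K).app (op ⦋n + 1 + 1⦌)))) :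
    HasFillers (ofAugmented (aug K)) J where
  surj := ⟨fun {W} s => by
    obtain ⟨S, hS, hS'⟩ := h₀ W
    refine J.superset_covering ?_ hS
    intro V g hg
    exact ⟨(hS' g hg).some, rfl⟩⟩
  fill {k U} y hy := by
    cases k with
    | zero => exact h₁ U y
    | succ k => exact exists_lift_of_cosk K J (h k) y (consistent_succ K y hy)

end Groth.Agent.Lib.Hypercov.Fillers
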