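import Groth.Agent.Lib.Hypercov.Fillable
import Mathlib.CategoryTheory.Limits.Constructions.Over.Basic
import Mathlib.CategoryTheory.Limits.Constructions.FiniteProductsOfBinaryProducts
import Mathlib.CategoryTheory.Limits.Shapes.Equalizers

/-!
# Hypercoverings by finite families

The labels are generated by gluing a member of a chosen finite covering of the finite limit attached
to a compatible tuple of faces, and closed under degeneracies.
-/

universe u

open CategoryTheory Limits Opposite Simplicial SimplexCategory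

namespace Groth.Agent.Lib.Hypercov.FiniteExist

attribute [local semireducible] SimplexCategory.Hom

open Hypercov.Fillers Hypercov.Labels

section Face

open Glue

variable {E : Type u} [SmallCategory E] {P : SimplexCategoryᵒᵖ ⥤ (Eᵒᵖ ⥤ Type u)}
  {n₀ : ℕ} {Q : Eᵒᵖ ⥤ Type u} {π : Q ⟶ P.obj (op ⦋n₀⦌)}
  {A : ∀ m : SimplexCategory, Lab P π m → Prop} (hA : Stable A)
  {n : ℕ} {W : E} (y : Fin (n + 2) → El ((simp hA).obj (op ⦋n⦌)) W)
  (hy : Consistent (simp hA) y) {V : E} (g : V ⟶ W)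
  (p : (P.obj (op ⦋n + 1⦌)).obj (op V))
  (hp : ∀ i, (P.map (δ i).op).app (op V) p = (P.obj (op ⦋n⦌)).map g.op (elAug hA (y i)))
  (qs : ∀ α : (⦋n₀⦌ : SimplexCategory) ⟶ ⦋n + 1⦌, Function.Surjective α.toOrderHom →
    {q : Q.obj (op V) // π.app (op V) q = (P.map α.op).app (op V) p})

/-- The faces of the element of a glued label. -/
lemma lab_face (hAℓ : A _ (lab hA y hy g p hp qs)) (i : Fin (n + 2)) :
    mkEl (⟨_, hAℓ⟩ : ((simp hA).obj (op ⦋n + 1⦌)).I)
        (eqToHom (lab_obj hA y hy g p hp qs _ (S_id _)).symm) ≫ (simp hA).δ i =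
      (FormalCoproduct.incl E).map g ≫ y i := by
  refine el_ext (Subtype.ext (comap_δ hA y hy g p hp qs i)) ?_
  have hb : ¬ S (Over.mk (δ i)) := fun h => not_S_comp_δ (Over.mk (𝟙 ⦋n⦌)) i
    (fun k => h k)
  have hyA : yA hA y (Over.mk (δ i)) hb = y i := by
    rw [yA_eq hA y hy _ hb i (fun k => Fin.succAbove_ne i k)]
    change y i ≫ (simp hA).map (factor_δ (δ i) i).op = _
    rw [factor_δ_self, op_id, CategoryTheory.Functor.map_id, Category.comp_id]
  rw [hm_comp, hm_restr]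
  change (eqToHom (obj_pos hA y (V := V) (Over.mk (𝟙 ⦋n + 1⦌)) (S_id _)).symm ≫ mor hA y hy g (Over.homMk (δ i) (Category.comp_id _) :
    Over.mk (δ i) ⟶ Over.mk (𝟙 ⦋n + 1⦌))) ≫ eqToHom _ = _
  rw [mor_mid hA y hy g _ (S_id _) hb, hm_congr hyA]
  simp
  refine congrArg (g ≫ ·) ?_
  exact Category.comp_id _

end Face

variable (D : Type u) [SmallCategory D]

/-- The point in degree zero. -/
abbrev Q₀ : Dᵒᵖ ⥤ Type u := (Fillable.pt D).obj (op ⦋0⦌)

/-- Labels over the point. -/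
abbrev L' (m : SimplexCategory) : Type u := Lab (Fillable.pt D) (n₀ := 0) (𝟙 (Q₀ D)) m

/-- All labels. -/
abbrev All : ∀ m : SimplexCategory, L' D m → Prop := fun _ _ => True

lemma stable_all : Stable (All D) := fun _ _ _ _ _ => trivial

variable {D}

/-- Pairs of ways of restricting faces to a common simplex. -/
abbrev Pair (n : ℕ) : Type :=
  Σ m : Fin (n + 1), {t : ((⦋(m : ℕ)⦌ : SimplexCategory) ⟶ ⦋n + 1⦌) × Fin (n + 2) × Fin (n + 2) //
    (∀ k, t.1.toOrderHom k ≠ t.2.1) ∧ ∀ k, t.1.toOrderHom k ≠ t.2.2}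

/-- Compatible tuples of labels. -/
def Cond {n : ℕ} (ℓs : Fin (n + 2) → L' D ⦋n⦌) : Prop :=
  ∀ p : Pair n, comap (factor_δ p.2.1.1 p.2.1.2.1) (ℓs p.2.1.2.1) =
    comap (factor_δ p.2.1.1 p.2.1.2.2) (ℓs p.2.1.2.2)

variable [HasFiniteLimits D]

section Univ

variable {n : ℕ} (ℓs : Fin (n + 2) → L' D ⦋n⦌) (hc : Cond ℓs)

/-- The component of a tuple. -/
abbrev idx (i : Fin (n + 2)) : ((simp (stable_all D)).obj (op ⦋n⦌)).I := ⟨ℓs i, trivial⟩

/-- The target of a restriction. -/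
abbrev tgt (p : Pair n) : D :=
  ((simp (stable_all D)).obj (op ⦋(p.1 : ℕ)⦌)).obj
    (((simp (stable_all D)).map (factor_δ p.2.1.1 p.2.1.2.1).op).f (idx ℓs p.2.1.2.1))

/-- Restriction from the first face. -/
noncomputable def fst' : (∏ᶜ fun i => (ℓs i).top) ⟶ ∏ᶜ fun p : Pair n => tgt ℓs p :=
  Pi.lift fun p => Pi.π (fun i => (ℓs i).top) p.2.1.2.1 ≫
    ((simp (stable_all D)).map (factor_δ p.2.1.1 p.2.1.2.1).op).φ (idx ℓs p.2.1.2.1)

/-- Restriction from the second face, componentwise. -/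
noncomputable def sndComp (p : Pair n) : (∏ᶜ fun i => (ℓs i).top) ⟶ tgt ℓs p :=
  Pi.π (fun i => (ℓs i).top) p.2.1.2.2 ≫
    ((simp (stable_all D)).map (factor_δ p.2.1.1 p.2.1.2.2).op).φ (idx ℓs p.2.1.2.2) ≫
      eqToHom (congrArg ((simp (stable_all D)).obj (op ⦋(p.1 : ℕ)⦌)).obj (Subtype.ext (hc p).symm))

/-- Restriction from the second face. -/
noncomputable def snd' : (∏ᶜ fun i => (ℓs i).top) ⟶ ∏ᶜ fun p : Pair n => tgt ℓs p :=
  Pi.lift (sndComp ℓs hc)

lemma fst'_π (p : Pair n) : fst' ℓs ≫ Pi.π (fun p : Pair n => tgt ℓs p) p =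
    Pi.π (fun i => (ℓs i).top) p.2.1.2.1 ≫
      ((simp (stable_all D)).map (factor_δ p.2.1.1 p.2.1.2.1).op).φ (idx ℓs p.2.1.2.1) :=
  Pi.lift_π _ p

lemma snd'_π (p : Pair n) : snd' ℓs hc ≫ Pi.π (fun p : Pair n => tgt ℓs p) p = sndComp ℓs hc p :=
  Pi.lift_π _ p

/-- The object of compatible families with the given components. -/
noncomputable abbrev univObj : D := equalizer (fst' ℓs) (snd' ℓs hc)

/-- The universal compatible family. -/
noncomputable def univEl (i : Fin (n + 2)) :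
    El ((simp (stable_all D)).obj (op ⦋n⦌)) (univObj ℓs hc) :=
  mkEl (idx ℓs i) (equalizer.ι (fst' ℓs) (snd' ℓs hc) ≫ Pi.π (fun i => (ℓs i).top) i)

lemma consistent_univEl : Consistent (simp (stable_all D)) (univEl ℓs hc) := by
  intro m hm θ i j hi hj
  let p : Pair n := ⟨⟨m, Nat.lt_succ_of_le hm⟩, ⟨(θ, i, j), hi, hj⟩⟩
  refine el_ext (Subtype.ext (hc p)) ?_
  have h := equalizer.condition (fst' ℓs) (snd' ℓs hc) =≫ Pi.π (fun p : Pair n => tgt ℓs p) p
  rw [Category.assoc, Category.assoc, fst'_π ℓs p, snd'_π ℓs hc p, sndComp] at h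
  rw [hm_comp, hm_comp]
  change ((equalizer.ι (fst' ℓs) (snd' ℓs hc) ≫ Pi.π (fun i => (ℓs i).top) i) ≫
      ((simp (stable_all D)).map (factor_δ θ i).op).φ (idx ℓs i)) ≫ eqToHom _ =
    (equalizer.ι (fst' ℓs) (snd' ℓs hc) ≫ Pi.π (fun i => (ℓs i).top) j) ≫
      ((simp (stable_all D)).map (factor_δ θ j).op).φ (idx ℓs j)
  refine (congrArg (· ≫ eqToHom _) ((Category.assoc _ _ _).trans h)).trans ?_
  refine ((Category.assoc _ _ _).trans (congrArg (equalizer.ι (fst' ℓs) (snd' ℓs hc) ≫ ·) ?_)).trans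
    (Category.assoc _ _ _).symm
  refine ((Category.assoc _ _ _).trans (congrArg (Pi.π (fun i => (ℓs i).top) j ≫ ·) ?_))
  exact (Category.assoc _ _ _).trans ((congrArg (((simp (stable_all D)).map (factor_δ θ j).op).φ (idx ℓs j) ≫ ·)
    (eqToHom_trans _ _)).trans (Category.comp_id _))

/-- The glued label. -/
noncomputable def glue {V : D} (g : V ⟶ univObj ℓs hc) : L' D ⦋n + 1⦌ :=
  Glue.lab (stable_all D) (univEl ℓs hc) (consistent_univEl ℓs hc) g PUnit.unit (fun _ => rfl)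
    (fun _ _ => ⟨PUnit.unit, rfl⟩)

lemma comap_δ_glue {V : D} (g : V ⟶ univObj ℓs hc) (i : Fin (n + 2)) :
    comap (δ i) (glue ℓs hc g) = ℓs i :=
  Glue.comap_δ (stable_all D) _ _ _ _ _ _ i

lemma glue_obj {V : D} (g : V ⟶ univObj ℓs hc) (a : Over (⦋n + 1⦌ : SimplexCategory))
    (h : Glue.S a) : (glue ℓs hc g).F.obj (op a) = V :=
  Glue.lab_obj (stable_all D) _ _ _ _ _ _ a h

end Univ

/-- The constant label. -/
def point (Z : D) : L' D ⦋0⦌ :=
  Exist.pointLab (P := Fillable.pt D) (n₀ := 0) (π := 𝟙 (Q₀ D)) (Z := Z) PUnit.unit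
    fun _ => ⟨PUnit.unit, rfl⟩

variable {ι₀ : Type u} (Z₀ : ι₀ → D) {ι : D → Type u} (cov : ∀ W, ι W → D)
  (cmap : ∀ W (c : ι W), cov W c ⟶ W)

/-- The generating labels. -/
inductive Gen : ∀ n : ℕ, L' D ⦋n⦌ → Prop
  | zero (c : ι₀) : Gen 0 (point (Z₀ c))
  | glue (n : ℕ) (ℓs : Fin (n + 2) → L' D ⦋n⦌) (hc : Cond ℓs) (k : Fin (n + 2) → ℕ)
      (e : ∀ i, (⦋n⦌ : SimplexCategory) ⟶ ⦋k i⦌) (he : ∀ i, Function.Surjective (e i).toOrderHom)
      (ℓ₁ : ∀ i, L' D ⦋k i⦌) (hgen : ∀ i, Gen (k i) (ℓ₁ i))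
      (heq : ∀ i, ℓs i = comap (e i) (ℓ₁ i)) (c : ι (univObj ℓs hc)) :
      Gen (n + 1) (FiniteExist.glue ℓs hc (cmap _ c))

/-- The admissible labels. -/
def Adm (m : SimplexCategory) (ℓ : L' D m) : Prop :=
  ∃ (k : ℕ) (e : m ⟶ ⦋k⦌), Function.Surjective e.toOrderHom ∧
    ∃ ℓ₁, Gen Z₀ cov cmap k ℓ₁ ∧ ℓ = comap e ℓ₁

lemma len_le_of_surjective {m : SimplexCategory} {k : ℕ} (e : m ⟶ ⦋k⦌)
    (he : Function.Surjective e.toOrderHom) : k ≤ m.len := by
  have := Fintype.card_le_of_surjective _ he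
  simpa using this

lemma adm_comap : ∀ (k : ℕ) (m : SimplexCategory) (ψ : m ⟶ ⦋k⦌) (ℓ₀ : L' D ⦋k⦌),
    Gen Z₀ cov cmap k ℓ₀ → Adm Z₀ cov cmap m (comap ψ ℓ₀) := by
  intro k
  induction k using Nat.strong_induction_on with
  | _ k ih =>
    intro m ψ ℓ₀ h
    by_cases hψ : Function.Surjective ψ.toOrderHom
    · exact ⟨k, ψ, hψ, ℓ₀, h, rfl⟩
    cases h with
    | zero c =>
      exact absurd (fun a => ⟨0, Subsingleton.elim (α := Fin 1) _ _⟩) hψ
    | glue n ℓs hc k e he ℓ₁ hgen heq c =>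
      obtain ⟨i, hi⟩ := Glue.exists_missing ψ hψ
      have hψi : factor_δ (m := m.len) ψ i ≫ δ i = ψ := factor_δ_spec (m := m.len) ψ i hi
      rw [← hψi, comap_comp, comap_δ_glue, heq i, ← comap_comp]
      exact ih (k i) (Nat.lt_succ_of_le (len_le_of_surjective (e i) (he i))) m _ _ (hgen i)

lemma stable_adm : Stable (Adm Z₀ cov cmap) := by
  rintro m m' θ ℓ ⟨k, e, -, ℓ₁, h, rfl⟩
  rw [← comap_comp]
  exact adm_comap Z₀ cov cmap k m' _ _ h

instance finite_homs (m m' : SimplexCategory) : Finite (m ⟶ m') :=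
  Finite.of_injective (fun α => (α.toOrderHom : Fin (m.len + 1) → Fin (m'.len + 1)))
    (fun α β h => SimplexCategory.Hom.ext _ _ (OrderHom.ext _ _ h))

lemma finite_gen [Finite ι₀] [∀ W, Finite (ι W)] :
    ∀ n : ℕ, {ℓ | Gen Z₀ cov cmap n ℓ}.Finite := by
  intro n
  induction n using Nat.strong_induction_on with
  | _ n ih =>
    cases n with
    | zero =>
      refine (Set.finite_range fun c => point (Z₀ c)).subset ?_
      intro ℓ hℓ
      cases hℓ with
      | zero c => exact ⟨c, rfl⟩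
    | succ n =>
      have hA : {ℓ | Adm Z₀ cov cmap ⦋n⦌ ℓ}.Finite := by
        have h1 := Set.finite_iUnion (ι := Σ k : Fin (n + 1), ((⦋n⦌ : SimplexCategory) ⟶ ⦋(k : ℕ)⦌))
          fun p => (ih p.1 p.1.2).image (comap p.2)
        refine h1.subset ?_
        rintro ℓ ⟨k, e, he, ℓ₁, h, rfl⟩
        exact Set.mem_iUnion.2 ⟨⟨⟨k, Nat.lt_succ_of_le (len_le_of_surjective e he)⟩, e⟩, ℓ₁, h, rfl⟩
      haveI := hA.to_subtype
      refine (Set.finite_range fun q : Σ t : {t : Fin (n + 2) → {ℓ | Adm Z₀ cov cmap ⦋n⦌ ℓ} //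
          Cond fun i => (t i).1}, ι (univObj (fun i => (t.1 i).1) t.2) =>
            glue (fun i => (q.1.1 i).1) q.1.2 (cmap _ q.2)).subset ?_
      intro ℓ hℓ
      cases hℓ with
      | glue n ℓs hc k e he ℓ₁ hgen heq c =>
        exact ⟨⟨⟨fun i => ⟨ℓs i, k i, e i, he i, ℓ₁ i, hgen i, heq i⟩, hc⟩, c⟩, rfl⟩

lemma finite_I [Finite ι₀] [∀ W, Finite (ι W)] (n : ℕ) :
    Finite ((simp (stable_adm Z₀ cov cmap)).obj (op ⦋n⦌)).I := by
  have h1 := Set.finite_iUnion (ι := Σ k : Fin (n + 1), ((⦋n⦌ : SimplexCategory) ⟶ ⦋(k : ℕ)⦌))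
    fun p => (finite_gen Z₀ cov cmap (p.1 : ℕ)).image (comap p.2)
  exact (h1.subset (by
    rintro ℓ ⟨k, e, he, ℓ₁, h, rfl⟩
    exact Set.mem_iUnion.2
      ⟨⟨⟨k, Nat.lt_succ_of_le (len_le_of_surjective e he)⟩, e⟩, ℓ₁, h, rfl⟩) :
      {ℓ | Adm Z₀ cov cmap ⦋n⦌ ℓ}.Finite).to_subtype

lemma mem_class (B : Set D) (h0 : ∀ c, Z₀ c ∈ B) (hB : ∀ W c, cov W c ∈ B) {n : SimplexCategoryᵒᵖ}
    (i : ((simp (stable_adm Z₀ cov cmap)).obj n).I) :
    ((simp (stable_adm Z₀ cov cmap)).obj n).obj i ∈ B := by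
  obtain ⟨⟨m⟩⟩ := n
  obtain ⟨ℓ, k, e, he, ℓ₁, h, rfl⟩ := i
  change ℓ₁.F.obj ((Over.map e).op.obj (op (Over.mk (𝟙 _)))) ∈ B
  cases h with
  | zero c => exact h0 c
  | glue n ℓs hc k e' he' ℓ₁ hgen heq c =>
    exact (glue_obj ℓs hc (cmap _ c) ((Over.map e).obj (Over.mk (𝟙 _))) (fun a => by
      obtain ⟨b, hb⟩ := he a
      exact ⟨b, hb⟩)).symm ▸ hB _ c

/-- Forgetting admissibility. -/
def incl : simp (stable_adm Z₀ cov cmap) ⟶ simp (stable_all D) where
  app m := ⟨fun ℓ => ⟨ℓ.1, trivial⟩, fun _ => 𝟙 _⟩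
  naturality m m' φ := FormalCoproduct.hom_ext rfl fun ℓ => by
    refine (Category.comp_id _).trans ?_
    exact (Category.comp_id _).trans (Category.id_comp _).symm

lemma el_incl_injective {m : SimplexCategoryᵒᵖ} {W : D}
    {a b : El ((simp (stable_adm Z₀ cov cmap)).obj m) W}
    (h : a ≫ (incl Z₀ cov cmap).app m = b ≫ (incl Z₀ cov cmap).app m) : a = b := by
  have hi : ix a = ix b := Subtype.ext (show _ from congrArg Subtype.val (congrArg ix h) :)
  refine el_ext hi ?_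
  have h2 := Glue.hm_congr h
  simp only [hm_comp] at h2
  have h3 : hm a = hm b ≫ eqToHom (congrArg _ hi.symm) := by
    refine (Category.comp_id _).symm.trans (h2.trans ?_)
    exact congrArg (· ≫ eqToHom _) (Category.comp_id _)
  rw [h3, Category.assoc, eqToHom_trans, eqToHom_refl, Category.comp_id]

/-- A tuple of admissible elements factors through the universal one. -/
theorem exists_filler {n : ℕ} {W : D}
    (y : Fin (n + 2) → El ((simp (stable_adm Z₀ cov cmap)).obj (op ⦋n⦌)) W)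
    (hy : Consistent (simp (stable_adm Z₀ cov cmap)) y) :
    ∃ (L : D) (w : W ⟶ L), ∀ (V : D) (g : V ⟶ W) (c : ι L) (h : V ⟶ cov L c),
      h ≫ cmap L c = g ≫ w → ∃ x : El ((simp (stable_adm Z₀ cov cmap)).obj (op ⦋n + 1⦌)) V,
        ∀ i, x ≫ (simp (stable_adm Z₀ cov cmap)).δ i = (FormalCoproduct.incl D).map g ≫ y i := by
  let ℓs : Fin (n + 2) → L' D ⦋n⦌ := fun i => (ix (y i)).1
  let y' : Fin (n + 2) → El ((simp (stable_all D)).obj (op ⦋n⦌)) W := fun i =>
    y i ≫ (incl Z₀ cov cmap).app _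
  have hy' : Consistent (simp (stable_all D)) y' := fun m hm θ i j hi hj => by
    simp only [y', Category.assoc, ← (incl Z₀ cov cmap).naturality]
    rw [← Category.assoc, hy hm θ i j hi hj, Category.assoc]
  have hc : Cond ℓs := fun p =>
    congrArg Subtype.val (congrArg ix (hy' (Nat.le_of_lt_succ p.1.2) p.2.1.1 p.2.1.2.1 p.2.1.2.2
      p.2.2.1 p.2.2.2))
  let l : W ⟶ ∏ᶜ fun i => (ℓs i).top := Pi.lift fun i => hm (y' i)
  have hl : ∀ i, l ≫ Pi.π (fun i => (ℓs i).top) i = hm (y' i) := fun i => Pi.lift_π _ i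
  have hw : l ≫ fst' ℓs = l ≫ snd' ℓs hc := by
    refine Pi.hom_ext _ _ fun p => ?_
    have := Glue.hm_congr (hy' (Nat.le_of_lt_succ p.1.2) p.2.1.1 p.2.1.2.1 p.2.1.2.2
      p.2.2.1 p.2.2.2)
    simp only [hm_comp] at this
    rw [Category.assoc, Category.assoc, fst'_π, snd'_π, sndComp]
    refine ((Category.assoc _ _ _).symm.trans (congrArg (· ≫ _) (hl _))).trans (this.trans ?_)
    exact (Category.assoc _ _ _).trans
      ((congrArg (· ≫ _) (hl _)).symm.trans (Category.assoc _ _ _))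
  refine ⟨univObj ℓs hc, equalizer.lift _ hw, fun V g c h hcomm => ?_⟩
  have hg : ∀ i, (ix (y i)).1 = ℓs i := fun i => rfl
  choose k e he ℓ₁ hgen heq using fun i => (ix (y i)).2
  have hAdm : Adm Z₀ cov cmap ⦋n + 1⦌ (glue ℓs hc (cmap _ c)) :=
    ⟨n + 1, 𝟙 _, fun a => ⟨a, rfl⟩, _, Gen.glue n ℓs hc k e he ℓ₁ hgen heq c,
      (comap_id _).symm⟩
  let j : ((simp (stable_adm Z₀ cov cmap)).obj (op ⦋n + 1⦌)).I := ⟨_, hAdm⟩
  let x : El ((simp (stable_adm Z₀ cov cmap)).obj (op ⦋n + 1⦌)) V :=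
    mkEl j (h ≫ eqToHom (glue_obj ℓs hc (cmap _ c) _ (Glue.S_id _)).symm)
  refine ⟨x, fun i => el_incl_injective Z₀ cov cmap ?_⟩
  have hx : ∀ t : El ((simp (stable_all D)).obj (op ⦋n + 1⦌)) (cov _ c),
      t = mkEl (⟨glue ℓs hc (cmap _ c), trivial⟩ : ((simp (stable_all D)).obj (op ⦋n + 1⦌)).I)
        (eqToHom (glue_obj ℓs hc (cmap _ c) _ (Glue.S_id _)).symm) →
      x ≫ (incl Z₀ cov cmap).app _ = (FormalCoproduct.incl D).map h ≫ t := by
    rintro t rfl
    exact el_ext rfl ((Category.comp_id _).trans (Category.comp_id _))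
  simp only [Category.assoc]
  rw [show (simp (stable_adm Z₀ cov cmap)).δ i ≫ (incl Z₀ cov cmap).app _ =
    (incl Z₀ cov cmap).app _ ≫ (simp (stable_all D)).δ i from (incl Z₀ cov cmap).naturality _,
    ← Category.assoc, hx _ rfl, Category.assoc]
  refine (congrArg ((FormalCoproduct.incl D).map h ≫ ·) (lab_face (stable_all D) (univEl ℓs hc)
    (consistent_univEl ℓs hc) (cmap _ c) PUnit.unit
    (fun _ => rfl) (fun _ _ => ⟨PUnit.unit, rfl⟩) trivial i)).trans ?_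
  rw [← Category.assoc, ← Functor.map_comp, hcomm, Functor.map_comp, Category.assoc]
  refine congrArg _ ?_
  refine el_ext rfl ?_
  change (equalizer.lift l hw ≫ equalizer.ι _ _ ≫
    Pi.π (fun i => (ℓs i).top) i) ≫ 𝟙 _ = hm (y' i)
  rw [equalizer.lift_ι_assoc]
  exact (Category.comp_id _).trans (hl i)

end Groth.Agent.Lib.Hypercov.FiniteExist

namespace Groth.Agent.Lib.Hypercov.FiniteExist

open Hypercov.Fillers Hypercov.Labels

/-- Hypercoverings by finite families from a covering class. -/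
theorem exists_finite_hypercovering {C : Type u} [SmallCategory C] [HasPullbacks C]
    (J : GrothendieckTopology C) (B : Set C)
    (h2 : ∀ X : C, ∃ (ι : Type u) (_ : Finite ι) (U : ι → C) (f : ∀ i, U i ⟶ X),
      Sieve.ofArrows U f ∈ J X ∧ ∀ i, U i ∈ B)
    (X : C) [∀ (n : ℕ) (F : (SimplexCategory.Truncated n)ᵒᵖ ⥤ FormalCoproduct.{u} (Over X)),
      (SimplexCategory.Truncated.inclusion n).op.HasRightKanExtension F] :
    ∃ K : SimplicialObject (FormalCoproduct.{u} (Over X)), Hyper.IsHypercovering J X K ∧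
      ∀ n : ℕ, Finite (K.obj (op ⦋n⦌)).I ∧ ∀ i, ((K.obj (op ⦋n⦌)).obj i).left ∈ B := by
  haveI : HasFiniteLimits (Over X) := hasFiniteLimits_of_hasTerminal_and_pullbacks
  choose ι hι U f hf hB using h2
  let Z₀ : ι X → Over X := fun c => Over.mk (f X c)
  let cov : ∀ W : Over X, ι W.left → Over X := fun W c => Over.mk (f W.left c ≫ W.hom)
  let cmap : ∀ (W : Over X) (c : ι W.left), cov W c ⟶ W := fun W c => Over.homMk (f W.left c) rfl
  haveI : Finite (ι X) := hι X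
  haveI : ∀ W : Over X, Finite (ι W.left) := fun W => hι W.left
  refine ⟨simp (stable_adm Z₀ cov cmap), ?_, fun n => ⟨finite_I Z₀ cov cmap n, fun i => ?_⟩⟩
  · refine Converse.isHypercovering_of_fillers J X _ ?_ fun n W y hy => ?_
    · refine J.superset_covering ?_ (hf X)
      intro V g hg
      obtain ⟨c, a, rfl⟩ := (Sieve.mem_ofArrows_iff _ _ _).1 hg
      let j : ((simp (stable_adm Z₀ cov cmap)).obj (op ⦋0⦌)).I :=
        ⟨point (Z₀ c), 0, 𝟙 _, fun a => ⟨a, rfl⟩, _, Gen.zero c, (comap_id _).symm⟩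
      exact (Sieve.mem_ofArrows_iff _ _ _).2 ⟨j, a, rfl⟩
    · obtain ⟨L, w, hL⟩ := exists_filler Z₀ cov cmap y hy
      refine ⟨_, (J.over X).pullback_stable w (J.overEquiv_symm_mem_over L _ (hf L.left)),
        fun V g hg => ?_⟩
      change ((Sieve.overEquiv L).symm (Sieve.ofArrows (U L.left) (f L.left))).arrows (g ≫ w) at hg
      rw [Sieve.overEquiv_symm_iff] at hg
      obtain ⟨c, a, ha⟩ := (Sieve.mem_ofArrows_iff _ _ _).1 hg
      exact hL V g c (Over.homMk a (by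
        change a ≫ f L.left c ≫ L.hom = V.hom
        rw [← Category.assoc, ← ha, Over.w])) (Over.OverMorphism.ext ha.symm)
  · exact mem_class Z₀ cov cmap {W : Over X | W.left ∈ B} (hB X) (fun W c => hB W.left c) i

end Groth.Agent.Lib.Hypercov.FiniteExist
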