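import Groth.Agent.Lib.Hypercov.Labels
import Groth.Agent.Lib.Hypercov.Converse

/-!
# Gluing labelled simplices along the boundary
-/

universe u

open CategoryTheory Limits Opposite Simplicial SimplexCategory

namespace Groth.Agent.Lib.Hypercov.Glue

attribute [local semireducible] SimplexCategory.Hom

open Hypercov.Fillers Hypercov.Labels

section Aux

variable {D : Type u} [SmallCategory D] {E E' E'' : FormalCoproduct.{u} D} {W : D}

lemma φ_idx (f : E ⟶ E') {i i' : E.I} (h : i = i') :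
    f.φ i = eqToHom (congrArg E.obj h) ≫ f.φ i' ≫
      eqToHom (congrArg (fun i => E'.obj (f.f i)) h.symm) := by
  subst h; simp

lemma φ_hom {f g : E ⟶ E'} (h : f = g) (i : E.I) :
    f.φ i = g.φ i ≫ eqToHom (congrArg (fun g : E ⟶ E' => E'.obj (g.f i)) h.symm) := by
  subst h; simp

lemma hm_congr {y y' : El E W} (h : y = y') :
    hm y = hm y' ≫ eqToHom (congrArg (fun y => E.obj (ix y)) h.symm) := by
  subst h; simp

lemma over_map_congr {m : SimplexCategory} (F : (Over m)ᵒᵖ ⥤ D) {x x' z z' : Over m}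
    (f : x ⟶ z) (f' : x' ⟶ z') (hx : x = x') (hz : z = z')
    (hf : f.left ≫ eqToHom (congrArg (fun a : Over m => a.left) hz) =
      eqToHom (congrArg (fun a : Over m => a.left) hx) ≫ f'.left) :
    F.map f.op = eqToHom (congrArg (fun a => F.obj (op a)) hz) ≫ F.map f'.op ≫
      eqToHom (congrArg (fun a => F.obj (op a)) hx.symm) := by
  subst hx hz
  simp only [eqToHom_refl, Category.id_comp, Category.comp_id] at hf ⊢
  rw [Over.OverMorphism.ext hf]

end Aux

/-- Surjectivity of a simplex. -/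
abbrev S {m : SimplexCategory} (a : Over m) : Prop := Function.Surjective a.hom.toOrderHom

lemma S_of_hom {m : SimplexCategory} {b a : Over m} (f : b ⟶ a) (hb : S b) : S a := by
  intro k
  obtain ⟨l, hl⟩ := hb k
  refine ⟨f.left.toOrderHom l, ?_⟩
  rw [← hl, ← Over.w f]
  rfl

lemma exists_missing {m : SimplexCategory} {n : ℕ} (α : m ⟶ ⦋n + 1⦌)
    (h : ¬ Function.Surjective α.toOrderHom) :
    ∃ i : Fin (n + 2), ∀ k, α.toOrderHom k ≠ i := by
  obtain ⟨i, hi⟩ := not_forall.1 h
  exact ⟨i, fun k hk => hi ⟨k, hk⟩⟩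

lemma not_S_comp_δ {n : ℕ} (b : Over (⦋n⦌ : SimplexCategory)) (i : Fin (n + 2)) :
    ¬ S ((Over.map (δ i)).obj b) := fun h => by
  obtain ⟨k, hk⟩ := h i
  exact Fin.succAbove_ne i _ hk

variable {D : Type u} [SmallCategory D] {P : SimplexCategoryᵒᵖ ⥤ (Dᵒᵖ ⥤ Type u)}
  {n₀ : ℕ} {Q : Dᵒᵖ ⥤ Type u} {π : Q ⟶ P.obj (op ⦋n₀⦌)}
  {A : ∀ m : SimplexCategory, Lab P π m → Prop} (hA : Stable A)
  {n : ℕ} {W : D} (y : Fin (n + 2) → El ((simp hA).obj (op ⦋n⦌)) W)
  (hy : Consistent (simp hA) y) {V : D} (g : V ⟶ W)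
  (p : (P.obj (op ⦋n + 1⦌)).obj (op V))
  (hp : ∀ i, (P.map (δ i).op).app (op V) p = (P.obj (op ⦋n⦌)).map g.op (elAug hA (y i)))
  (qs : ∀ α : (⦋n₀⦌ : SimplexCategory) ⟶ ⦋n + 1⦌, Function.Surjective α.toOrderHom →
    {q : Q.obj (op V) // π.app (op V) q = (P.map α.op).app (op V) p})

/-- The element attached to a simplex of the boundary. -/
noncomputable def yA (a : Over (⦋n + 1⦌ : SimplexCategory)) (h : ¬ S a) :
    El ((simp hA).obj (op a.left)) W :=
  y (exists_missing a.hom h).choose ≫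
    (simp hA).map (factor_δ (m := a.left.len) a.hom (exists_missing a.hom h).choose).op

include hy in
lemma yA_eq (a : Over (⦋n + 1⦌ : SimplexCategory)) (h : ¬ S a) (i : Fin (n + 2))
    (hi : ∀ k, a.hom.toOrderHom k ≠ i) :
    yA hA y a h = y i ≫ (simp hA).map (factor_δ (m := a.left.len) a.hom i).op :=
  Converse.consistent_apply hy a.hom _ i (exists_missing a.hom h).choose_spec hi

include hy in
lemma yA_map {b a : Over (⦋n + 1⦌ : SimplexCategory)} (f : b ⟶ a) (ha : ¬ S a)
    (hb : ¬ S b) : yA hA y b hb = yA hA y a ha ≫ (simp hA).map f.left.op := by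
  obtain ⟨i, hi⟩ := exists_missing a.hom ha
  have hi' : ∀ k, b.hom.toOrderHom k ≠ i := fun k => by
    rw [← Over.w f]
    exact hi _
  rw [yA_eq hA y hy a ha i hi, yA_eq hA y hy b hb i hi', Category.assoc, ← Functor.map_comp,
    ← op_comp]
  refine congrArg (fun t => y i ≫ (simp hA).map t) (congrArg Quiver.Hom.op ?_)
  rw [← cancel_mono (SimplexCategory.δ i), Category.assoc,
    factor_δ_spec (m := b.left.len) b.hom i hi']
  exact ((congrArg (f.left ≫ ·) (factor_δ_spec (m := a.left.len) a.hom i hi)).trans (Over.w f)).symm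

open Classical in
/-- The objects of the glued label. -/
noncomputable def obj (hA : Stable A) (y : Fin (n + 2) → El ((simp hA).obj (op ⦋n⦌)) W) (V : D)
    (a : Over (⦋n + 1⦌ : SimplexCategory)) : D :=
  if h : S a then V else ((simp hA).obj (op a.left)).obj (ix (yA hA y a h))

lemma obj_pos (a : Over (⦋n + 1⦌ : SimplexCategory)) (h : S a) : obj hA y V a = V :=
  dif_pos h

lemma obj_neg (a : Over (⦋n + 1⦌ : SimplexCategory)) (h : ¬ S a) :
    obj hA y V a = ((simp hA).obj (op a.left)).obj (ix (yA hA y a h)) :=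
  dif_neg h

include hy in
lemma ix_yA {b a : Over (⦋n + 1⦌ : SimplexCategory)} (f : b ⟶ a) (ha : ¬ S a) (hb : ¬ S b) :
    ((simp hA).map f.left.op).f (ix (yA hA y a ha)) = ix (yA hA y b hb) :=
  (congrArg ix (yA_map hA y hy f ha hb)).symm

open Classical in
/-- The maps of the glued label. -/
noncomputable def mor {b a : Over (⦋n + 1⦌ : SimplexCategory)} (f : b ⟶ a) :
    obj hA y V a ⟶ obj hA y V b :=
  if hb : S b then eqToHom ((obj_pos hA y a (S_of_hom f hb)).trans (obj_pos hA y b hb).symm)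
  else if ha : S a then
    eqToHom (obj_pos hA y a ha) ≫ g ≫ hm (yA hA y b hb) ≫ eqToHom (obj_neg hA y b hb).symm
  else eqToHom (obj_neg hA y a ha) ≫ ((simp hA).map f.left.op).φ (ix (yA hA y a ha)) ≫
    eqToHom ((congrArg ((simp hA).obj (op b.left)).obj (ix_yA hA y hy f ha hb)).trans
      (obj_neg hA y b hb).symm)

lemma mor_pos {b a : Over (⦋n + 1⦌ : SimplexCategory)} (f : b ⟶ a) (hb : S b) :
    mor hA y hy g f =
      eqToHom ((obj_pos hA y a (S_of_hom f hb)).trans (obj_pos hA y b hb).symm) :=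
  dif_pos hb

lemma mor_mid {b a : Over (⦋n + 1⦌ : SimplexCategory)} (f : b ⟶ a) (ha : S a) (hb : ¬ S b) :
    mor hA y hy g f = eqToHom (obj_pos hA y a ha) ≫ g ≫ hm (yA hA y b hb) ≫
      eqToHom (obj_neg hA y b hb).symm :=
  (dif_neg hb).trans (dif_pos ha)

lemma mor_neg {b a : Over (⦋n + 1⦌ : SimplexCategory)} (f : b ⟶ a) (ha : ¬ S a) (hb : ¬ S b) :
    mor hA y hy g f = eqToHom (obj_neg hA y a ha) ≫
      ((simp hA).map f.left.op).φ (ix (yA hA y a ha)) ≫
        eqToHom ((congrArg ((simp hA).obj (op b.left)).obj (ix_yA hA y hy f ha hb)).trans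
          (obj_neg hA y b hb).symm) :=
  (dif_neg hb).trans (dif_neg ha)

/-- The diagram of the glued label. -/
noncomputable def diag : (Over (⦋n + 1⦌ : SimplexCategory))ᵒᵖ ⥤ D where
  obj a := obj hA y V a.unop
  map f := mor hA y hy g f.unop
  map_id := by
    rintro ⟨a⟩
    by_cases ha : S a
    · rw [unop_id, mor_pos hA y hy g _ ha, eqToHom_refl]
    · rw [unop_id, mor_neg hA y hy g _ ha ha,
        φ_hom (show (simp hA).map (𝟙 a : a ⟶ a).left.op = 𝟙 _ from (simp hA).map_id _)
          (ix (yA hA y a ha))]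
      simp
  map_comp := by
    rintro ⟨a⟩ ⟨b⟩ ⟨c⟩ f' h'
    obtain ⟨f, rfl⟩ : ∃ f : b ⟶ a, f' = f.op := ⟨f'.unop, rfl⟩
    obtain ⟨h, rfl⟩ : ∃ h : c ⟶ b, h' = h.op := ⟨h'.unop, rfl⟩
    change mor hA y hy g (h ≫ f) = mor hA y hy g f ≫ mor hA y hy g h
    by_cases hc : S c
    · rw [mor_pos hA y hy g _ hc, mor_pos hA y hy g h hc,
        mor_pos hA y hy g f (S_of_hom h hc), eqToHom_trans]
    by_cases hb : S b
    · rw [mor_mid hA y hy g _ (S_of_hom f hb) hc, mor_pos hA y hy g f hb,
        mor_mid hA y hy g h hb hc, eqToHom_trans_assoc]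
    by_cases ha : S a
    · rw [mor_mid hA y hy g _ ha hc, mor_mid hA y hy g f ha hb, mor_neg hA y hy g h hb hc,
        hm_congr (yA_map hA y hy h hb hc), hm_comp]
      simp
      exact congrArg (fun t => eqToHom _ ≫ g ≫ t) (Category.assoc _ _ _)
    · rw [mor_neg hA y hy g _ ha hc, mor_neg hA y hy g f ha hb, mor_neg hA y hy g h hb hc,
        φ_hom (show (simp hA).map (h ≫ f).left.op =
          (simp hA).map f.left.op ≫ (simp hA).map h.left.op by
            rw [Over.comp_left, op_comp]; exact (simp hA).map_comp _ _)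
          (ix (yA hA y a ha)),
        φ_idx ((simp hA).map h.left.op) (ix_yA hA y hy f ha hb).symm]
      simp

open Classical in
/-- The sections of the glued label. -/
noncomputable def aug (a : Over (⦋n + 1⦌ : SimplexCategory)) :
    (P.obj (op a.left)).obj (op (obj hA y V a)) :=
  if h : S a then
    (P.obj (op a.left)).map (eqToHom (obj_pos hA y a h)).op ((P.map a.hom.op).app (op V) p)
  else
    (P.obj (op a.left)).map (eqToHom (obj_neg hA y a h)).op (topAug hA (ix (yA hA y a h)))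

lemma aug_pos (a : Over (⦋n + 1⦌ : SimplexCategory)) (h : S a) :
    aug hA y p a =
      (P.obj (op a.left)).map (eqToHom (obj_pos hA y a h)).op ((P.map a.hom.op).app (op V) p) :=
  dif_pos h

lemma aug_neg (a : Over (⦋n + 1⦌ : SimplexCategory)) (h : ¬ S a) :
    aug hA y p a =
      (P.obj (op a.left)).map (eqToHom (obj_neg hA y a h)).op (topAug hA (ix (yA hA y a h))) :=
  dif_neg h

lemma map_map {a : SimplexCategoryᵒᵖ} {X Y Z : D} (f : X ⟶ Y) (f' : Y ⟶ Z)
    (t : (P.obj a).obj (op Z)) :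
    (P.obj a).map f.op ((P.obj a).map f'.op t) = (P.obj a).map (f ≫ f').op t := by
  rw [op_comp, Functor.map_comp, ConcreteCategory.comp_apply]

lemma map_id' {a : SimplexCategoryᵒᵖ} {X : D} (t : (P.obj a).obj (op X)) :
    (P.obj a).map (𝟙 X).op t = t := by
  rw [op_id, CategoryTheory.Functor.map_id]
  rfl

include hy hp in
lemma elAug_yA (a : Over (⦋n + 1⦌ : SimplexCategory)) (h : ¬ S a) :
    (P.obj (op a.left)).map g.op (elAug hA (yA hA y a h)) = (P.map a.hom.op).app (op V) p := by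
  obtain ⟨i, hi⟩ := exists_missing a.hom h
  rw [yA_eq hA y hy a h i hi, elAug_map, ← NatTrans.naturality_apply, ← hp i]
  conv_rhs => rw [← factor_δ_spec (m := a.left.len) a.hom i hi, op_comp, Functor.map_comp]
  rfl

include hy hp in
lemma aug_mor {b a : Over (⦋n + 1⦌ : SimplexCategory)} (f : b ⟶ a) :
    (P.obj (op b.left)).map (mor hA y hy g f).op (aug hA y p b) =
      (P.map f.left.op).app (op (obj hA y V a)) (aug hA y p a) := by
  by_cases hb : S b
  · rw [mor_pos hA y hy g f hb, aug_pos hA y p b hb, aug_pos hA y p a (S_of_hom f hb),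
      NatTrans.naturality_apply, map_map, eqToHom_trans]
    refine congrArg _ ?_
    conv_lhs => rw [← Over.w f, op_comp, Functor.map_comp]
    rfl
  by_cases ha : S a
  · rw [mor_mid hA y hy g f ha hb, aug_neg hA y p b hb, aug_pos hA y p a ha,
      NatTrans.naturality_apply, map_map]
    simp only [Category.assoc, eqToHom_trans, eqToHom_refl, Category.comp_id]
    rw [← map_map, ← map_map]
    refine congrArg _ ((elAug_yA hA y hy g p hp b hb).trans ?_)
    conv_lhs => rw [← Over.w f, op_comp, Functor.map_comp]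
    rfl
  · rw [mor_neg hA y hy g f ha hb, aug_neg hA y p b hb, aug_neg hA y p a ha,
      NatTrans.naturality_apply, map_map]
    simp only [Category.assoc, eqToHom_trans]
    rw [← map_map]
    refine congrArg _ ((?_ : _ = _).trans (topAug_map hA f.left.op _))
    rw [← map_map]
    refine congrArg _ ?_
    have key : ∀ {j j' : ((simp hA).obj (op b.left)).I} (_ : j = j')
        (e : ((simp hA).obj (op b.left)).obj j = ((simp hA).obj (op b.left)).obj j'),
        (P.obj (op b.left)).map (eqToHom e).op (topAug hA j') = topAug hA j := by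
      intro j j' h; subst h; intro e; exact map_id' _
    exact key (ix_yA hA y hy f ha hb) _

open Classical in
/-- The lifts of the glued label. -/
noncomputable def lift (hA : Stable A) (y : Fin (n + 2) → El ((simp hA).obj (op ⦋n⦌)) W)
    (p : (P.obj (op ⦋n + 1⦌)).obj (op V))
    (qs : ∀ α : (⦋n₀⦌ : SimplexCategory) ⟶ ⦋n + 1⦌, Function.Surjective α.toOrderHom →
      {q : Q.obj (op V) // π.app (op V) q = (P.map α.op).app (op V) p})
    (α : (⦋n₀⦌ : SimplexCategory) ⟶ ⦋n + 1⦌) : Q.obj (op (obj hA y V (Over.mk α))) :=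
  if h : S (Over.mk α) then Q.map (eqToHom (obj_pos hA y _ h)).op (qs α h).1
  else Q.map (eqToHom (obj_neg hA y _ h)).op ((ix (yA hA y (Over.mk α) h)).1.lift (𝟙 _))

lemma lift_spec (α : (⦋n₀⦌ : SimplexCategory) ⟶ ⦋n + 1⦌) :
    π.app _ (lift hA y p qs α) = aug hA y p (Over.mk α) := by
  by_cases h : S (Over.mk α)
  · rw [aug_pos hA y p _ h, show lift hA y p qs α = _ from dif_pos h, NatTrans.naturality_apply]
    exact congrArg _ (qs α h).2
  · rw [aug_neg hA y p _ h, show lift hA y p qs α = _ from dif_neg h, NatTrans.naturality_apply]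
    exact congrArg _ ((ix (yA hA y (Over.mk α) h)).1.lift_spec (𝟙 _))

/-- The glued label. -/
noncomputable def lab : Lab P π ⦋n + 1⦌ where
  F := diag hA y hy g
  aug := aug hA y p
  aug_nat f := aug_mor hA y hy g p hp f
  lift := lift hA y p qs
  lift_spec := lift_spec hA y p qs

lemma lab_obj (a : Over (⦋n + 1⦌ : SimplexCategory)) (h : S a) :
    (lab hA y hy g p hp qs).F.obj (op a) = V :=
  obj_pos hA y a h

lemma yA_δ (i : Fin (n + 2)) (b : Over (⦋n⦌ : SimplexCategory)) (hy : Consistent (simp hA) y) :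
    yA hA y ((Over.map (δ i)).obj b) (not_S_comp_δ b i) = y i ≫ (simp hA).map b.hom.op := by
  have hi : ∀ k, ((Over.map (δ i)).obj b).hom.toOrderHom k ≠ i := fun k => Fin.succAbove_ne i _
  rw [yA_eq hA y hy _ _ i hi]
  refine congrArg (fun t => y i ≫ (simp hA).map t) (congrArg Quiver.Hom.op ?_)
  rw [← cancel_mono (δ i)]
  exact factor_δ_spec (m := b.left.len) ((Over.map (δ i)).obj b).hom i hi

lemma φ_simp (ℓ : ((simp hA).obj (op ⦋n⦌)).I) {b b' : Over (⦋n⦌ : SimplexCategory)} (f : b' ⟶ b) :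
    ((simp hA).map f.left.op).φ (((simp hA).map b.hom.op).f ℓ) =
      ℓ.1.F.map f.op ≫ eqToHom (congrArg (fun h => ℓ.1.F.obj (op (Over.mk h))) (Over.w f).symm) := by
  refine (over_map_congr ℓ.1.F (x := Over.mk (f.left ≫ b.hom)) (z := Over.mk (𝟙 b.left ≫ b.hom))
    ((Over.map b.hom).map (Over.homMk f.left (Category.comp_id _) :
      Over.mk f.left ⟶ Over.mk (𝟙 b.left))) f
    (congrArg Over.mk (Over.w f)) (congrArg Over.mk (Category.id_comp b.hom)) ?_).trans ?_
  · exact (Category.comp_id _).trans (Category.id_comp _).symm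
  · exact Category.id_comp _

/-- The faces of the glued label. -/
theorem comap_δ (i : Fin (n + 2)) :
    comap (δ i) (lab hA y hy g p hp qs) = (ix (y i)).1 := by
  have hix : ∀ b : Over (⦋n⦌ : SimplexCategory),
      ix (yA hA y ((Over.map (δ i)).obj b) (not_S_comp_δ b i)) =
        ((simp hA).map b.hom.op).f (ix (y i)) := fun b => congrArg ix (yA_δ hA y i b hy)
  refine Labels.ext (CategoryTheory.Functor.ext (F := (comap (δ i) (lab hA y hy g p hp qs)).F)
    (G := (ix (y i)).1.F) (fun b => ?_) (fun X Y f => ?_)) ?_ ?_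
  · exact (obj_neg hA y _ (not_S_comp_δ b.unop i)).trans
      (congrArg ((simp hA).obj (op b.unop.left)).obj (hix b.unop))
  · obtain ⟨b⟩ := X
    obtain ⟨b'⟩ := Y
    rename' f => f'
    obtain ⟨f, rfl⟩ : ∃ f : b' ⟶ b, f' = f.op := ⟨f'.unop, rfl⟩
    change mor hA y hy g ((Over.map (δ i)).map f) = _
    rw [mor_neg hA y hy g _ (not_S_comp_δ b i) (not_S_comp_δ b' i),
      φ_idx ((simp hA).map ((Over.map (δ i)).map f).left.op) (hix b),
      show ((simp hA).map ((Over.map (δ i)).map f).left.op).φ _ = _ from φ_simp hA (ix (y i)) f]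
    simp
    exact congrArg (eqToHom _ ≫ ·)
      ((Category.assoc _ _ _).trans (congrArg (_ ≫ ·) (eqToHom_trans _ _)))
  · intro a
    change _ = aug hA y p ((Over.map (δ i)).obj a)
    rw [aug_neg hA y p _ (not_S_comp_δ a i)]
    have key : ∀ {j j' : ((simp hA).obj (op a.left)).I} (h : j = j') {X : D}
        (e : X = ((simp hA).obj (op a.left)).obj j) (e' : X = ((simp hA).obj (op a.left)).obj j'),
        (P.obj (op a.left)).map (eqToHom e').op (topAug hA j') =
          (P.obj (op a.left)).map (eqToHom e).op (topAug hA j) := by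
      intro j j' h; subst h; intro X e e'; rfl
    exact key (hix a) _ _
  · intro α
    change _ = lift hA y p qs (α ≫ δ i)
    rw [show lift hA y p qs (α ≫ δ i) = _ from dif_neg (not_S_comp_δ (Over.mk α) i)]
    have key : ∀ {j j' : ((simp hA).obj (op ⦋n₀⦌)).I} (h : j = j') {X : D}
        (e : X = ((simp hA).obj (op ⦋n₀⦌)).obj j) (e' : X = ((simp hA).obj (op ⦋n₀⦌)).obj j'),
        Q.map (eqToHom e').op (j'.1.lift (𝟙 _)) = Q.map (eqToHom e).op (j.1.lift (𝟙 _)) := by
      intro j j' h; subst h; intro X e e'; rfl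
    exact key (hix (Over.mk α)) _ _

lemma S_id (m : SimplexCategory) : S (Over.mk (𝟙 m)) := fun k => ⟨k, rfl⟩

/-- The element over `g` given by the glued label. -/
theorem exists_el (hAℓ : A _ (lab hA y hy g p hp qs)) :
    ∃ x : El ((simp hA).obj (op ⦋n + 1⦌)) V,
      (∀ i, x ≫ (simp hA).δ i = (FormalCoproduct.incl D).map g ≫ y i) ∧ elAug hA x = p := by
  let ℓ : ((simp hA).obj (op ⦋n + 1⦌)).I := ⟨lab hA y hy g p hp qs, hAℓ⟩
  refine ⟨mkEl ℓ (eqToHom (obj_pos hA y _ (S_id _)).symm), fun i => ?_, ?_⟩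
  · have hi : ix (mkEl ℓ (eqToHom (obj_pos hA y _ (S_id _)).symm) ≫ (simp hA).δ i) =
        ix ((FormalCoproduct.incl D).map g ≫ y i) := Subtype.ext (comap_δ hA y hy g p hp qs i)
    refine el_ext hi ?_
    have hb : ¬ S (Over.mk (δ i)) := fun h => not_S_comp_δ (Over.mk (𝟙 ⦋n⦌)) i
      (fun k => h k)
    have hyA : yA hA y (Over.mk (δ i)) hb = y i := by
      rw [yA_eq hA y hy _ hb i (fun k => Fin.succAbove_ne i k)]
      change y i ≫ (simp hA).map (factor_δ (δ i) i).op = _
      rw [factor_δ_self, op_id, CategoryTheory.Functor.map_id, Category.comp_id]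
    rw [hm_comp, hm_restr]
    change (eqToHom (obj_pos hA y (V := V) (Over.mk (𝟙 ⦋n + 1⦌)) (S_id _)).symm ≫ mor hA y hy g (Over.homMk (δ i) (Category.comp_id _) :
      Over.mk (δ i) ⟶ Over.mk (𝟙 ⦋n + 1⦌))) ≫ eqToHom _ = _
    rw [mor_mid hA y hy g _ (S_id _) hb, hm_congr hyA]
    simp
    exact congrArg (g ≫ ·) (Category.comp_id _)
  · change (P.obj (op ⦋n + 1⦌)).map (eqToHom (obj_pos hA y (V := V) (Over.mk (𝟙 ⦋n + 1⦌)) (S_id _)).symm).op (aug hA y p (Over.mk (𝟙 _))) = p
    rw [aug_pos hA y p _ (S_id _)]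
    refine (map_map (a := op ⦋n + 1⦌) _ _ _).trans ?_
    simp only [eqToHom_trans, eqToHom_refl]
    refine (map_id' _).trans ?_
    change (P.map (𝟙 (op ⦋n + 1⦌))).app (op V) p = p
    rw [CategoryTheory.Functor.map_id]
    rfl

lemma hom_cases (a : Over (⦋n + 1⦌ : SimplexCategory)) :
    (lab hA y hy g p hp qs).F.obj (op a) = V ∨
      ∃ (i : Fin (n + 2)) (b : Over (⦋n⦌ : SimplexCategory)),
        (lab hA y hy g p hp qs).F.obj (op a) = (ix (y i)).1.F.obj (op b) := by
  by_cases h : S a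
  · exact Or.inl (lab_obj hA y hy g p hp qs a h)
  · obtain ⟨i, hi⟩ := exists_missing a.hom h
    refine Or.inr ⟨i, Over.mk (factor_δ (m := a.left.len) a.hom i), ?_⟩
    rw [← comap_δ hA y hy g p hp qs i]
    change _ = (lab hA y hy g p hp qs).F.obj (op (Over.mk (factor_δ (m := a.left.len) a.hom i ≫ δ i)))
    rw [factor_δ_spec (m := a.left.len) a.hom i hi]
    rfl

end Groth.Agent.Lib.Hypercov.Glue
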