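import Groth.Agent.Lib.Hypercov.Fillable

/-!
# Refining hypercoverings
-/

universe u

open CategoryTheory Limits Opposite Simplicial SimplexCategory

namespace Groth.Agent.Lib.Hypercov.Refine

open Hypercov.Fillers Hypercov.Labels

variable {C : Type u} [SmallCategory C] {J : GrothendieckTopology C} {X : C}
  [∀ (n : ℕ) (F : (SimplexCategory.Truncated n)ᵒᵖ ⥤ FormalCoproduct.{u} (Over X)),
    (SimplexCategory.Truncated.inclusion n).op.HasRightKanExtension F]

lemma covers_univ {D : Type u} [SmallCategory D] (J' : GrothendieckTopology D) :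
    Exist.Covers J' Set.univ := fun W =>
  ⟨⊤, J'.top_mem W, fun V g _ => ⟨W, g, 𝟙 W, trivial, Category.comp_id g⟩⟩

variable {K : SimplicialObject (FormalCoproduct.{u} (Over X))} {n : ℕ}

/-- A locally surjective map to a level is hit by a refinement. -/
theorem exists_refinement (hK : Hyper.IsHypercovering J X K) {Q : (Over X)ᵒᵖ ⥤ Type u}
    (π : Q ⟶ Sigma.hom.obj (K.obj (op ⦋n⦌))) (hπ : Presheaf.IsLocallySurjective (J.over X) π) :
    ∃ (L : SimplicialObject (FormalCoproduct.{u} (Over X))) (f : L ⟶ K),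
      Hyper.IsHypercovering J X L ∧
      ∀ i : (L.obj (op ⦋n⦌)).I, ∃ q : Q.obj (op ((L.obj (op ⦋n⦌)).obj i)),
        π.app _ q = mkEl i (𝟙 _) ≫ f.app (op ⦋n⦌) := by
  refine ⟨Exist.obj (Fillable.elP K) π Set.univ, Fillable.toBase _,
    Exist.isHypercovering (covers_univ _) (Fillable.locFill hK) hπ,
    fun i => ⟨Fillable.toLift _ i, ?_⟩⟩
  refine (Fillable.π_toLift _ i).trans ?_
  rw [Fillable.el_comp_toBase]
  change _ = ((Fillable.elP K).obj (op ⦋n⦌)).map (𝟙 _).op (topAug _ i)
  rw [op_id, CategoryTheory.Functor.map_id]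
  rfl

lemma formal_hom_ext {D : Type u} [SmallCategory D] {E E' : FormalCoproduct.{u} D} {f g : E ⟶ E'}
    (h : ∀ i : E.I, mkEl i (𝟙 (E.obj i)) ≫ f = mkEl i (𝟙 (E.obj i)) ≫ g) : f = g := by
  have hi : ∀ i, f.f i = g.f i := fun i => congrArg ix (h i)
  refine FormalCoproduct.hom_ext (funext hi) fun i => ?_
  have h1 := Glue.hm_congr (h i)
  simp only [hm_comp] at h1
  have h2 : f.φ i = g.φ i ≫ eqToHom (congrArg E'.obj (hi i).symm) :=
    ((Category.id_comp _).symm.trans h1).trans (congrArg (· ≫ _) (Category.id_comp _))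
  rw [h2]
  exact (Category.assoc _ _ _).trans
    ((congrArg (_ ≫ ·) (eqToHom_trans _ _)).trans (Category.comp_id _))

/-- A covering of a level is dominated by a refinement. -/
theorem exists_refinement_factor (hK : Hyper.IsHypercovering J X K)
    {Z : FormalCoproduct.{u} (Over X)} (u : Z ⟶ K.obj (op ⦋n⦌))
    (hu : Hyper.IsSRCovering (J.over X) u) :
    ∃ (L : SimplicialObject (FormalCoproduct.{u} (Over X))) (f : L ⟶ K)
      (g : L.obj (op ⦋n⦌) ⟶ Z),
      Hyper.IsHypercovering J X L ∧ g ≫ u = f.app (op ⦋n⦌) := by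
  obtain ⟨L, f, hL, h⟩ := exists_refinement hK (Sigma.hom.map u)
    (Sigma.isLocallySurjective_of_isSRCovering u hu)
  choose q hq using h
  refine ⟨L, f, ⟨fun i => ix (q i : El Z _), fun i => hm (q i : El Z _)⟩, hL,
    formal_hom_ext fun i => ?_⟩
  rw [← hq i, ← Category.assoc]
  refine congrArg (· ≫ u) (el_ext rfl ?_)
  exact (Category.comp_id _).trans (Category.id_comp _)

/-- A locally surjective map to the presheaf of a level is hit by a refinement. -/
theorem exists_refinement_yoneda (hK : Hyper.IsHypercovering J X K) {P : (Over X)ᵒᵖ ⥤ Type u}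
    (u : P ⟶ FormalCoproduct.yoneda.obj (K.obj (op ⦋n⦌)))
    (hu : Presheaf.IsLocallySurjective (J.over X) u) :
    ∃ (L : SimplicialObject (FormalCoproduct.{u} (Over X))) (f : L ⟶ K)
      (g : FormalCoproduct.yoneda.obj (L.obj (op ⦋n⦌)) ⟶ P),
      Hyper.IsHypercovering J X L ∧
        g ≫ u = FormalCoproduct.yoneda.map (f.app (op ⦋n⦌)) := by
  have := hu
  obtain ⟨L, f, hL, h⟩ := exists_refinement hK (u ≫ Sigma.compareIso.hom.app _)
    (Presheaf.isLocallySurjective_comp (J.over X) _ _)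
  choose q hq using h
  refine ⟨L, f, Limits.Sigma.desc fun i => yonedaEquiv.symm (q i), hL,
    Limits.Sigma.hom_ext _ _ fun i => ?_⟩
  have hι : (Limits.Sigma.ι (fun i => CategoryTheory.yoneda.obj ((L.obj (op ⦋n⦌)).obj i)) i) ≫
      Limits.Sigma.desc (fun i => yonedaEquiv.symm (q i)) = yonedaEquiv.symm (q i) :=
    Limits.Sigma.ι_desc _ i
  refine ((Category.assoc _ _ _).symm.trans (congrArg (· ≫ u) hι)).trans ?_
  apply yonedaEquiv.injective
  apply Conditions.toEl_injective
  rw [yonedaEquiv_comp, Equiv.apply_symm_apply, yonedaEquiv_comp]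
  refine (hq i).trans ?_
  refine Eq.trans ?_ (Conditions.toEl_comp (f.app (op ⦋n⦌)) _).symm
  refine congrArg (· ≫ f.app (op ⦋n⦌)) ?_
  exact (Sigma.ι_compare (L.obj (op ⦋n⦌)) i (op _) (𝟙 _)).symm

end Groth.Agent.Lib.Hypercov.Refine
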