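import Groth.Agent.Lib.Hypercov.PathFill
import Groth.Agent.Lib.Hypercov.Refine
import Mathlib.AlgebraicTopology.SimplicialSet.Homotopy

/-!
# Hypercoverings are cofiltered up to homotopy
-/

universe u

open CategoryTheory Limits Opposite Simplicial SimplexCategory MonoidalCategory

namespace Groth.Agent.Lib.Hypercov.Homotopic

attribute [local semireducible] SimplexCategory.Hom

open Hypercov.Fillers Hypercov.Labels LocExtend

variable {D : Type u} [SmallCategory D]

section ElYoneda

variable {E E' : FormalCoproduct.{u} D}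

/-- A morphism given by a natural family on elements. -/
def homOfEl (Φ : ∀ W : D, El E W → El E' W) : E ⟶ E' :=
  ⟨fun i => ix (Φ _ (mkEl i (𝟙 (E.obj i)))), fun i => hm (Φ _ (mkEl i (𝟙 (E.obj i))))⟩

lemma el_decomp {W : D} (y : El E W) :
    y = (FormalCoproduct.incl D).map (hm y) ≫ mkEl (ix y) (𝟙 _) :=
  el_ext rfl (((Category.comp_id _)).trans (Category.comp_id (hm y)).symm)

lemma comp_homOfEl (Φ : ∀ W : D, El E W → El E' W)
    (hΦ : ∀ {V W : D} (g : V ⟶ W) (y : El E W),
      Φ V ((FormalCoproduct.incl D).map g ≫ y) = (FormalCoproduct.incl D).map g ≫ Φ W y)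
    {W : D} (y : El E W) : y ≫ homOfEl Φ = Φ W y := by
  conv_rhs => rw [el_decomp y, hΦ]
  exact el_ext rfl (Category.comp_id _)

lemma hom_ext_el {f g : E ⟶ E'} (h : ∀ (W : D) (y : El E W), y ≫ f = y ≫ g) : f = g := by
  have hi : ∀ i, f.f i = g.f i := fun i => congrArg ix (h _ (mkEl i (𝟙 _)))
  refine FormalCoproduct.hom_ext (funext hi) fun i => ?_
  have h1 := Glue.hm_congr (h _ (mkEl i (𝟙 _)))
  simp only [hm_comp] at h1
  have h2 : f.φ i = g.φ i ≫ eqToHom (congrArg E'.obj (hi i).symm) :=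
    ((Category.id_comp _).symm.trans h1).trans (congrArg (· ≫ _) (Category.id_comp _))
  rw [h2]
  exact (Category.assoc _ _ _).trans
    ((congrArg (_ ≫ ·) (eqToHom_trans _ _)).trans (Category.comp_id _))

end ElYoneda

section Simplicial

variable {M K : SimplicialObject (FormalCoproduct.{u} D)}

/-- A simplicial morphism given by a natural family on elements. -/
def simpHomOfEl (Φ : ∀ m (W : D), El (M.obj m) W → El (K.obj m) W)
    (hΦ : ∀ m {V W : D} (g : V ⟶ W) (y : El (M.obj m) W),
      Φ m V ((FormalCoproduct.incl D).map g ≫ y) = (FormalCoproduct.incl D).map g ≫ Φ m W y)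
    (hΦ' : ∀ {m m'} (φ : m ⟶ m') (W : D) (y : El (M.obj m) W),
      Φ m' W (y ≫ M.map φ) = Φ m W y ≫ K.map φ) : M ⟶ K where
  app m := homOfEl (Φ m)
  naturality m m' φ := hom_ext_el fun W y => by
    rw [← Category.assoc, comp_homOfEl (Φ m') (hΦ m'), ← Category.assoc,
      comp_homOfEl (Φ m) (hΦ m), hΦ' φ]

end Simplicial

section Path

variable {K L : SimplicialObject (FormalCoproduct.{u} D)} {a b : K ⟶ L} {n₀ : ℕ}
  {Q : Dᵒᵖ ⥤ Type u} {π : Q ⟶ (PathFill.pathP a b).obj (op ⦋n₀⦌)}
  {A : ∀ m : SimplexCategory, Lab (PathFill.pathP a b) π m → Prop} (hA : Stable A)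

/-- The morphism to the source. -/
noncomputable def toSource : simp hA ⟶ K :=
  simpHomOfEl (fun m W y => (elAug hA y : PathFill.PathEl a b m.unop W).k)
    (fun m V W g y => congrArg (fun p : PathFill.PathEl a b m.unop V => p.k) (elAug_restr hA g y))
    (fun {m m'} φ W y =>
      congrArg (fun p : PathFill.PathEl a b m'.unop W => p.k) (elAug_map hA φ y))

lemma comp_toSource {m : SimplexCategoryᵒᵖ} {W : D} (y : El ((simp hA).obj m) W) :
    y ≫ (toSource hA).app m = (elAug hA y : PathFill.PathEl a b m.unop W).k :=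
  comp_homOfEl _ (fun {V W} g y =>
    congrArg (fun p : PathFill.PathEl a b m.unop V => p.k) (elAug_restr hA g y)) y

/-- The simplicial map induced on elements. -/
def secMap {M N : SimplicialObject (FormalCoproduct.{u} D)} (f : M ⟶ N) (W : D) :
    sec M W ⟶ sec N W where
  app m := ↾fun x => (x : El (M.obj m) W) ≫ f.app m
  naturality m m' φ := ConcreteCategory.hom_ext _ _ fun x => by
    change ((x : El (M.obj m) W) ≫ M.map φ) ≫ f.app m' = (x ≫ f.app m) ≫ N.map φ
    rw [Category.assoc, Category.assoc, f.naturality]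

/-- The pair of the identity and a simplex of the interval. -/
def idPair (l : SimplexCategoryᵒᵖ) (t : (Δ[1] : SSet.{u}).obj l) :
    ((Δ[l.unop.len] : SSet.{u}) ⊗ Δ[1]).obj l :=
  Prod.mk (SSet.stdSimplex.objEquiv.symm (𝟙 l.unop) : (Δ[l.unop.len] : SSet.{u}).obj l) t

/-- The homotopy on elements. -/
noncomputable def secHomotopyMap (W : D) : sec (simp hA) W ⊗ Δ[1] ⟶ sec L W where
  app l := ↾fun x => (elAug hA (m := l) x.1 : PathFill.PathEl a b l.unop W).H.app l
    (idPair l x.2)
  naturality l l' θ := ConcreteCategory.hom_ext _ _ fun x => by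
    change (elAug hA ((x.1 : El ((simp hA).obj l) W) ≫ (simp hA).map θ) :
        PathFill.PathEl a b l'.unop W).H.app l'
      (idPair l' ((Δ[1] : SSet.{u}).map θ x.2)) = _
    rw [elAug_map]
    change (elAug hA (m := l) x.1 : PathFill.PathEl a b l.unop W).H.app l'
      ((SSet.stdSimplex.map θ.unop).app l' (SSet.stdSimplex.objEquiv.symm (𝟙 l'.unop)),
        (Δ[1] : SSet.{u}).map θ x.2) = _
    refine Eq.trans ?_ (NatTrans.naturality_apply
      (elAug hA (m := l) x.1 : PathFill.PathEl a b l.unop W).H θ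
        (idPair l x.2))
    refine congrArg _ (Prod.ext ?_ rfl)
    apply SSet.stdSimplex.objEquiv.injective
    exact (Category.id_comp θ.unop).trans (Category.comp_id θ.unop).symm

lemma ι₀_secHomotopyMap (W : D) :
    SSet.ι₀ ≫ secHomotopyMap hA W = secMap (toSource hA ≫ a) W := by
  refine NatTrans.ext (funext fun l => ConcreteCategory.hom_ext _ _ fun x => ?_)
  refine (PathFill.h₀_app (elAug hA (m := l) x : PathFill.PathEl a b l.unop W) (𝟙 l.unop)).trans ?_
  change _ = (x : El ((simp hA).obj l) W) ≫ (toSource hA).app l ≫ a.app l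
  rw [op_id, CategoryTheory.Functor.map_id, ← Category.assoc, comp_toSource]
  exact Category.comp_id _

lemma ι₁_secHomotopyMap (W : D) :
    SSet.ι₁ ≫ secHomotopyMap hA W = secMap (toSource hA ≫ b) W := by
  refine NatTrans.ext (funext fun l => ConcreteCategory.hom_ext _ _ fun x => ?_)
  refine (PathFill.h₁_app (elAug hA (m := l) x : PathFill.PathEl a b l.unop W) (𝟙 l.unop)).trans ?_
  change _ = (x : El ((simp hA).obj l) W) ≫ (toSource hA).app l ≫ b.app l
  rw [op_id, CategoryTheory.Functor.map_id, ← Category.assoc, comp_toSource]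
  exact Category.comp_id _

lemma secHomotopyMap_res {V W : D} (g : V ⟶ W) {l : SimplexCategoryᵒᵖ}
    (x : (sec (simp hA) W ⊗ Δ[1]).obj l) :
    (secHomotopyMap hA V).app l ((res (simp hA) g).app l x.1, x.2) =
      (res L g).app l ((secHomotopyMap hA W).app l x) := by
  change (elAug hA (m := l) ((FormalCoproduct.incl D).map g ≫ x.1) :
      PathFill.PathEl a b l.unop V).H.app l _ = _
  rw [elAug_restr]
  rfl

/-- The homotopy of simplicial sets of elements. -/
noncomputable def secHomotopy (W : D) :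
    SSet.Homotopy (secMap (toSource hA ≫ a) W) (secMap (toSource hA ≫ b) W) where
  h := secHomotopyMap hA W
  h₀ := ι₀_secHomotopyMap hA W
  h₁ := ι₁_secHomotopyMap hA W
  rel := NatTrans.ext (funext fun l => ConcreteCategory.hom_ext _ _ fun x => x.1.2.elim)

/-- The homotopy on one element. -/
noncomputable def hEl {n : ℕ} (i : Fin (n + 1)) (W : D) (y : El ((simp hA).obj (op ⦋n⦌)) W) :
    El (L.obj (op ⦋n + 1⦌)) W :=
  ((secHomotopy hA W).toSimplicialObjectHomotopy.h i :
    (sec (simp hA) W).obj (op ⦋n⦌) ⟶ (sec L W).obj (op ⦋n + 1⦌)) y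

/-- The components of the homotopy. -/
noncomputable def hComp {n : ℕ} (i : Fin (n + 1)) :
    (simp hA).obj (op ⦋n⦌) ⟶ L.obj (op ⦋n + 1⦌) :=
  homOfEl (hEl hA i)

lemma comp_hComp {n : ℕ} (i : Fin (n + 1)) {W : D} (y : El ((simp hA).obj (op ⦋n⦌)) W) :
    y ≫ hComp hA i = hEl hA i W y := by
  refine comp_homOfEl (hEl hA i)
    (fun {V W} g y => ?_) y
  change (secHomotopyMap hA V).app _ ((SSet.yonedaEquiv.symm
      ((res (simp hA) g).app (op ⦋n⦌) y : (sec (simp hA) V).obj (op ⦋n⦌))).app _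
        (SSet.prodStdSimplex.nonDegenerateEquiv₁ i).1.1,
      (SSet.prodStdSimplex.nonDegenerateEquiv₁ i).1.2) = _
  refine Eq.trans ?_ (secHomotopyMap_res hA g
    ((SSet.yonedaEquiv.symm (y : (sec (simp hA) W).obj (op ⦋n⦌))).app _
      (SSet.prodStdSimplex.nonDegenerateEquiv₁ i).1.1,
      (SSet.prodStdSimplex.nonDegenerateEquiv₁ i).1.2))
  refine congrArg _ (Prod.ext ?_ rfl)
  exact (Category.assoc ((FormalCoproduct.incl D).map g) (y : El ((simp hA).obj (op ⦋n⦌)) W)
    ((simp hA).map _))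

section Transfer

variable {M N : SimplicialObject (FormalCoproduct.{u} D)} {f g : M ⟶ N} {W : D}
  (H : SimplicialObject.Homotopy (secMap f W) (secMap g W))

/-- A component of a homotopy, on an element. -/
def app' {n : ℕ} (i : Fin (n + 1)) (y : El (M.obj (op ⦋n⦌)) W) : El (N.obj (op ⦋n + 1⦌)) W :=
  H.h i (y : (sec M W).obj (op ⦋n⦌))

lemma app_zero (n : ℕ) (y : El (M.obj (op ⦋n⦌)) W) : app' H 0 y ≫ N.δ 0 = y ≫ g.app (op ⦋n⦌) :=
  ConcreteCategory.congr_hom (H.h_zero_comp_δ_zero n) (y : (sec M W).obj (op ⦋n⦌))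

lemma app_last (n : ℕ) (y : El (M.obj (op ⦋n⦌)) W) :
    app' H (Fin.last n) y ≫ N.δ (Fin.last (n + 1)) = y ≫ f.app (op ⦋n⦌) :=
  ConcreteCategory.congr_hom (H.h_last_comp_δ_last n) (y : (sec M W).obj (op ⦋n⦌))

lemma app_succ_lt {n : ℕ} (i : Fin (n + 2)) (j : Fin (n + 1)) (hij : i ≤ j.castSucc)
    (y : El (M.obj (op ⦋n + 1⦌)) W) :
    app' H j.succ y ≫ N.δ i.castSucc = app' H j (y ≫ M.δ i) :=
  ConcreteCategory.congr_hom (H.h_succ_comp_δ_castSucc_of_lt i j hij)
    (y : (sec M W).obj (op ⦋n + 1⦌))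

lemma app_succ_succ {n : ℕ} (j : Fin (n + 1)) (y : El (M.obj (op ⦋n + 1⦌)) W) :
    app' H j.succ y ≫ N.δ j.castSucc.succ = app' H j.castSucc y ≫ N.δ j.castSucc.succ :=
  ConcreteCategory.congr_hom (H.h_succ_comp_δ_castSucc_succ j) (y : (sec M W).obj (op ⦋n + 1⦌))

lemma app_castSucc_lt {n : ℕ} (i : Fin (n + 2)) (j : Fin (n + 1)) (hji : j.castSucc < i)
    (y : El (M.obj (op ⦋n + 1⦌)) W) :
    app' H j.castSucc y ≫ N.δ i.succ = app' H j (y ≫ M.δ i) :=
  ConcreteCategory.congr_hom (H.h_castSucc_comp_δ_succ_of_lt i j hji)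
    (y : (sec M W).obj (op ⦋n + 1⦌))

lemma app_σ_le {n : ℕ} (i j : Fin (n + 1)) (hij : i ≤ j) (y : El (M.obj (op ⦋n⦌)) W) :
    app' H j y ≫ N.σ i.castSucc = app' H j.succ (y ≫ M.σ i) :=
  ConcreteCategory.congr_hom (H.h_comp_σ_castSucc_of_le i j hij) (y : (sec M W).obj (op ⦋n⦌))

lemma app_σ_lt {n : ℕ} (i j : Fin (n + 1)) (hij : j ≤ i) (y : El (M.obj (op ⦋n⦌)) W) :
    app' H j y ≫ N.σ i.succ = app' H j.castSucc (y ≫ M.σ i) :=
  ConcreteCategory.congr_hom (H.h_comp_σ_succ_of_lt i j hij) (y : (sec M W).obj (op ⦋n⦌))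

end Transfer

lemma hEl_eq {n : ℕ} (i : Fin (n + 1)) (W : D) (y : El ((simp hA).obj (op ⦋n⦌)) W) :
    hEl hA i W y = app' (secHomotopy hA W).toSimplicialObjectHomotopy i y := rfl

/-- The homotopy. -/
noncomputable def homotopy : SimplicialObject.Homotopy (toSource hA ≫ a) (toSource hA ≫ b) where
  h i := hComp hA i
  h_zero_comp_δ_zero n := hom_ext_el fun W y => by
    rw [← Category.assoc, comp_hComp, hEl_eq]
    exact app_zero _ n y
  h_last_comp_δ_last n := hom_ext_el fun W y => by
    rw [← Category.assoc, comp_hComp, hEl_eq]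
    exact app_last _ n y
  h_succ_comp_δ_castSucc_of_lt i j hij := hom_ext_el fun W y => by
    rw [← Category.assoc, comp_hComp, hEl_eq]
    rw [← Category.assoc, comp_hComp, hEl_eq]
    exact app_succ_lt _ i j hij y
  h_succ_comp_δ_castSucc_succ j := hom_ext_el fun W y => by
    rw [← Category.assoc, comp_hComp, hEl_eq]
    rw [← Category.assoc, comp_hComp, hEl_eq]
    exact app_succ_succ _ j y
  h_castSucc_comp_δ_succ_of_lt i j hij := hom_ext_el fun W y => by
    rw [← Category.assoc, comp_hComp, hEl_eq]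
    rw [← Category.assoc, comp_hComp, hEl_eq]
    exact app_castSucc_lt _ i j hij y
  h_comp_σ_castSucc_of_le i j hij := hom_ext_el fun W y => by
    rw [← Category.assoc, comp_hComp, hEl_eq]
    rw [← Category.assoc, comp_hComp, hEl_eq]
    exact app_σ_le _ i j hij y
  h_comp_σ_succ_of_lt i j hij := hom_ext_el fun W y => by
    rw [← Category.assoc, comp_hComp, hEl_eq]
    rw [← Category.assoc, comp_hComp, hEl_eq]
    exact app_σ_lt _ i j hij y

end Path

section Product

variable (K L : SimplicialObject (FormalCoproduct.{u} D))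

/-- The product of the simplicial presheaves of elements. -/
def prodP : SimplexCategoryᵒᵖ ⥤ (Dᵒᵖ ⥤ Type u) where
  obj m :=
    { obj := fun W => ((Fillable.elP K).obj m).obj W × ((Fillable.elP L).obj m).obj W
      map := fun g => ↾fun x => (((Fillable.elP K).obj m).map g x.1,
        ((Fillable.elP L).obj m).map g x.2)
      map_id := fun W => by
        ext x <;> simp
      map_comp := fun g h => by
        ext x <;> simp }
  map φ :=
    { app := fun W => ↾fun x => (((Fillable.elP K).map φ).app W x.1,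
        ((Fillable.elP L).map φ).app W x.2)
      naturality := fun W W' g => by
        ext x
        · exact NatTrans.naturality_apply ((Fillable.elP K).map φ) g x.1
        · exact NatTrans.naturality_apply ((Fillable.elP L).map φ) g x.2 }
  map_id m := by
    ext W x <;> simp
  map_comp φ ψ := by
    ext W x <;> simp

variable {K L}

lemma locFill_prodP {J : GrothendieckTopology D} (hK : Exist.LocFill J (Fillable.elP K))
    (hL : Exist.LocFill J (Fillable.elP L)) : Exist.LocFill J (prodP K L) where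
  zero W := by
    obtain ⟨S, hS, h⟩ := hK.zero W
    obtain ⟨S', hS', h'⟩ := hL.zero W
    refine ⟨S ⊓ S', J.intersection_covering hS hS', fun V g hg => ?_⟩
    obtain ⟨x⟩ := h g hg.1
    obtain ⟨x'⟩ := h' g hg.2
    exact ⟨(x, x')⟩
  fill n W y hy := by
    obtain ⟨S, hS, h⟩ := hK.fill n W (fun i => (y i).1)
      (fun m θ i j hi hj => congrArg Prod.fst (hy m θ i j hi hj))
    obtain ⟨S', hS', h'⟩ := hL.fill n W (fun i => (y i).2)
      (fun m θ i j hi hj => congrArg Prod.snd (hy m θ i j hi hj))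
    refine ⟨S ⊓ S', J.intersection_covering hS hS', fun V g hg => ?_⟩
    obtain ⟨x, hx⟩ := h g hg.1
    obtain ⟨x', hx'⟩ := h' g hg.2
    exact ⟨(x, x'), fun i => Prod.ext (hx i) (hx' i)⟩

variable {n₀ : ℕ} {Q : Dᵒᵖ ⥤ Type u} {π : Q ⟶ (prodP K L).obj (op ⦋n₀⦌)}
  {A : ∀ m : SimplexCategory, Lab (prodP K L) π m → Prop} (hA : Stable A)

/-- The projection to the first factor. -/
noncomputable def toFst : simp hA ⟶ K :=
  simpHomOfEl (fun _ _ y => (elAug hA y).1)
    (fun _ {_ _} g y => congrArg Prod.fst (elAug_restr hA g y))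
    (fun φ _ y => congrArg Prod.fst (elAug_map hA φ y))

/-- The projection to the second factor. -/
noncomputable def toSnd : simp hA ⟶ L :=
  simpHomOfEl (fun _ _ y => (elAug hA y).2)
    (fun _ {_ _} g y => congrArg Prod.snd (elAug_restr hA g y))
    (fun φ _ y => congrArg Prod.snd (elAug_map hA φ y))

end Product

section Over

variable {C : Type u} [SmallCategory C] {J : GrothendieckTopology C} {X : C}
  [∀ (n : ℕ) (F : (SimplexCategory.Truncated n)ᵒᵖ ⥤ FormalCoproduct.{u} (Over X)),
    (SimplexCategory.Truncated.inclusion n).op.HasRightKanExtension F]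
  {K L : SimplicialObject (FormalCoproduct.{u} (Over X))}

theorem exists_common (hK : Hyper.IsHypercovering J X K) (hL : Hyper.IsHypercovering J X L) :
    ∃ (M : SimplicialObject (FormalCoproduct.{u} (Over X))) (_ : M ⟶ K) (_ : M ⟶ L),
      Hyper.IsHypercovering J X M :=
  ⟨Exist.obj (prodP K L) (𝟙 ((prodP K L).obj (op ⦋0⦌))) Set.univ, toFst _, toSnd _,
    Exist.isHypercovering (Refine.covers_univ _)
      (locFill_prodP (Fillable.locFill hK) (Fillable.locFill hL))
      (Fillable.isLocallySurjective_id _ _)⟩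

theorem exists_homotopic (hK : Hyper.IsHypercovering J X K) (hL : Hyper.IsHypercovering J X L)
    (a b : K ⟶ L) :
    ∃ (M : SimplicialObject (FormalCoproduct.{u} (Over X))) (c : M ⟶ K),
      Hyper.IsHypercovering J X M ∧ Nonempty (SimplicialObject.Homotopy (c ≫ a) (c ≫ b)) :=
  ⟨Exist.obj (PathFill.pathP a b) (𝟙 ((PathFill.pathP a b).obj (op ⦋0⦌))) Set.univ, toSource _,
    Exist.isHypercovering (Refine.covers_univ _)
      (PathFill.locFill (J.over X) (Fillable.locFill hK) (Fillable.locFill hL))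
      (Fillable.isLocallySurjective_id _ _),
    ⟨homotopy _⟩⟩

end Over

end Groth.Agent.Lib.Hypercov.Homotopic
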