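import Groth.Agent.Lib.Hypercov.Refine
import Groth.Prelude.Def_Hyper2
import Mathlib.Algebra.Category.Grp.EpiMono
import Mathlib.CategoryTheory.Sites.LocallyBijective

/-!
# Refinements kill Cech classes of locally zero presheaves
-/

universe u

open CategoryTheory Limits Opposite Simplicial SimplexCategory

namespace Groth.Agent.Lib.Hypercov.KillZero

open Hypercov.Fillers Hypercov.Labels

variable {C : Type u} [SmallCategory C] {J : GrothendieckTopology C} {X : C}
  (N : Cᵒᵖ ⥤ AddCommGrpCat.{u})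

/-- Sections of a presheaf on the components of a formal coproduct, at an element. -/
noncomputable def valAt {E : FormalCoproduct.{u} (Over X)}
    (c : ToType (∏ᶜ fun i : E.I => ((Over.forget X).op ⋙ N).obj (op (E.obj i))))
    {W : Over X} (e : El E W) : N.obj (op W.left) :=
  N.map (hm e).left.op
    (Pi.π (fun i : E.I => ((Over.forget X).op ⋙ N).obj (op (E.obj i))) (ix e) c)

lemma valAt_restr {E : FormalCoproduct.{u} (Over X)}
    (c : ToType (∏ᶜ fun i : E.I => ((Over.forget X).op ⋙ N).obj (op (E.obj i))))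
    {V W : Over X} (g : V ⟶ W) (e : El E W) :
    valAt N c ((FormalCoproduct.incl _).map g ≫ e) = N.map g.left.op (valAt N c e) := by
  change N.map (g ≫ hm e).left.op
    (Pi.π (fun i : E.I => ((Over.forget X).op ⋙ N).obj (op (E.obj i))) (ix e) c) = _
  rw [Over.comp_left, op_comp, Functor.map_comp]
  rfl

/-- Elements on which the section vanishes. -/
def zeroLocus {E : FormalCoproduct.{u} (Over X)}
    (c : ToType (∏ᶜ fun i : E.I => ((Over.forget X).op ⋙ N).obj (op (E.obj i)))) :
    (Over X)ᵒᵖ ⥤ Type u where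
  obj W := {e : El E W.unop // valAt N c e = 0}
  map g := ↾fun e => ⟨(FormalCoproduct.incl _).map g.unop ≫ e.1, by
    rw [valAt_restr, e.2, map_zero]⟩
  map_id W := ConcreteCategory.hom_ext _ _ fun e =>
    Subtype.ext (ConcreteCategory.congr_hom ((Sigma.hom.obj E).map_id W) e.1)
  map_comp g h := ConcreteCategory.hom_ext _ _ fun e =>
    Subtype.ext (ConcreteCategory.congr_hom ((Sigma.hom.obj E).map_comp g h) e.1)

/-- The inclusion. -/
def zeroLocusι {E : FormalCoproduct.{u} (Over X)}
    (c : ToType (∏ᶜ fun i : E.I => ((Over.forget X).op ⋙ N).obj (op (E.obj i)))) :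
    zeroLocus N c ⟶ Sigma.hom.obj E where
  app W := ↾fun e => e.1

lemma isLocallySurjective_zeroLocusι (hN : IsZero ((presheafToSheaf J AddCommGrpCat.{u}).obj N))
    {E : FormalCoproduct.{u} (Over X)}
    (c : ToType (∏ᶜ fun i : E.I => ((Over.forget X).op ⋙ N).obj (op (E.obj i)))) :
    Presheaf.IsLocallySurjective (J.over X) (zeroLocusι N c) := ⟨fun {W} e => by
  let e : El E W := e
  have hz : IsZero (sheafify J N) :=
    (sheafToPresheaf J AddCommGrpCat.{u}).map_isZero hN
  have hsub : (toSheafify J N).app (op W.left) (valAt N c e) =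
      (toSheafify J N).app (op W.left) 0 := by
    have : Subsingleton ((sheafify J N).obj (op W.left)) :=
      AddCommGrpCat.subsingleton_of_isZero (hz.obj _)
    exact Subsingleton.elim _ _
  have hmem := J.overEquiv_symm_mem_over W _
    (Presheaf.equalizerSieve_mem J (toSheafify J N) _ _ hsub)
  refine (J.over X).superset_covering ?_ hmem
  intro V g hg
  rw [Sieve.overEquiv_symm_iff] at hg
  have hg' : N.map g.left.op (valAt N c e) = N.map g.left.op 0 := hg
  rw [map_zero] at hg'
  exact ⟨⟨(FormalCoproduct.incl _).map g ≫ e, (valAt_restr N c g e).trans hg'⟩, rfl⟩⟩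

variable [∀ (n : ℕ) (F : (SimplexCategory.Truncated n)ᵒᵖ ⥤ FormalCoproduct.{u} (Over X)),
    (SimplexCategory.Truncated.inclusion n).op.HasRightKanExtension F]

theorem exists_kill {K : SimplicialObject (FormalCoproduct.{u} (Over X))}
    (hK : Hyper.IsHypercovering J X K) (hN : IsZero ((presheafToSheaf J AddCommGrpCat.{u}).obj N))
    (p : ℕ) (ξ : Hyper.cechH X K N p) :
    ∃ (L : SimplicialObject (FormalCoproduct.{u} (Over X))) (f : L ⟶ K),
      Hyper.IsHypercovering J X L ∧ Hyper.cechHMap X f N p ξ = 0 := by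
  obtain ⟨z, rfl⟩ := (AddCommGrpCat.epi_iff_surjective _).1
    (inferInstance : Epi ((Hyper.cechCx X K N).homologyπ p)) ξ
  let c : ToType (∏ᶜ fun i : (K.obj (op ⦋p⦌)).I =>
      ((Over.forget X).op ⋙ N).obj (op ((K.obj (op ⦋p⦌)).obj i))) :=
    (Hyper.cechCx X K N).iCycles p z
  obtain ⟨L, f, hL, hf⟩ := Refine.exists_refinement hK (zeroLocusι N c)
    (isLocallySurjective_zeroLocusι N hN c)
  refine ⟨L, f, hL, ?_⟩
  have h0 : (Hyper.cechMap X f N).f p ((Hyper.cechCx X K N).iCycles p z) = 0 := by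
    refine Concrete.limit_ext _ _ _ fun ⟨i⟩ => ?_
    obtain ⟨q, hq⟩ := hf i
    have h1 : valAt N c (mkEl i (𝟙 _) ≫ f.app (op ⦋p⦌)) = 0 := hq ▸ q.2
    refine Eq.trans ?_ (map_zero _).symm
    refine Eq.trans ?_ h1
    refine (ConcreteCategory.congr_hom (Pi.lift_π (fun j => Pi.π _ ((f.app (op ⦋p⦌)).f j) ≫
      ((Over.forget X).op ⋙ N).map ((f.app (op ⦋p⦌)).φ j).op) i) c).trans ?_
    exact (congrArg (fun t : (L.obj (op ⦋p⦌)).obj i ⟶ (K.obj (op ⦋p⦌)).obj ((f.app _).f i) =>
      N.map t.left.op (Pi.π (fun j : (K.obj (op ⦋p⦌)).I =>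
        ((Over.forget X).op ⋙ N).obj (op ((K.obj (op ⦋p⦌)).obj j))) ((f.app _).f i) c))
      (Category.id_comp ((f.app (op ⦋p⦌)).φ i))).symm
  have h1 : HomologicalComplex.cyclesMap (Hyper.cechMap X f N) p z = 0 := by
    apply (AddCommGrpCat.mono_iff_injective ((Hyper.cechCx X L N).iCycles p)).1 inferInstance
    rw [map_zero, ← ConcreteCategory.comp_apply, HomologicalComplex.cyclesMap_i,
      ConcreteCategory.comp_apply]
    exact h0
  change HomologicalComplex.homologyMap (Hyper.cechMap X f N) p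
    ((Hyper.cechCx X K N).homologyπ p z) = 0
  rw [← ConcreteCategory.comp_apply, HomologicalComplex.homologyπ_naturality,
    ConcreteCategory.comp_apply, h1, map_zero]

end Groth.Agent.Lib.Hypercov.KillZero
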