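import Groth.Agent.Lib.Hypercov.Sigma
import Groth.Agent.Lib.Hypercov.Fillers
import Mathlib.AlgebraicTopology.SimplicialObject.Basic
import Mathlib.CategoryTheory.Comma.Over.Basic

/-!
# Labelled simplices

A labelled simplex of dimension `m` over a simplicial presheaf `P` is a diagram on the category of
simplices of `Δ[m]` together with compatible sections of `P`, and chosen lifts to a presheaf over
`P` in one degree.  They are the indices of a strictly functorial simplicial formal coproduct.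
-/

universe u

open CategoryTheory Limits Opposite Simplicial

namespace Groth.Agent.Lib.Hypercov.Labels

attribute [local semireducible] SimplexCategory.Hom

section El

variable {D : Type u} [SmallCategory D] {E E' : FormalCoproduct.{u} D} {V W : D}

/-- The component of an element. -/
def ix (y : Fillers.El E W) : E.I := y.f PUnit.unit

/-- The map of an element. -/
def hm (y : Fillers.El E W) : W ⟶ E.obj (ix y) := y.φ PUnit.unit

/-- The element given by a component and a map. -/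
def mkEl (i : E.I) (h : W ⟶ E.obj i) : Fillers.El E W := FormalCoproduct.Hom.fromIncl i h

lemma hm_restr (g : V ⟶ W) (y : Fillers.El E W) :
    hm ((FormalCoproduct.incl D).map g ≫ y) = g ≫ hm y := rfl

lemma hm_comp (y : Fillers.El E W) (f : E ⟶ E') : hm (y ≫ f) = hm y ≫ f.φ (ix y) := rfl

lemma el_ext {y y' : Fillers.El E W} (h : ix y = ix y')
    (h' : hm y ≫ eqToHom (congrArg E.obj h) = hm y') : y = y' :=
  FormalCoproduct.hom_ext (funext fun _ => h) (fun _ => h')

end El

variable {D : Type u} [SmallCategory D] (P : SimplexCategoryᵒᵖ ⥤ (Dᵒᵖ ⥤ Type u))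
  {n₀ : ℕ} {Q : Dᵒᵖ ⥤ Type u} (π : Q ⟶ P.obj (op ⦋n₀⦌))

/-- A labelled simplex. -/
structure Lab (m : SimplexCategory) : Type u where
  /-- The diagram. -/
  F : (Over m)ᵒᵖ ⥤ D
  /-- The sections. -/
  aug : ∀ a : Over m, (P.obj (op a.left)).obj (op (F.obj (op a)))
  aug_nat : ∀ {a b : Over m} (f : a ⟶ b), (P.obj (op a.left)).map (F.map f.op).op (aug a) =
    (P.map f.left.op).app (op (F.obj (op b))) (aug b)
  /-- The lifts. -/
  lift : ∀ α : (⦋n₀⦌ : SimplexCategory) ⟶ m, Q.obj (op (F.obj (op (Over.mk α))))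
  lift_spec : ∀ α, π.app _ (lift α) = aug (Over.mk α)

variable {P π}

/-- The value at the top simplex. -/
abbrev Lab.top {m : SimplexCategory} (ℓ : Lab P π m) : D := ℓ.F.obj (op (Over.mk (𝟙 m)))

/-- Pullback along a map of simplices. -/
def comap {m m' : SimplexCategory} (θ : m' ⟶ m) (ℓ : Lab P π m) : Lab P π m' where
  F := (Over.map θ).op ⋙ ℓ.F
  aug a := ℓ.aug ((Over.map θ).obj a)
  aug_nat f := ℓ.aug_nat ((Over.map θ).map f)
  lift α := ℓ.lift (α ≫ θ)
  lift_spec α := ℓ.lift_spec (α ≫ θ)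

lemma comap_id {m : SimplexCategory} (ℓ : Lab P π m) : comap (𝟙 m) ℓ = ℓ := rfl

lemma comap_comp {m m' m'' : SimplexCategory} (θ : m' ⟶ m) (φ : m'' ⟶ m') (ℓ : Lab P π m) :
    comap (φ ≫ θ) ℓ = comap φ (comap θ ℓ) := rfl

lemma top_comap {m : SimplexCategory} (ℓ : Lab P π m) (a : Over m) :
    (comap a.hom ℓ).top = ℓ.F.obj (op a) := rfl

/-- The map from the top. -/
def fromTop {m : SimplexCategory} (a : Over m) : a ⟶ Over.mk (𝟙 m) :=
  Over.homMk a.hom (Category.comp_id _)

/-- A family of labels stable under pullback. -/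
def Stable (A : ∀ m : SimplexCategory, Lab P π m → Prop) : Prop :=
  ∀ ⦃m m' : SimplexCategory⦄ (θ : m' ⟶ m) (ℓ : Lab P π m), A m ℓ → A m' (comap θ ℓ)

variable {A : ∀ m : SimplexCategory, Lab P π m → Prop} (hA : Stable A)

/-- The simplicial formal coproduct of the admissible labels. -/
def simp : SimplicialObject (FormalCoproduct.{u} D) where
  obj m := FormalCoproduct.mk {ℓ : Lab P π m.unop // A m.unop ℓ} fun ℓ => ℓ.1.top
  map {m m'} φ := ⟨fun ℓ => ⟨comap φ.unop ℓ.1, hA φ.unop ℓ.1 ℓ.2⟩,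
    fun ℓ => ℓ.1.F.map (Over.homMk φ.unop (Category.comp_id _) :
      Over.mk φ.unop ⟶ Over.mk (𝟙 m.unop)).op⟩
  map_id m := FormalCoproduct.hom_ext rfl fun ℓ =>
    (Category.comp_id _).trans (ℓ.1.F.map_id _)
  map_comp {m m' m''} φ ψ := FormalCoproduct.hom_ext rfl fun ℓ => by
    refine (Category.comp_id _).trans ?_
    refine Eq.trans ?_ (ℓ.1.F.map_comp _ _)
    rfl

variable {hA}

lemma simp_map_f {m m' : SimplexCategoryᵒᵖ} (φ : m ⟶ m') (ℓ : ((simp hA).obj m).I) :
    (((simp hA).map φ).f ℓ).1 = comap φ.unop ℓ.1 := rfl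

variable (hA)

/-- The section at the top, as an element. -/
def topAug {m : SimplexCategoryᵒᵖ} (ℓ : ((simp hA).obj m).I) :
    (P.obj m).obj (op (((simp hA).obj m).obj ℓ)) :=
  ℓ.1.aug (Over.mk (𝟙 m.unop))

lemma topAug_map {m m' : SimplexCategoryᵒᵖ} (φ : m ⟶ m') (ℓ : ((simp hA).obj m).I) :
    (P.obj m').map (((simp hA).map φ).φ ℓ).op (topAug hA (((simp hA).map φ).f ℓ)) =
      (P.map φ).app _ (topAug hA ℓ) :=
  ℓ.1.aug_nat (Over.homMk φ.unop (Category.comp_id _) : Over.mk φ.unop ⟶ Over.mk (𝟙 m.unop))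

/-- The section of an element. -/
def elAug {m : SimplexCategoryᵒᵖ} {W : D} (y : Fillers.El ((simp hA).obj m) W) :
    (P.obj m).obj (op W) :=
  (P.obj m).map (hm y).op (topAug hA (ix y))

lemma elAug_restr {m : SimplexCategoryᵒᵖ} {V W : D} (g : V ⟶ W)
    (y : Fillers.El ((simp hA).obj m) W) :
    elAug hA ((FormalCoproduct.incl D).map g ≫ y) = (P.obj m).map g.op (elAug hA y) := by
  change (P.obj m).map (g ≫ hm y).op (topAug hA (ix y)) = _
  rw [op_comp, Functor.map_comp, ConcreteCategory.comp_apply]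
  rfl

lemma elAug_map {m m' : SimplexCategoryᵒᵖ} {W : D} (φ : m ⟶ m')
    (y : Fillers.El ((simp hA).obj m) W) :
    elAug hA (y ≫ (simp hA).map φ) = (P.map φ).app (op W) (elAug hA y) := by
  change (P.obj m').map (hm y ≫ ((simp hA).map φ).φ (ix y)).op
    (topAug hA (((simp hA).map φ).f (ix y))) = _
  rw [op_comp, Functor.map_comp, ConcreteCategory.comp_apply, topAug_map hA φ]
  exact (NatTrans.naturality_apply (P.map φ) (hm y).op _).symm

/-- Equality of labels. -/
lemma ext {m : SimplexCategory} {ℓ ℓ' : Lab P π m} (hF : ℓ.F = ℓ'.F)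
    (haug : ∀ a, (P.obj (op a.left)).map (eqToHom (Functor.congr_obj hF (op a))).op (ℓ'.aug a) =
      ℓ.aug a)
    (hlift : ∀ α, Q.map (eqToHom (Functor.congr_obj hF (op (Over.mk α)))).op (ℓ'.lift α) =
      ℓ.lift α) : ℓ = ℓ' := by
  obtain ⟨F, aug, _, lift, _⟩ := ℓ
  obtain ⟨F', aug', _, lift', _⟩ := ℓ'
  obtain rfl : F = F' := hF
  obtain rfl : aug = aug' := funext fun a => by simpa using (haug a).symm
  obtain rfl : lift = lift' := funext fun a => by simpa using (hlift a).symm
  rfl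

end Groth.Agent.Lib.Hypercov.Labels
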