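import Groth.Agent.Lib.Hypercov.Fillable
import Mathlib.AlgebraicTopology.SimplicialSet.Skeleton
import Mathlib.AlgebraicTopology.SimplicialSet.Finite

/-!
# Local extension of simplicial maps along finite monomorphisms

If a simplicial formal coproduct has local fillers, then maps into its simplicial sets of elements
extend locally along monomorphisms into finite simplicial sets.
-/

universe u

open CategoryTheory Limits Opposite Simplicial SimplexCategory

namespace Groth.Agent.Lib.Hypercov.LocExtend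

open Hypercov.Fillers SSet.relativeCellComplexOfMono

variable {D : Type u} [SmallCategory D] (L : SimplicialObject (FormalCoproduct.{u} D))

/-- The simplicial set of elements over an object. -/
abbrev sec (W : D) : SSet.{u} where
  obj m := El (L.obj m) W
  map φ := ↾fun x => x ≫ L.map φ
  map_id m := ConcreteCategory.hom_ext _ _ fun x => by
    change x ≫ L.map (𝟙 m) = x
    rw [L.map_id]
    exact Category.comp_id x
  map_comp φ ψ := ConcreteCategory.hom_ext _ _ fun x => by
    change x ≫ L.map (φ ≫ ψ) = (x ≫ L.map φ) ≫ L.map ψ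
    rw [L.map_comp]
    exact (Category.assoc _ _ _).symm

/-- Restriction. -/
def res {V W : D} (g : V ⟶ W) : sec L W ⟶ sec L V where
  app m := ↾fun x => (FormalCoproduct.incl D).map g ≫ x
  naturality m m' φ := ConcreteCategory.hom_ext _ _ fun x =>
    (Category.assoc ((FormalCoproduct.incl D).map g) (x : El (L.obj m) W) (L.map φ)).symm

lemma res_comp {U V W : D} (h : U ⟶ V) (g : V ⟶ W) : res L (h ≫ g) = res L g ≫ res L h := by
  refine NatTrans.ext (funext fun m => ConcreteCategory.hom_ext _ _ fun x => ?_)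
  change (FormalCoproduct.incl D).map (h ≫ g) ≫ x =
    (FormalCoproduct.incl D).map h ≫ (FormalCoproduct.incl D).map g ≫ x
  rw [Functor.map_comp, Category.assoc]

lemma res_id (W : D) : res L (𝟙 W) = 𝟙 _ := by
  refine NatTrans.ext (funext fun m => ConcreteCategory.hom_ext _ _ fun x => ?_)
  change (FormalCoproduct.incl D).map (𝟙 W) ≫ x = x
  rw [CategoryTheory.Functor.map_id]
  exact Category.id_comp x

variable {L} (J : GrothendieckTopology D)

/-- Locally extendable maps. -/
def extSieve {X Y : SSet.{u}} (i : X ⟶ Y) {W : D} (f : X ⟶ sec L W) : Sieve W where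
  arrows V g := ∃ F : Y ⟶ sec L V, i ≫ F = f ≫ res L g
  downward_closed := by
    rintro V V' g ⟨F, hF⟩ h
    exact ⟨F ≫ res L h, by rw [← Category.assoc, hF, Category.assoc, res_comp]⟩

/-- Extension along the boundary of a simplex. -/
theorem extSieve_boundary (hL : Exist.LocFill J (Fillable.elP L)) (d : ℕ) {W : D}
    (f : (∂Δ[d] : SSet.{u}) ⟶ sec L W) : extSieve (∂Δ[d]).ι f ∈ J W := by
  cases d with
  | zero =>
    obtain ⟨S, hS, hS'⟩ := hL.zero W
    refine J.superset_covering ?_ hS
    intro V g hg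
    obtain ⟨x⟩ := hS' g hg
    refine ⟨SSet.yonedaEquiv.symm x, NatTrans.ext (funext fun m => ConcreteCategory.hom_ext _ _
      fun z => absurd (fun k => ⟨0, Subsingleton.elim (α := Fin 1) _ k⟩) z.2)⟩
  | succ n =>
    let b : ∀ i : Fin (n + 2), (∂Δ[n + 1] : SSet.{u}).obj (op ⦋n⦌) := fun i =>
      ⟨SSet.stdSimplex.objEquiv.symm (δ i), fun h => by
        obtain ⟨k, hk⟩ := h i
        exact Fin.succAbove_ne i k hk⟩
    have hb : ∀ {m : SimplexCategory} (θ : m ⟶ ⦋n + 1⦌) (i : Fin (n + 2))
        (hi : ∀ k, θ.toOrderHom k ≠ i) (hm : SSet.stdSimplex.objEquiv.{u}.symm θ ∈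
          (∂Δ[n + 1] : (Δ[n + 1] : SSet.{u}).Subcomplex).obj (op m)),
        (∂Δ[n + 1] : SSet.{u}).map (factor_δ (m := m.len) θ i).op (b i) =
          ⟨SSet.stdSimplex.objEquiv.symm θ, hm⟩ := by
      intro m θ i hi hm
      apply Subtype.ext
      change (Δ[n + 1] : SSet.{u}).map (factor_δ (m := m.len) θ i).op
        (SSet.stdSimplex.objEquiv.symm (δ i)) = _
      refine ((SSet.stdSimplex.objEquiv_symm_comp (factor_δ (m := m.len) θ i) (δ i)).symm).trans ?_
      rw [factor_δ_spec (m := m.len) θ i hi]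
    let y : Fin (n + 2) → El (L.obj (op ⦋n⦌)) W := fun i => f.app (op ⦋n⦌) (b i)
    obtain ⟨S, hS, hS'⟩ := hL.fill n W y fun m θ i j hi hj => by
      have hm : SSet.stdSimplex.objEquiv.{u}.symm θ ∈
          (∂Δ[n + 1] : (Δ[n + 1] : SSet.{u}).Subcomplex).obj (op m) := fun h => by
        obtain ⟨k, hk⟩ := h i
        exact hi k hk
      change (sec L W).map (factor_δ (m := m.len) θ i).op (y i) =
        (sec L W).map (factor_δ (m := m.len) θ j).op (y j)
      rw [← NatTrans.naturality_apply, ← NatTrans.naturality_apply, hb θ i hi hm, hb θ j hj hm]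
    refine J.superset_covering ?_ hS
    intro V g hg
    obtain ⟨p, hp⟩ := hS' g hg
    have hp' : ∀ i, (sec L V).map (δ i).op p = (res L g).app (op ⦋n⦌) (f.app (op ⦋n⦌) (b i)) := hp
    refine ⟨SSet.yonedaEquiv.symm (p : (sec L V).obj (op ⦋n + 1⦌)), NatTrans.ext (funext fun m => ConcreteCategory.hom_ext _ _
      fun z => ?_)⟩
    obtain ⟨z, hz⟩ := z
    obtain ⟨θ, rfl⟩ := SSet.stdSimplex.objEquiv.symm.surjective z
    obtain ⟨i, hi⟩ := not_forall.1 hz
    have hi' : ∀ k, θ.toOrderHom k ≠ i := fun k hk => hi ⟨k, hk⟩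
    change (SSet.yonedaEquiv.symm (p : (sec L V).obj (op ⦋n + 1⦌))).app m (SSet.stdSimplex.objEquiv.symm θ) =
      (res L g).app m (f.app m ⟨_, hz⟩)
    rw [SSet.yonedaEquiv_symm_app_objEquiv_symm, ← hb θ i hi' hz, NatTrans.naturality_apply,
      NatTrans.naturality_apply]
    conv_lhs => rw [← factor_δ_spec (m := m.unop.len) θ i hi', op_comp, Functor.map_comp]
    exact congrArg ((sec L V).map (factor_δ (m := m.unop.len) θ i).op) (hp' i)

/-- One skeletal step. -/
lemma extSieve_step (hL : Exist.LocFill J (Fillable.elP L)) {X Y : SSet.{u}} (i : X ⟶ Y)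
    [Y.Finite] (d : ℕ) {W : D} (f : (SSet.skeletonOfMono i d : SSet.{u}) ⟶ sec L W) :
    extSieve (r i d) f ∈ J W := by
  classical
  have : Finite (Cell i d) := Finite.of_injective Cell.simplex fun a b h => Cell.ext h
  have : Fintype (Cell i d) := Fintype.ofFinite _
  let T : Cell i d → Sieve W := fun c => extSieve (∂Δ[d]).ι (c.ιSigmaBoundary ≫ t i d ≫ f)
  refine J.superset_covering (S := Finset.univ.inf T) ?_
    (Finset.inf_induction (p := fun S => S ∈ J W) (J.top_mem W)
      (fun S hS S' hS' => J.intersection_covering hS hS')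
      fun c _ => extSieve_boundary J hL d _)
  intro V g hg
  have hF : ∀ c : Cell i d, ∃ F : (Δ[d] : SSet.{u}) ⟶ sec L V,
      (∂Δ[d]).ι ≫ F = (c.ιSigmaBoundary ≫ t i d ≫ f) ≫ res L g := fun c => by
    have hle : Finset.univ.inf T ≤ T c := Finset.inf_le (Finset.mem_univ c)
    exact hle _ hg
  choose F hF using hF
  refine ⟨(isPushout i d).desc (f ≫ res L g) (Limits.Sigma.desc F) ?_,
    (isPushout i d).inl_desc _ _ _⟩
  refine Limits.Sigma.hom_ext _ _ fun c => ?_
  rw [← Category.assoc (Limits.Sigma.ι _ c) (l i d)]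
  rw [show Limits.Sigma.ι (fun _ : Cell i d => (∂Δ[d] : SSet.{u})) c ≫ l i d =
    (∂Δ[d]).ι ≫ c.ιSigmaStdSimplex from c.ι_l, Category.assoc, Limits.Sigma.ι_desc, hF c]
  simp only [Category.assoc]

/-- Extension along a monomorphism into a finite simplicial set. -/
theorem extSieve_mono (hL : Exist.LocFill J (Fillable.elP L)) {X Y : SSet.{u}} (i : X ⟶ Y)
    [Mono i] [Y.Finite] {W : D} (f : X ⟶ sec L W) : extSieve i f ∈ J W := by
  let j : ∀ d, X ⟶ SSet.skeletonOfMono i d := fun d =>
    SSet.Subcomplex.toRange i ≫ SSet.Subcomplex.homOfLE (le_sup_left : SSet.Subcomplex.range i ≤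
      SSet.Subcomplex.range i ⊔ Y.skeleton d)
  have key : ∀ d, extSieve (j d) f ∈ J W := by
    intro d
    induction d with
    | zero =>
      have hle : SSet.skeletonOfMono i 0 ≤ SSet.Subcomplex.range i :=
        le_of_eq (SSet.skeletonOfMono_zero i)
      refine J.superset_covering ?_ (J.top_mem W)
      intro V g _
      refine ⟨SSet.Subcomplex.homOfLE hle ≫ inv (SSet.Subcomplex.toRange i) ≫ f ≫ res L g, ?_⟩
      simp only [j, Category.assoc]
      refine Eq.trans ?_ (IsIso.hom_inv_id_assoc (SSet.Subcomplex.toRange i) (f ≫ res L g))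
      rfl
    | succ d ih =>
      refine J.transitive ih _ fun V g hg => ?_
      obtain ⟨F, hF⟩ := hg
      refine J.superset_covering ?_ (extSieve_step J hL i d F)
      rintro V' h ⟨F', hF'⟩
      refine ⟨F', ?_⟩
      rw [show j (d + 1) = j d ≫ r i d from rfl, Category.assoc, hF', ← Category.assoc, hF,
        Category.assoc, res_comp]
  obtain ⟨d, hd⟩ := Y.hasDimensionLT_of_finite
  have htop : (⊤ : Y.Subcomplex) ≤ SSet.skeletonOfMono i d := by
    rw [SSet.Subcomplex.le_iff_contains_nonDegenerate]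
    rintro n ⟨x, hx⟩ _
    have hn : n < d := by
      by_contra h
      simp [Y.nonDegenerate_eq_empty_of_hasDimensionLT d n (by omega)] at hx
    exact SSet.skeleton_le_skeletonOfMono i d _ (Y.mem_skeleton x hn)
  refine J.superset_covering ?_ (key d)
  rintro V g ⟨F, hF⟩
  refine ⟨(SSet.Subcomplex.topIso Y).inv ≫ SSet.Subcomplex.homOfLE htop ≫ F, ?_⟩
  rw [← hF]
  rfl

end Groth.Agent.Lib.Hypercov.LocExtend
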