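import Groth.Agent.Lib.Hypercov.LocExtend
import Mathlib.AlgebraicTopology.SimplicialSet.FiniteProd
import Mathlib.AlgebraicTopology.SimplicialSet.Monoidal

/-!
# The simplicial presheaf of homotopies

For maps `a b : K ⟶ L` an element in degree `m` is an element of `K` with a map `Δ[m] ⊗ Δ[1] ⟶ L`
restricting to its images at the ends. It has local fillers when `K` and `L` have.
-/

universe u

open CategoryTheory Limits Opposite Simplicial SimplexCategory MonoidalCategory

namespace Groth.Agent.Lib.Hypercov.PathFill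

attribute [local semireducible] SimplexCategory.Hom

open Hypercov.Fillers LocExtend

variable {D : Type u} [SmallCategory D] {K L : SimplicialObject (FormalCoproduct.{u} D)}
  (a b : K ⟶ L)

/-- The simplex of an element. -/
abbrev simplexOf (L : SimplicialObject (FormalCoproduct.{u} D)) {W : D} {m : SimplexCategory}
    (x : El (L.obj (op m)) W) : (Δ[m.len] : SSet.{u}) ⟶ sec L W :=
  SSet.yonedaEquiv.symm (x : (sec L W).obj (op ⦋m.len⦌))

lemma simplexOf_app {W : D} {m : SimplexCategory} (x : El (L.obj (op m)) W) {l : SimplexCategory}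
    (θ : l ⟶ m) :
    (simplexOf L x).app (op l) (SSet.stdSimplex.objEquiv.symm θ) = x ≫ L.map θ.op :=
  SSet.yonedaEquiv_symm_app_objEquiv_symm (n := m) (m := op l) _ θ

/-- An element with a homotopy between its images. -/
structure PathEl (m : SimplexCategory) (W : D) : Type u where
  /-- The element. -/
  k : El (K.obj (op m)) W
  /-- The homotopy. -/
  H : (Δ[m.len] : SSet.{u}) ⊗ Δ[1] ⟶ sec L W
  h₀ : SSet.ι₀ ≫ H = simplexOf L (k ≫ a.app (op m))
  h₁ : SSet.ι₁ ≫ H = simplexOf L (k ≫ b.app (op m))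

variable {a b}

@[ext]
lemma PathEl.ext' {m : SimplexCategory} {W : D} {p q : PathEl a b m W} (hk : p.k = q.k)
    (hH : p.H = q.H) : p = q := by
  obtain ⟨⟩ := p; obtain ⟨⟩ := q; cases hk; cases hH; rfl

lemma simplexOf_comp {W : D} {m m' : SimplexCategory} (θ : m' ⟶ m) (x : El (K.obj (op m)) W)
    (c : K ⟶ L) :
    SSet.stdSimplex.map θ ≫ simplexOf L (x ≫ c.app (op m)) =
      simplexOf L ((x ≫ K.map θ.op) ≫ c.app (op m')) := by
  refine NatTrans.ext (funext fun l => ConcreteCategory.hom_ext _ _ fun z => ?_)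
  obtain ⟨ψ, rfl⟩ := SSet.stdSimplex.objEquiv.symm.surjective z
  change (simplexOf L (x ≫ c.app (op m))).app (op l.unop) (SSet.stdSimplex.objEquiv.symm (ψ ≫ θ)) =
    (simplexOf L ((x ≫ K.map θ.op) ≫ c.app (op m'))).app (op l.unop)
      (SSet.stdSimplex.objEquiv.symm ψ)
  rw [simplexOf_app, simplexOf_app, op_comp, Functor.map_comp]
  simp only [Category.assoc]
  refine congrArg (x ≫ ·) ?_
  rw [← Category.assoc, ← Category.assoc]
  exact congrArg (· ≫ L.map ψ.op) (c.naturality θ.op).symm

lemma simplexOf_res {V W : D} {m : SimplexCategory} (g : V ⟶ W) (x : El (L.obj (op m)) W) :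
    simplexOf L x ≫ res L g = simplexOf L ((FormalCoproduct.incl D).map g ≫ x) := by
  refine NatTrans.ext (funext fun l => ConcreteCategory.hom_ext _ _ fun z => ?_)
  obtain ⟨ψ, rfl⟩ := SSet.stdSimplex.objEquiv.symm.surjective z
  change (FormalCoproduct.incl D).map g ≫
      (simplexOf L x).app (op l.unop) (SSet.stdSimplex.objEquiv.symm ψ) =
    (simplexOf L ((FormalCoproduct.incl D).map g ≫ x)).app (op l.unop)
      (SSet.stdSimplex.objEquiv.symm ψ)
  rw [simplexOf_app, simplexOf_app, Category.assoc]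

/-- Change of dimension. -/
noncomputable def pull {m m' : SimplexCategory} (θ : m' ⟶ m) {W : D} (p : PathEl a b m W) :
    PathEl a b m' W where
  k := p.k ≫ K.map θ.op
  H := SSet.stdSimplex.map θ ▷ Δ[1] ≫ p.H
  h₀ := by
    rw [← Category.assoc, SSet.ι₀_comp, Category.assoc, p.h₀]
    exact simplexOf_comp θ p.k a
  h₁ := by
    rw [← Category.assoc, SSet.ι₁_comp, Category.assoc, p.h₁]
    exact simplexOf_comp θ p.k b

/-- Restriction. -/
noncomputable def restr {m : SimplexCategory} {V W : D} (g : V ⟶ W) (p : PathEl a b m W) :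
    PathEl a b m V where
  k := (FormalCoproduct.incl D).map g ≫ p.k
  H := p.H ≫ res L g
  h₀ := by rw [← Category.assoc, p.h₀, simplexOf_res, Category.assoc]
  h₁ := by rw [← Category.assoc, p.h₁, simplexOf_res, Category.assoc]

variable (a b)

/-- The simplicial presheaf. -/
noncomputable def pathP : SimplexCategoryᵒᵖ ⥤ (Dᵒᵖ ⥤ Type u) where
  obj m :=
    { obj := fun W => PathEl a b m.unop W.unop
      map := fun g => ↾fun p => restr g.unop p
      map_id := fun W => ConcreteCategory.hom_ext _ _ fun p => PathEl.ext' (D := D)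
        (by
          change (FormalCoproduct.incl D).map (𝟙 _) ≫ p.k = p.k
          rw [CategoryTheory.Functor.map_id]
          exact Category.id_comp _)
        (by
          change p.H ≫ res L (𝟙 _) = p.H
          rw [res_id]
          exact Category.comp_id _)
      map_comp := fun g h => ConcreteCategory.hom_ext _ _ fun p => PathEl.ext' (D := D)
        (by
          change (FormalCoproduct.incl D).map (h.unop ≫ g.unop) ≫ p.k = _
          rw [Functor.map_comp, Category.assoc]
          rfl)
        (by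
          change p.H ≫ res L (h.unop ≫ g.unop) = _
          rw [res_comp, ← Category.assoc]
          rfl) }
  map φ :=
    { app := fun W => ↾fun p => pull φ.unop p
      naturality := fun W W' g => ConcreteCategory.hom_ext _ _ fun p =>
        PathEl.ext' (D := D) (Category.assoc _ _ _) (Category.assoc _ _ _).symm }
  map_id m := by
    refine NatTrans.ext (funext fun W => ConcreteCategory.hom_ext _ _ fun p => PathEl.ext' (D := D) ?_ ?_)
    · change p.k ≫ K.map (𝟙 m) = p.k
      rw [K.map_id]
      exact Category.comp_id _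
    · change SSet.stdSimplex.map (𝟙 m.unop) ▷ Δ[1] ≫ p.H = p.H
      rw [CategoryTheory.Functor.map_id]
      exact (congrArg (· ≫ p.H) (id_whiskerRight _ _)).trans (Category.id_comp _)
  map_comp φ ψ := by
    refine NatTrans.ext (funext fun W => ConcreteCategory.hom_ext _ _ fun p => PathEl.ext' (D := D) ?_ ?_)
    · change p.k ≫ K.map (φ ≫ ψ) = (p.k ≫ K.map φ) ≫ K.map ψ
      rw [K.map_comp, Category.assoc]
    · change SSet.stdSimplex.map (ψ.unop ≫ φ.unop) ▷ Δ[1] ≫ p.H =
        SSet.stdSimplex.map ψ.unop ▷ Δ[1] ≫ SSet.stdSimplex.map φ.unop ▷ Δ[1] ≫ p.H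
      rw [Functor.map_comp, ← Category.assoc]
      exact congrArg (· ≫ p.H) (comp_whiskerRight _ _ _)

/-- The projection to `K`. -/
noncomputable def toK : pathP a b ⟶ Fillable.elP K where
  app m := { app := fun W => ↾fun p => p.k }

variable {a b}

lemma h₀_app {m : SimplexCategory} {W : D} (p : PathEl a b m W) {l : SimplexCategory} (α : l ⟶ m) :
    p.H.app (op l) ((SSet.ι₀ (X := (Δ[m.len] : SSet.{u}))).app (op l)
      (SSet.stdSimplex.objEquiv.symm α)) = (p.k ≫ a.app (op m)) ≫ L.map α.op := by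
  rw [← simplexOf_app]
  exact congrArg (fun (φ : (Δ[m.len] : SSet.{u}) ⟶ sec L W) =>
    φ.app (op l) (SSet.stdSimplex.objEquiv.symm α)) p.h₀

lemma h₁_app {m : SimplexCategory} {W : D} (p : PathEl a b m W) {l : SimplexCategory} (α : l ⟶ m) :
    p.H.app (op l) ((SSet.ι₁ (X := (Δ[m.len] : SSet.{u}))).app (op l)
      (SSet.stdSimplex.objEquiv.symm α)) = (p.k ≫ b.app (op m)) ≫ L.map α.op := by
  rw [← simplexOf_app]
  exact congrArg (fun (φ : (Δ[m.len] : SSet.{u}) ⟶ sec L W) =>
    φ.app (op l) (SSet.stdSimplex.objEquiv.symm α)) p.h₁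

section Extend

variable (J : GrothendieckTopology D) (m : SimplexCategory)

/-- The ends and the boundary. -/
def bound : ((Δ[m.len] : SSet.{u}) ⊗ Δ[1]).Subcomplex where
  obj l := {x | ¬ Function.Surjective (SSet.stdSimplex.objEquiv x.1).toOrderHom ∨
    (∀ k, (SSet.stdSimplex.objEquiv x.2).toOrderHom k = 0) ∨
      ∀ k, (SSet.stdSimplex.objEquiv x.2).toOrderHom k = 1}
  map {l l'} θ x hx := by
    rcases hx with h | h | h
    · exact Or.inl fun hs => h (Function.Surjective.of_comp hs)
    · exact Or.inr (Or.inl fun k => h _)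
    · exact Or.inr (Or.inr fun k => h _)

lemma eq_ι₀ {l : SimplexCategoryᵒᵖ} (x : ((Δ[m.len] : SSet.{u}) ⊗ Δ[1]).obj l)
    (h : ∀ k, (SSet.stdSimplex.objEquiv x.2).toOrderHom k = 0) :
    x = (SSet.ι₀ (X := (Δ[m.len] : SSet.{u}))).app l x.1 :=
  Prod.ext rfl (SSet.stdSimplex.objEquiv.injective (SimplexCategory.Hom.ext _ _
    (OrderHom.ext _ _ (funext fun k => h k))))

lemma eq_ι₁ {l : SimplexCategoryᵒᵖ} (x : ((Δ[m.len] : SSet.{u}) ⊗ Δ[1]).obj l)
    (h : ∀ k, (SSet.stdSimplex.objEquiv x.2).toOrderHom k = 1) :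
    x = (SSet.ι₁ (X := (Δ[m.len] : SSet.{u}))).app l x.1 :=
  Prod.ext rfl (SSet.stdSimplex.objEquiv.injective (SimplexCategory.Hom.ext _ _
    (OrderHom.ext _ _ (funext fun k => h k))))

/-- Existence of a path with prescribed element and boundary. -/
theorem exists_path (hL : Exist.LocFill J (Fillable.elP L)) {W : D} (k : El (K.obj (op m)) W)
    (bd : ∀ l (x : ((Δ[m.len] : SSet.{u}) ⊗ Δ[1]).obj l),
      ¬ Function.Surjective (SSet.stdSimplex.objEquiv x.1).toOrderHom → (sec L W).obj l)
    (bd_nat : ∀ l l' (θ : l ⟶ l') x hx hx',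
      (sec L W).map θ (bd l x hx) = bd l' (((Δ[m.len] : SSet.{u}) ⊗ Δ[1]).map θ x) hx')
    (bd_a : ∀ l (x : (Δ[m.len] : SSet.{u}).obj l) hx,
      bd l (SSet.ι₀.app l x) hx = (simplexOf L (k ≫ a.app (op m))).app l x)
    (bd_b : ∀ l (x : (Δ[m.len] : SSet.{u}).obj l) hx,
      bd l (SSet.ι₁.app l x) hx = (simplexOf L (k ≫ b.app (op m))).app l x) :
    ∃ S ∈ J W, ∀ ⦃V : D⦄ (g : V ⟶ W), S.arrows g → ∃ p : PathEl a b m V,
      p.k = (FormalCoproduct.incl D).map g ≫ k ∧
      ∀ l x hx, p.H.app l x = (res L g).app l (bd l x hx) := by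
  classical
  let val : ∀ l (x : ((Δ[m.len] : SSet.{u}) ⊗ Δ[1]).obj l), (sec L W).obj l := fun l x =>
    if h : ¬ Function.Surjective (SSet.stdSimplex.objEquiv x.1).toOrderHom then bd l x h
    else if ∀ k, (SSet.stdSimplex.objEquiv x.2).toOrderHom k = 0 then
      (simplexOf L (k ≫ a.app (op m))).app l x.1
    else (simplexOf L (k ≫ b.app (op m))).app l x.1
  have val0 : ∀ l x, (∀ j, (SSet.stdSimplex.objEquiv x.2).toOrderHom j = 0) →
      val l x = (simplexOf L (k ≫ a.app (op m))).app l x.1 := fun l x h0 => by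
    by_cases h : ¬ Function.Surjective (SSet.stdSimplex.objEquiv x.1).toOrderHom
    · refine (dif_pos h).trans ?_
      obtain ⟨x₁, rfl⟩ : ∃ x₁, x = SSet.ι₀.app l x₁ := ⟨x.1, eq_ι₀ m x h0⟩
      exact bd_a l x₁ h
    · exact (dif_neg h).trans (if_pos h0)
  have val1 : ∀ l x, (∀ j, (SSet.stdSimplex.objEquiv x.2).toOrderHom j = 1) →
      val l x = (simplexOf L (k ≫ b.app (op m))).app l x.1 := fun l x h1 => by
    by_cases h : ¬ Function.Surjective (SSet.stdSimplex.objEquiv x.1).toOrderHom
    · refine (dif_pos h).trans ?_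
      obtain ⟨x₁, rfl⟩ : ∃ x₁, x = SSet.ι₁.app l x₁ := ⟨x.1, eq_ι₁ m x h1⟩
      exact bd_b l x₁ h
    · exact (dif_neg h).trans (if_neg fun h' => absurd ((h' 0).symm.trans (h1 0)) (by decide))
  let f : (bound.{u} m : SSet.{u}) ⟶ sec L W :=
    { app := fun l => ↾fun x => val l x.1
      naturality := fun l l' θ => ConcreteCategory.hom_ext _ _ fun x => by
        change val l' (((Δ[m.len] : SSet.{u}) ⊗ Δ[1]).map θ x.1) = (sec L W).map θ (val l x.1)
        rcases x.2 with h | h | h
        · have h' : ¬ Function.Surjective (SSet.stdSimplex.objEquiv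
              (((Δ[m.len] : SSet.{u}) ⊗ Δ[1]).map θ x.1).1).toOrderHom := fun hs =>
            h (Function.Surjective.of_comp hs)
          rw [show val l x.1 = bd l x.1 h from dif_pos h,
            show val l' _ = bd l' _ h' from dif_pos h']
          exact (bd_nat l l' θ x.1 h h').symm
        · rw [val0 l x.1 h, val0 l' _ fun j => h _]
          exact NatTrans.naturality_apply (simplexOf L (k ≫ a.app (op m))) θ x.1.1
        · rw [val1 l x.1 h, val1 l' _ fun j => h _]
          exact NatTrans.naturality_apply (simplexOf L (k ≫ b.app (op m))) θ x.1.1 }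
  refine ⟨_, extSieve_mono J hL (bound.{u} m).ι f, fun V g hg => ?_⟩
  obtain ⟨F, hF⟩ := hg
  have hFx : ∀ l (x : (bound.{u} m : SSet.{u}).obj l), F.app l x.1 = (res L g).app l (val l x.1) :=
    fun l x => ConcreteCategory.congr_hom (NatTrans.congr_app hF l) x
  refine ⟨⟨(FormalCoproduct.incl D).map g ≫ k, F, ?_, ?_⟩, rfl, fun l x hx => ?_⟩
  · rw [Category.assoc, ← simplexOf_res]
    refine NatTrans.ext (funext fun l => ConcreteCategory.hom_ext _ _ fun z => ?_)
    refine (hFx l ⟨SSet.ι₀.app l z, Or.inr (Or.inl fun _ => rfl)⟩).trans ?_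
    exact congrArg ((res L g).app l) (val0 l _ fun _ => rfl)
  · rw [Category.assoc, ← simplexOf_res]
    refine NatTrans.ext (funext fun l => ConcreteCategory.hom_ext _ _ fun z => ?_)
    refine (hFx l ⟨SSet.ι₁.app l z, Or.inr (Or.inr fun _ => rfl)⟩).trans ?_
    exact congrArg ((res L g).app l) (val1 l _ fun _ => rfl)
  · exact (hFx l ⟨x, Or.inl hx⟩).trans (congrArg ((res L g).app l) (dif_pos hx))

end Extend

/-- The homotopy presheaf has local fillers. -/
theorem locFill (J : GrothendieckTopology D) (hK : Exist.LocFill J (Fillable.elP K))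
    (hL : Exist.LocFill J (Fillable.elP L)) : Exist.LocFill J (pathP a b) where
  zero W := by
    let T : Sieve W :=
      { arrows := fun V _ => Nonempty (PathEl a b ⦋0⦌ V)
        downward_closed := by rintro V V' g ⟨x⟩ h; exact ⟨restr h x⟩ }
    refine ⟨T, ?_, fun V g hg => hg⟩
    obtain ⟨S₁, hS₁, h₁⟩ := hK.zero W
    refine J.transitive hS₁ T fun V g hg => ?_
    obtain ⟨k⟩ := h₁ g hg
    have hs : ∀ (l : SimplexCategoryᵒᵖ) (x : (Δ[0] : SSet.{u}).obj l),
        Function.Surjective (SSet.stdSimplex.objEquiv x).toOrderHom := fun l x j =>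
      ⟨0, Subsingleton.elim (α := Fin 1) _ j⟩
    obtain ⟨S₂, hS₂, h₂⟩ := exists_path (a := a) (b := b) J ⦋0⦌ hL k
      (fun l x hx => absurd (hs l x.1) hx) (fun l l' θ x hx _ => absurd (hs l x.1) hx)
      (fun l x hx => absurd (hs l x) hx) (fun l x hx => absurd (hs l x) hx)
    refine J.superset_covering ?_ hS₂
    intro V' g' hg'
    obtain ⟨p, -⟩ := h₂ g' hg'
    exact ⟨p⟩
  fill n W y hy := by
    classical
    let T : Sieve W :=
      { arrows := fun V g => ∃ p : PathEl a b ⦋n + 1⦌ V, ∀ i, pull (δ i) p = restr g (y i)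
        downward_closed := by
          rintro V V' g ⟨p, hp⟩ h
          refine ⟨restr h p, fun i => ?_⟩
          have hp' := congrArg (restr h) (hp i)
          refine Eq.trans ?_ (hp'.trans ?_)
          · exact PathEl.ext' (D := D) (Category.assoc _ _ _) (Category.assoc _ _ _).symm
          · refine PathEl.ext' (D := D) ?_ ?_
            · change (FormalCoproduct.incl D).map h ≫ (FormalCoproduct.incl D).map g ≫ (y i).k =
                (FormalCoproduct.incl D).map (h ≫ g) ≫ (y i).k
              rw [Functor.map_comp, Category.assoc]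
            · change ((y i).H ≫ res L g) ≫ res L h = (y i).H ≫ res L (h ≫ g)
              rw [res_comp, Category.assoc] }
    refine ⟨T, ?_, fun V g hg => hg⟩
    obtain ⟨S₁, hS₁, h₁⟩ := hK.fill n W (fun i => (y i).k) fun m θ i j hi hj =>
      congrArg PathEl.k (hy m θ i j hi hj)
    refine J.transitive hS₁ T fun V g hg => ?_
    obtain ⟨k, hk⟩ := h₁ g hg
    let k : El (K.obj (op ⦋n + 1⦌)) V := k
    have hk : ∀ i, k ≫ K.δ i = (FormalCoproduct.incl D).map g ≫ (y i).k := hk
    have miss : ∀ {l : SimplexCategoryᵒᵖ} (α : l.unop ⟶ ⦋n + 1⦌),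
        ¬ Function.Surjective α.toOrderHom → ∃ i : Fin (n + 2), ∀ j, α.toOrderHom j ≠ i :=
      fun α h => by
        obtain ⟨i, hi⟩ := not_forall.1 h
        exact ⟨i, fun j hj => hi ⟨j, hj⟩⟩
    let ev : ∀ (l : SimplexCategoryᵒᵖ) (α : l.unop ⟶ ⦋n + 1⦌) (i : Fin (n + 2))
        (t : (Δ[1] : SSet.{u}).obj l), (sec L V).obj l := fun l α i t =>
      (res L g).app l ((y i).H.app l
        (SSet.stdSimplex.objEquiv.symm (factor_δ (m := l.unop.len) α i), t))
    have indep : ∀ l (α : l.unop ⟶ ⦋n + 1⦌) (i j : Fin (n + 2)) t,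
        (∀ k, α.toOrderHom k ≠ i) → (∀ k, α.toOrderHom k ≠ j) → ev l α i t = ev l α j t := by
      intro l α i j t hi hj
      have h := congrArg (fun p : PathEl a b l.unop W =>
        p.H.app l (SSet.stdSimplex.objEquiv.symm (𝟙 l.unop), t)) (hy l.unop α i j hi hj)
      exact congrArg ((res L g).app l) h
    let bd : ∀ l (x : ((Δ[n + 1] : SSet.{u}) ⊗ Δ[1]).obj l),
        ¬ Function.Surjective (SSet.stdSimplex.objEquiv x.1).toOrderHom → (sec L V).obj l :=
      fun l x hx => ev l (SSet.stdSimplex.objEquiv x.1) (miss _ hx).choose x.2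
    obtain ⟨S₂, hS₂, h₂⟩ := exists_path (a := a) (b := b) J ⦋n + 1⦌ hL k bd
      (fun l l' θ x hx hx' => by
        let α := SSet.stdSimplex.objEquiv x.1
        have hi := (miss α hx).choose_spec
        refine Eq.trans ?_ (indep l' (θ.unop ≫ α) (miss α hx).choose (miss _ hx').choose
          ((Δ[1] : SSet.{u}).map θ x.2) (fun j => hi _) (miss _ hx').choose_spec)
        change (sec L V).map θ ((res L g).app l ((y _).H.app l _)) = _
        rw [← NatTrans.naturality_apply, ← NatTrans.naturality_apply]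
        refine congrArg ((res L g).app l') (congrArg ((y _).H.app l') (Prod.ext ?_ rfl))
        apply SSet.stdSimplex.objEquiv.injective
        change θ.unop ≫ factor_δ (m := l.unop.len) α (miss α hx).choose =
          factor_δ (m := l'.unop.len) (θ.unop ≫ α) (miss α hx).choose
        rfl)
      (fun l x hx => by
        let α := SSet.stdSimplex.objEquiv x
        have hi := (miss α hx).choose_spec
        obtain ⟨ψ, hψ⟩ : ∃ ψ : l.unop ⟶ ⦋n⦌, ψ = factor_δ (m := l.unop.len) α (miss α hx).choose :=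
          ⟨_, rfl⟩
        have hψα : ψ ≫ δ (miss α hx).choose = α := by
          rw [hψ]; exact factor_δ_spec (m := l.unop.len) α _ hi
        change (FormalCoproduct.incl D).map g ≫ (y (miss α hx).choose).H.app l
          (SSet.ι₀.app l (SSet.stdSimplex.objEquiv.symm
            (factor_δ (m := l.unop.len) α (miss α hx).choose))) =
          (simplexOf L (k ≫ a.app (op ⦋n + 1⦌))).app (op l.unop)
            (SSet.stdSimplex.objEquiv.symm α)
        rw [← hψ, simplexOf_app]
        refine (congrArg ((FormalCoproduct.incl D).map g ≫ ·)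
          (h₀_app (y (miss α hx).choose) ψ)).trans ?_
        conv_rhs => rw [← hψα, op_comp, Functor.map_comp]
        simp only [← Category.assoc]
        refine congrArg (· ≫ L.map ψ.op) ?_
        rw [Category.assoc k]
        refine Eq.trans ?_ (congrArg (k ≫ ·) (a.naturality (δ (miss α hx).choose).op))
        rw [← Category.assoc]
        exact congrArg (· ≫ a.app (op ⦋n⦌)) (hk _).symm)
      (fun l x hx => by
        let α := SSet.stdSimplex.objEquiv x
        have hi := (miss α hx).choose_spec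
        obtain ⟨ψ, hψ⟩ : ∃ ψ : l.unop ⟶ ⦋n⦌, ψ = factor_δ (m := l.unop.len) α (miss α hx).choose :=
          ⟨_, rfl⟩
        have hψα : ψ ≫ δ (miss α hx).choose = α := by
          rw [hψ]; exact factor_δ_spec (m := l.unop.len) α _ hi
        change (FormalCoproduct.incl D).map g ≫ (y (miss α hx).choose).H.app l
          (SSet.ι₁.app l (SSet.stdSimplex.objEquiv.symm
            (factor_δ (m := l.unop.len) α (miss α hx).choose))) =
          (simplexOf L (k ≫ b.app (op ⦋n + 1⦌))).app (op l.unop)
            (SSet.stdSimplex.objEquiv.symm α)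
        rw [← hψ, simplexOf_app]
        refine (congrArg ((FormalCoproduct.incl D).map g ≫ ·)
          (h₁_app (y (miss α hx).choose) ψ)).trans ?_
        conv_rhs => rw [← hψα, op_comp, Functor.map_comp]
        simp only [← Category.assoc]
        refine congrArg (· ≫ L.map ψ.op) ?_
        rw [Category.assoc k]
        refine Eq.trans ?_ (congrArg (k ≫ ·) (b.naturality (δ (miss α hx).choose).op))
        rw [← Category.assoc]
        exact congrArg (· ≫ b.app (op ⦋n⦌)) (hk _).symm)
    refine J.superset_covering ?_ hS₂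
    intro V' g' hg'
    obtain ⟨p, hpk, hpH⟩ := h₂ g' hg'
    refine ⟨p, fun i => PathEl.ext' (D := D) ?_ ?_⟩
    · change p.k ≫ K.δ i = _
      rw [hpk, Category.assoc, hk i, ← Category.assoc, ← Functor.map_comp]
      rfl
    · refine NatTrans.ext (funext fun l => ConcreteCategory.hom_ext _ _ fun z => ?_)
      let ψ : l.unop ⟶ ⦋n⦌ := SSet.stdSimplex.objEquiv z.1
      let x : ((Δ[n + 1] : SSet.{u}) ⊗ Δ[1]).obj l :=
        (SSet.stdSimplex.objEquiv.symm (ψ ≫ δ i), z.2)
      have hmiss : ∀ j, (ψ ≫ δ i).toOrderHom j ≠ i := fun j => Fin.succAbove_ne i _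
      have hx : ¬ Function.Surjective (SSet.stdSimplex.objEquiv x.1).toOrderHom := fun h => by
        obtain ⟨j, hj⟩ := h i
        exact hmiss j hj
      refine (hpH l x hx).trans ?_
      change (res L g').app l (ev l (ψ ≫ δ i) (miss _ hx).choose z.2) = _
      rw [indep l (ψ ≫ δ i) _ i z.2 (miss _ hx).choose_spec hmiss]
      change (res L g').app l ((res L g).app l ((y i).H.app l
        (SSet.stdSimplex.objEquiv.symm (factor_δ (m := l.unop.len) (ψ ≫ δ i) i), z.2))) =
          (res L (g' ≫ g)).app l ((y i).H.app l z)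
      rw [res_comp]
      refine congrArg (fun t => (res L g').app l ((res L g).app l ((y i).H.app l t)))
        (Prod.ext ?_ rfl)
      apply SSet.stdSimplex.objEquiv.injective
      rw [Equiv.apply_symm_apply, factor_δ_comp (l := l.unop.len) ψ (δ i) i, Fillers.factor_δ_self]
      exact Category.comp_id _

end Groth.Agent.Lib.Hypercov.PathFill
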