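import Groth.Agent.Lib.Hypercov.Converse
import Mathlib.CategoryTheory.Limits.FormalCoproducts.Basic
import Mathlib.CategoryTheory.Limits.FunctorCategory.Shapes.Pullbacks

/-!
# Pullbacks of hypercoverings
-/

universe u

open CategoryTheory Limits Opposite Simplicial SimplexCategory

namespace Groth.Agent.Lib.Hypercov.Pullback

open Hypercov.Fillers Hypercov.Converse SiteCoh.Fillers

variable {C : Type u} [SmallCategory C] {U : C} {n : ℕ}
  (K : SimplicialObject (FormalCoproduct.{u} C))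
  [∀ (n : ℕ) (F : (SimplexCategory.Truncated n)ᵒᵖ ⥤ FormalCoproduct.{u} C),
    (SimplexCategory.Truncated.inclusion n).op.HasRightKanExtension F]

/-- A consistent family is the family of faces of an element of the coskeleton. -/
theorem exists_cosk_faces (y : Fin (n + 2) → El (K.obj (op ⦋n⦌)) U) (hy : Consistent K y) :
    ∃ z : El ((csk K n).obj (op ⦋n + 1⦌)) U,
      ∀ i, z ≫ (csk K n).δ i ≫ counitApp K n (op ⟨⦋n⦌, le_refl n⟩) = y i := by
  let adj := SimplicialObject.coskAdj (C := FormalCoproduct.{u} C) n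
  let v : ∀ m : (SimplexCategory.Truncated n)ᵒᵖ, (m.unop.obj ⟶ ⦋n + 1⦌) →
      El (K.obj (op m.unop.obj)) U := fun m θ =>
    y (exists_avoid θ m.unop.property).choose ≫
      K.map (factor_δ θ (exists_avoid θ m.unop.property).choose).op
  have hv : ∀ (m : (SimplexCategory.Truncated n)ᵒᵖ) (θ : m.unop.obj ⟶ ⦋n + 1⦌) (i : Fin (n + 2)),
      (∀ k, θ.toOrderHom k ≠ i) → v m θ = y i ≫ K.map (factor_δ θ i).op := fun m θ i hi =>
    hy m.unop.property θ _ i (exists_avoid θ m.unop.property).choose_spec hi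
  let s : (SimplicialObject.truncation n).obj (copies U (n + 1)) ⟶
      (SimplicialObject.truncation n).obj K :=
    { app := fun m => desc (m := op m.unop.obj) (v m)
      naturality := fun m m' φ => hom_ext_ι fun θ => by
        obtain ⟨i, hi⟩ := exists_avoid θ m.unop.property
        change ι U (n + 1) θ ≫ (copies U (n + 1)).map
            ((SimplexCategory.Truncated.inclusion n).op.map φ) ≫ desc (m := op m'.unop.obj) (v m') =
          ι U (n + 1) θ ≫ desc (m := op m.unop.obj) (v m) ≫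
            K.map ((SimplexCategory.Truncated.inclusion n).op.map φ)
        refine ((Category.assoc _ _ _).symm.trans ((congrArg (· ≫ desc (m := op m'.unop.obj) (v m'))
          (ι_map _ _ θ _)).trans (ι_desc _ _))).trans ?_
        refine Eq.trans ?_ ((congrArg (· ≫ K.map _) (ι_desc (m := op m.unop.obj) (v m) θ)).symm.trans
          (Category.assoc _ _ _))
        rw [hv m θ i hi, hv m' _ i fun k => hi _]
        refine Eq.trans ?_ (Category.assoc _ _ _).symm
        rw [← K.map_comp, factor_δ_comp]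
        rfl }
  let e := adj.homEquiv (copies U (n + 1)) ((SimplicialObject.truncation n).obj K) s
  refine ⟨ι U (n + 1) (𝟙 ⦋n + 1⦌) ≫ e.app (op ⦋n + 1⦌), fun i => ?_⟩
  let m₀ : (SimplexCategory.Truncated n)ᵒᵖ := op ⟨⦋n⦌, le_refl n⟩
  have hs : e.app (op ⦋n⦌) ≫ counitApp K n m₀ = s.app m₀ := by
    have h := adj.homEquiv_counit (X := copies U (n + 1))
      (Y := (SimplicialObject.truncation n).obj K) (g := e)
    rw [Equiv.symm_apply_apply] at h
    exact (NatTrans.congr_app h m₀).symm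
  have h1 : ι U (n + 1) (δ i) = ι U (n + 1) (𝟙 ⦋n + 1⦌) ≫ (copies U (n + 1)).map (δ i).op :=
    ((ι_map U (n + 1) (𝟙 ⦋n + 1⦌) (δ i).op).trans
      (congrArg (ι U (n + 1)) (Category.comp_id (δ i)))).symm
  have key : (ι U (n + 1) (𝟙 ⦋n + 1⦌) ≫ e.app (op ⦋n + 1⦌)) ≫ (csk K n).δ i ≫ counitApp K n m₀ =
      ι U (n + 1) (δ i) ≫ s.app m₀ := by
    rw [h1, Category.assoc, Category.assoc]
    refine congrArg (ι U (n + 1) (𝟙 ⦋n + 1⦌) ≫ ·) ?_
    exact (Category.assoc _ _ _).symm.trans ((congrArg (· ≫ counitApp K n m₀)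
      (e.naturality (δ i).op).symm).trans ((Category.assoc _ _ _).trans
        (congrArg ((copies U (n + 1)).map (δ i).op ≫ ·) hs)))
  refine key.trans ((ι_desc (v m₀) (δ i)).trans ?_)
  refine (hv m₀ (δ i) i fun k => Fin.succAbove_ne i k).trans ?_
  rw [factor_δ_self, op_id, K.map_id]
  exact Category.comp_id _

variable {K}

/-- The map of coskeleta. -/
noncomputable abbrev cskMap {M : SimplicialObject (FormalCoproduct.{u} C)} (b : M ⟶ K) (n : ℕ) :
    csk M n ⟶ csk K n :=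
  (SimplicialObject.truncation n ⋙ SimplicialObject.Truncated.cosk n).map b

lemma cskMap_counit {M : SimplicialObject (FormalCoproduct.{u} C)} (b : M ⟶ K) (n : ℕ) :
    (cskMap b n).app (op ⦋n⦌) ≫ counitApp K n (op ⟨⦋n⦌, le_refl n⟩) =
      counitApp M n (op ⟨⦋n⦌, le_refl n⟩) ≫ b.app (op ⦋n⦌) :=
  NatTrans.congr_app ((SimplicialObject.coskAdj n).counit_naturality
    ((SimplicialObject.truncation n).map b)) (op ⟨⦋n⦌, le_refl n⟩)

section Over

variable {C : Type u} [SmallCategory C] [HasPullbacks C] {J : GrothendieckTopology C} {X : C}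
  [∀ (n : ℕ) (F : (SimplexCategory.Truncated n)ᵒᵖ ⥤ FormalCoproduct.{u} (Over X)),
    (SimplexCategory.Truncated.inclusion n).op.HasRightKanExtension F]
  {K L M P : SimplicialObject (FormalCoproduct.{u} (Over X))} {a : K ⟶ L} {b : M ⟶ L}
  {p1 : P ⟶ K} {p2 : P ⟶ M}

theorem isHypercovering (hP : IsPullback p1 p2 a b) (hK : Hyper.IsHypercovering J X K)
    (h0 : Hyper.IsSRCovering (J.over X) (b.app (op ⦋0⦌)))
    (hγ : ∀ (n : ℕ) (Q : FormalCoproduct.{u} (Over X)) (q1 : Q ⟶ L.obj (op ⦋n + 1⦌))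
      (q2 : Q ⟶ (csk M n).obj (op ⦋n + 1⦌)) (γ : M.obj (op ⦋n + 1⦌) ⟶ Q),
      IsPullback q1 q2 (unitApp L n (op ⦋n + 1⦌)) ((cskMap b n).app (op ⦋n + 1⦌)) →
      γ ≫ q1 = b.app (op ⦋n + 1⦌) → γ ≫ q2 = unitApp M n (op ⦋n + 1⦌) →
      Hyper.IsSRCovering (J.over X) γ) :
    Hyper.IsHypercovering J X P := by
  have hPm : ∀ m, IsPullback (p1.app m) (p2.app m) (a.app m) (b.app m) := fun m =>
    hP.map ((evaluation SimplexCategoryᵒᵖ (FormalCoproduct.{u} (Over X))).obj m)
  refine isHypercovering_of_fillers J X P ?_ fun n W y hy => ?_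
  · let T : Sieve (Over.mk (𝟙 X)) :=
      { arrows := fun V _ => Nonempty (El (P.obj (op ⦋0⦌)) V)
        downward_closed := by
          rintro V V' g ⟨x⟩ h
          exact ⟨(FormalCoproduct.incl _).map h ≫ x⟩ }
    obtain ⟨S₁, hS₁, h₁⟩ := Conditions.exists_el_zero J X K hK (Over.mk (𝟙 X))
    have hT : T ∈ (J.over X) (Over.mk (𝟙 X)) := by
      refine (J.over X).transitive hS₁ T fun V g hg => ?_
      obtain ⟨x⟩ := h₁ g hg
      refine (J.over X).superset_covering ?_
        ((Sigma.isLocallySurjective_of_isSRCovering _ h0).imageSieve_mem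
          (x ≫ a.app (op ⦋0⦌)))
      rintro V' g' ⟨m, hm⟩
      exact ⟨(hPm (op ⦋0⦌)).lift ((FormalCoproduct.incl _).map g' ≫ x) m
        ((Category.assoc _ _ _).trans hm.symm)⟩
    rw [GrothendieckTopology.mem_over_iff] at hT
    refine J.superset_covering ?_ hT
    intro V g hg
    rw [Sieve.overEquiv_iff] at hg
    obtain ⟨x⟩ := hg
    exact (Sieve.mem_ofArrows_iff _ _ _).2 ⟨x.f PUnit.unit, (x.φ PUnit.unit).left,
      ((Over.w (x.φ PUnit.unit)).trans (Category.comp_id g)).symm⟩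
  let j₀ : (SimplexCategory.Truncated n)ᵒᵖ := op ⟨⦋n⦌, le_refl n⟩
  let T : Sieve W :=
    { arrows := fun V g => ∃ x : El (P.obj (op ⦋n + 1⦌)) V,
        ∀ i, x ≫ P.δ i = (FormalCoproduct.incl _).map g ≫ y i
      downward_closed := by
        rintro V V' g ⟨x, hx⟩ h
        refine ⟨(FormalCoproduct.incl _).map h ≫ x, fun i => ?_⟩
        rw [Category.assoc, hx i, ← Category.assoc, ← Functor.map_comp] }
  refine ⟨T, ?_, fun V g hg => hg⟩
  have hyK : Consistent K fun i => y i ≫ p1.app (op ⦋n⦌) := fun m hm θ i j hi hj => by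
    simp only [Category.assoc, ← p1.naturality]
    simp only [← Category.assoc, hy hm θ i j hi hj]
  have hyM : Consistent M fun i => y i ≫ p2.app (op ⦋n⦌) := fun m hm θ i j hi hj => by
    simp only [Category.assoc, ← p2.naturality]
    simp only [← Category.assoc, hy hm θ i j hi hj]
  refine (J.over X).transitive (exists_lift_of_cosk K (J.over X)
    (Sigma.isLocallySurjective_of_isSRCovering _ (hK.2 n)) _ hyK) T fun V g hg => ?_
  obtain ⟨x, hx⟩ := hg
  let x : El (K.obj (op ⦋n + 1⦌)) V := x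
  have hx : ∀ i, x ≫ K.δ i = (FormalCoproduct.incl _).map g ≫ y i ≫ p1.app (op ⦋n⦌) := hx
  obtain ⟨z, hz⟩ := exists_cosk_faces M (fun i => y i ≫ p2.app (op ⦋n⦌)) hyM
  let z' := (FormalCoproduct.incl _).map g ≫ z
  have hcomp : (x ≫ a.app (op ⦋n + 1⦌)) ≫ unitApp L n (op ⦋n + 1⦌) =
      z' ≫ (cskMap b n).app (op ⦋n + 1⦌) := by
    refine cosk_ext L fun i => ?_
    have h1 : unitApp L n (op ⦋n + 1⦌) ≫ (csk L n).δ i = L.δ i ≫ unitApp L n (op ⦋n⦌) :=
      (((SimplicialObject.coskAdj n).unit.app L).naturality (δ i).op).symm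
    have hu : unitApp L n (op ⦋n⦌) ≫ counitApp L n j₀ = 𝟙 _ := unit_counit L j₀
    have hna : a.app (op ⦋n + 1⦌) ≫ L.δ i = K.δ i ≫ a.app (op ⦋n⦌) := (a.naturality (δ i).op).symm
    have hnc : (cskMap b n).app (op ⦋n + 1⦌) ≫ (csk L n).δ i =
        (csk M n).δ i ≫ (cskMap b n).app (op ⦋n⦌) := ((cskMap b n).naturality (δ i).op).symm
    calc ((x ≫ a.app (op ⦋n + 1⦌)) ≫ unitApp L n (op ⦋n + 1⦌)) ≫ (csk L n).δ i ≫ counitApp L n j₀
        = x ≫ a.app (op ⦋n + 1⦌) ≫ (unitApp L n (op ⦋n + 1⦌) ≫ (csk L n).δ i) ≫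
            counitApp L n j₀ := by simp only [Category.assoc]
      _ = x ≫ (a.app (op ⦋n + 1⦌) ≫ L.δ i) ≫ (unitApp L n (op ⦋n⦌) ≫ counitApp L n j₀) := by
          rw [h1]; simp only [Category.assoc]
      _ = (x ≫ K.δ i) ≫ a.app (op ⦋n⦌) := by
          rw [hna, hu]; simp only [Category.assoc]
          exact congrArg (fun t => x ≫ K.δ i ≫ t) (Category.comp_id _)
      _ = (FormalCoproduct.incl _).map g ≫ (y i ≫ p2.app (op ⦋n⦌)) ≫ b.app (op ⦋n⦌) := by
          rw [hx i]; simp only [Category.assoc, (hPm (op ⦋n⦌)).w]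
      _ = (FormalCoproduct.incl _).map g ≫
            (z ≫ (csk M n).δ i ≫ counitApp M n j₀) ≫ b.app (op ⦋n⦌) := by rw [hz i]
      _ = z' ≫ ((csk M n).δ i ≫ (cskMap b n).app (op ⦋n⦌)) ≫ counitApp L n j₀ := by
          simp only [z', Category.assoc]
          exact congrArg (fun t => (FormalCoproduct.incl _).map g ≫ z ≫ (csk M n).δ i ≫ t)
            (cskMap_counit b n).symm
      _ = (z' ≫ (cskMap b n).app (op ⦋n + 1⦌)) ≫ (csk L n).δ i ≫ counitApp L n j₀ := by
          rw [← hnc]; simp only [Category.assoc]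
  let f1 := unitApp L n (op ⦋n + 1⦌)
  let f2 := (cskMap b n).app (op ⦋n + 1⦌)
  have hbM : b.app (op ⦋n + 1⦌) ≫ f1 = unitApp M n (op ⦋n + 1⦌) ≫ f2 :=
    NatTrans.congr_app ((SimplicialObject.coskAdj n).unit_naturality b).symm (op ⦋n + 1⦌)
  let γ := pullback.lift (b.app (op ⦋n + 1⦌)) (unitApp M n (op ⦋n + 1⦌)) hbM
  have hcov := hγ n _ (pullback.fst f1 f2) (pullback.snd f1 f2) γ (IsPullback.of_hasPullback f1 f2)
    (pullback.lift_fst _ _ _) (pullback.lift_snd _ _ _)
  let q : El (pullback f1 f2) V := pullback.lift (x ≫ a.app (op ⦋n + 1⦌)) z' hcomp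
  refine (J.over X).superset_covering ?_
    ((Sigma.isLocallySurjective_of_isSRCovering γ hcov).imageSieve_mem q)
  rintro V' g' ⟨m, hm⟩
  let m : El (M.obj (op ⦋n + 1⦌)) V' := m
  have hm : m ≫ γ = (FormalCoproduct.incl _).map g' ≫ q := hm
  have hm1 : m ≫ b.app (op ⦋n + 1⦌) =
      ((FormalCoproduct.incl _).map g' ≫ x) ≫ a.app (op ⦋n + 1⦌) := by
    have := congrArg (· ≫ pullback.fst f1 f2) hm
    simpa only [q, γ, Category.assoc, pullback.lift_fst] using this
  have hm2 : m ≫ unitApp M n (op ⦋n + 1⦌) = (FormalCoproduct.incl _).map g' ≫ z' := by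
    have := congrArg (· ≫ pullback.snd f1 f2) hm
    simpa only [q, γ, Category.assoc, pullback.lift_snd] using this
  refine ⟨(hPm (op ⦋n + 1⦌)).lift ((FormalCoproduct.incl _).map g' ≫ x) m hm1.symm, fun i => ?_⟩
  apply (hPm (op ⦋n⦌)).hom_ext
  · rw [Category.assoc, show P.δ i ≫ p1.app (op ⦋n⦌) = p1.app (op ⦋n + 1⦌) ≫ K.δ i from
      p1.naturality (δ i).op, ← Category.assoc, IsPullback.lift_fst, Category.assoc, hx i,
      Functor.map_comp]
    simp only [Category.assoc]
  · rw [Category.assoc, show P.δ i ≫ p2.app (op ⦋n⦌) = p2.app (op ⦋n + 1⦌) ≫ M.δ i from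
      p2.naturality (δ i).op, ← Category.assoc, IsPullback.lift_snd]
    have h1 : unitApp M n (op ⦋n + 1⦌) ≫ (csk M n).δ i = M.δ i ≫ unitApp M n (op ⦋n⦌) :=
      (((SimplicialObject.coskAdj n).unit.app M).naturality (δ i).op).symm
    calc m ≫ M.δ i = m ≫ M.δ i ≫ unitApp M n (op ⦋n⦌) ≫ counitApp M n j₀ := by
          rw [unit_counit M j₀]; exact congrArg (m ≫ ·) (Category.comp_id _).symm
      _ = m ≫ (M.δ i ≫ unitApp M n (op ⦋n⦌)) ≫ counitApp M n j₀ := by simp only [Category.assoc]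
      _ = (m ≫ unitApp M n (op ⦋n + 1⦌)) ≫ (csk M n).δ i ≫ counitApp M n j₀ := by
          rw [← h1]; simp only [Category.assoc]
      _ = _ := by
          rw [hm2]
          simp only [z', Category.assoc, Functor.map_comp]
          exact congrArg (fun t => (FormalCoproduct.incl _).map g' ≫
            (FormalCoproduct.incl _).map g ≫ t) (hz i)

end Over

end Groth.Agent.Lib.Hypercov.Pullback
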