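import Mathlib.CategoryTheory.Limits.FormalCoproducts.Basic
import Mathlib.CategoryTheory.Limits.Types.Coproducts
import Mathlib.CategoryTheory.Limits.FunctorCategory.Basic
import Mathlib.CategoryTheory.Limits.Shapes.FiniteProducts
import Mathlib.CategoryTheory.Sites.LocallySurjective
import Groth.Prelude.Def_Hyper

/-!
# Elements of formal coproducts of representables
-/

universe u

open CategoryTheory Limits Opposite

namespace Groth.Agent.Lib.Hypercov.Sigma

variable {C : Type u} [SmallCategory C]

/-- The presheaf `W ↦ Hom(W, E)` of a formal coproduct. -/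
abbrev hom : FormalCoproduct.{u} C ⥤ (Cᵒᵖ ⥤ Type u) :=
  CategoryTheory.yoneda ⋙ (Functor.whiskeringLeft _ _ _).obj (FormalCoproduct.incl C).op

lemma exists_rep (E : FormalCoproduct.{u} C) (W : Cᵒᵖ)
    (x : ((FormalCoproduct.yoneda (C := C)).obj E).obj W) :
    ∃ (i : E.I) (h : W.unop ⟶ E.obj i),
      (Limits.Sigma.ι (fun i => CategoryTheory.yoneda.obj (E.obj i)) i).app W h = x := by
  obtain ⟨⟨i⟩, h, rfl⟩ := Types.jointly_surjective_of_isColimit
    (isColimitOfPreserves ((evaluation _ _).obj W)
      (colimit.isColimit (Discrete.functor fun i => CategoryTheory.yoneda.obj (E.obj i)))) x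
  exact ⟨i, h, rfl⟩

/-- The components of the comparison. -/
noncomputable def compareApp (E : FormalCoproduct.{u} C) :
    (FormalCoproduct.yoneda (C := C)).obj E ⟶ hom.obj E :=
  Limits.Sigma.desc fun i =>
    { app := fun W => ↾fun h => FormalCoproduct.Hom.fromIncl i h
      naturality := fun W W' g => by
        ext h
        rfl }

lemma ι_compare (E : FormalCoproduct.{u} C) (i : E.I) (W : Cᵒᵖ) (h : W.unop ⟶ E.obj i) :
    (compareApp E).app W
        ((Limits.Sigma.ι (fun i => CategoryTheory.yoneda.obj (E.obj i)) i).app W h) =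
      FormalCoproduct.Hom.fromIncl i h :=
  ConcreteCategory.congr_hom (NatTrans.congr_app (Limits.Sigma.ι_desc
    (fun i =>
      { app := fun W => ↾fun h => FormalCoproduct.Hom.fromIncl i h
        naturality := fun W W' g => by
          ext h
          rfl } : ∀ i : E.I, CategoryTheory.yoneda.obj (E.obj i) ⟶ hom.obj E) i) W) h

lemma ι_map {E E' : FormalCoproduct.{u} C} (f : E ⟶ E') (i : E.I) (W : Cᵒᵖ)
    (h : W.unop ⟶ E.obj i) :
    (FormalCoproduct.yoneda.map f).app W
        ((Limits.Sigma.ι (fun i => CategoryTheory.yoneda.obj (E.obj i)) i).app W h) =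
      (Limits.Sigma.ι (fun i => CategoryTheory.yoneda.obj (E'.obj i)) (f.f i)).app W (h ≫ f.φ i) :=
  ConcreteCategory.congr_hom (NatTrans.congr_app (Limits.Sigma.ι_desc
    (fun i => CategoryTheory.yoneda.map (f.φ i) ≫
      Limits.Sigma.ι (CategoryTheory.yoneda.obj ∘ E'.obj) (f.f i)) i) W) h

/-- The comparison from the coproduct of representables to elements. -/
noncomputable def compare : FormalCoproduct.yoneda (C := C) ⟶ hom where
  app := compareApp
  naturality E E' f := by
    ext W x
    obtain ⟨i, h, rfl⟩ := exists_rep E W x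
    exact (congrArg ((compareApp E').app W) (ι_map f i W h)).trans
      ((ι_compare E' _ W _).trans (congrArg (fun t => t ≫ f) (ι_compare E i W h)).symm)

instance isIso_compare : IsIso (compare (C := C)) := by
  have : ∀ E, IsIso ((compare (C := C)).app E) := fun E => by
    have : ∀ W, IsIso (((compare (C := C)).app E).app W) := fun W => by
      rw [isIso_iff_bijective]
      refine ⟨fun x x' hx => ?_, fun y => ⟨_, (ι_compare E y.asSigma.1 W y.asSigma.2).trans
        (FormalCoproduct.Hom.fromIncl_asSigma y)⟩⟩
      obtain ⟨i, h, rfl⟩ := exists_rep E W x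
      obtain ⟨i', h', rfl⟩ := exists_rep E W x'
      have hx' : (⟨i, h⟩ : Σ j : E.I, W.unop ⟶ E.obj j) = ⟨i', h'⟩ :=
        congrArg (FormalCoproduct.inclHomEquiv W.unop E)
          ((ι_compare E i W h).symm.trans (hx.trans (ι_compare E i' W h')))
      cases hx'
      rfl
    exact NatIso.isIso_of_isIso_app _
  exact NatIso.isIso_of_isIso_app _

/-- The coproduct of representables is the presheaf of elements. -/
noncomputable def compareIso : FormalCoproduct.yoneda (C := C) ≅ hom := asIso compare

lemma isLocallySurjective_hom_map {J : GrothendieckTopology C} {E E' : FormalCoproduct.{u} C}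
    (f : E ⟶ E') (h : Presheaf.IsLocallySurjective J (FormalCoproduct.yoneda.map f)) :
    Presheaf.IsLocallySurjective J (hom.map f) := by
  have hs : ∀ E : FormalCoproduct.{u} C, IsIso (compare.app E) := inferInstance
  have : hom.map f = inv (compare.app E) ≫ FormalCoproduct.yoneda.map f ≫ compare.app E' := by
    rw [compare.naturality, IsIso.inv_hom_id_assoc]
  rw [this]
  exact Presheaf.isLocallySurjective_comp J _ _

lemma isLocallySurjective_of_isSRCovering {J : GrothendieckTopology C} {E E' : FormalCoproduct.{u} C}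
    (f : E ⟶ E') (h : Hyper.IsSRCovering J f) : Presheaf.IsLocallySurjective J (hom.map f) := ⟨fun {U} z => by
  refine J.superset_covering ?_ (J.pullback_stable z.asSigma.2 (h z.asSigma.1))
  intro V g hg
  obtain ⟨⟨i, hi⟩, a, ha⟩ := (Sieve.mem_ofArrows_iff _ _ _).1 hg
  refine ⟨FormalCoproduct.Hom.fromIncl i a, ?_⟩
  refine FormalCoproduct.hom_ext (funext fun _ => hi) fun _ => ?_
  exact (Category.assoc _ _ _).trans ha.symm⟩

end Groth.Agent.Lib.Hypercov.Sigma
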