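import Groth.Agent.Lib.Hypercov.AugClass

/-!
# Vanishing of cohomology and death of Cech classes on refinements
-/

universe u

open CategoryTheory Limits Opposite Simplicial Abelian

namespace Groth.Agent.Lib.Hypercov.VerdierFree

open Dies AugClass SiteCoh

variable {C : Type u} [SmallCategory C] {J : GrothendieckTopology C} {X : C}
  [∀ (n : ℕ) (F : (SimplexCategory.Truncated n)ᵒᵖ ⥤ FormalCoproduct.{u} (Over X)),
    (SimplexCategory.Truncated.inclusion n).op.HasRightKanExtension F]

variable (J X) in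
lemma exists_hypercovering :
    ∃ K : SimplicialObject (FormalCoproduct.{u} (Over X)), Hyper.IsHypercovering J X K :=
  ⟨_, Exist.isHypercovering (Refine.covers_univ _) (Fillable.locFill_pt (J.over X))
    (Fillable.isLocallySurjective_id (J.over X) ((Fillable.pt (Over X)).obj (op ⦋0⦌)))⟩

lemma subsingleton_cech_injective (I : Sheaf J AddCommGrpCat.{u}) [Injective I]
    {K : SimplicialObject (FormalCoproduct.{u} (Over X))} (hK : Hyper.IsHypercovering J X K) (p : ℕ) :
    Subsingleton (Hyper.cechH X K I.obj (p + 1)) :=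
  AddCommGrpCat.subsingleton_of_isZero (Resolution.isZero_cech_succ ((OverAcyclic.restr J X).obj I) p
    (OverAcyclic.exactHom_restr K hK p I fun _ _ =>
      subsingleton_of_forall_eq 0 fun x => Ext.eq_zero_of_injective x))

lemma subsingleton_hu_of_iso {F G : Sheaf J AddCommGrpCat.{u}} (e : F ≅ G) (n : ℕ) (U : C)
    (h : Subsingleton (CohSite.HU F n U)) : Subsingleton (CohSite.HU G n U) := by
  rw [Basic.subsingleton_hu_iff] at h ⊢
  intro x
  have := h (x.comp (Ext.mk₀ e.inv) (add_zero n))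
  have h2 := congrArg (fun y => Ext.comp y (Ext.mk₀ e.hom) (add_zero n)) this
  simpa using h2

section Dimension

variable (F : Sheaf J AddCommGrpCat.{u})

/-- The embedding into an injective, as presheaves. -/
noncomputable abbrev seq : ShortComplex (Cᵒᵖ ⥤ AddCommGrpCat.{u}) :=
  ShortComplex.mk (Injective.ι F).hom (cokernel.π _) (cokernel.condition _)

omit [∀ (n : ℕ) (F : (SimplexCategory.Truncated n)ᵒᵖ ⥤ FormalCoproduct.{u} (Over X)),
    (SimplexCategory.Truncated.inclusion n).op.HasRightKanExtension F]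

lemma seq_shortExact : (seq F).ShortExact where
  exact := ShortComplex.exact_of_g_is_cokernel _ (cokernelIsCokernel _)
  mono_f := inferInstanceAs (Mono ((sheafToPresheaf J AddCommGrpCat.{u}).map (Injective.ι F)))

/-- Its associated sheaves. -/
noncomputable abbrev sseq : ShortComplex (Sheaf J AddCommGrpCat.{u}) :=
  (seq F).map (presheafToSheaf J AddCommGrpCat.{u})

lemma sseq_shortExact : (sseq F).ShortExact := by
  haveI : PreservesColimitsOfSize.{0, 0} (presheafToSheaf J AddCommGrpCat.{u}) :=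
    (sheafificationAdjunction J AddCommGrpCat.{u}).leftAdjoint_preservesColimits
  exact (seq_shortExact F).map_of_exact _

lemma injective_X₂ : Injective (sseq F).X₂ :=
  Injective.of_iso (sheafificationIso (Injective.under F)) inferInstance

lemma hu_succ_succ_iff (n : ℕ) :
    Subsingleton (CohSite.HU F (n + 2) X) ↔ Subsingleton (CohSite.HU (sseq F).X₃ (n + 1) X) := by
  haveI := injective_X₂ F
  refine ⟨fun h => ?_, fun h => ?_⟩
  · have h' := subsingleton_hu_of_iso (sheafificationIso F) (n + 2) X h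
    rw [Basic.subsingleton_hu_iff] at h' ⊢
    intro y
    obtain ⟨z, rfl⟩ := Ext.covariant_sequence_exact₃ _ (sseq_shortExact F) y rfl (h' _)
    rw [Ext.eq_zero_of_injective z, Ext.zero_comp]
  · refine subsingleton_hu_of_iso (sheafificationIso F).symm (n + 2) X ?_
    rw [Basic.subsingleton_hu_iff] at h ⊢
    intro x
    obtain ⟨y, rfl⟩ := Ext.covariant_sequence_exact₁ _ (sseq_shortExact F) x
      (Ext.eq_zero_of_injective _) rfl
    rw [h y, Ext.zero_comp]
    rfl

lemma hu_one_iff :
    Subsingleton (CohSite.HU F 1 X) ↔ Function.Surjective (fun t : (Injective.under F).obj.obj (op X) =>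
      (toSheafify J (seq F).X₃).app (op X) ((seq F).g.app (op X) t)) := by
  haveI := injective_X₂ F
  have hg : ∀ t : (Injective.under F).obj.obj (op X),
      (sseq F).g.hom.app (op X) ((toSheafify J (seq F).X₂).app (op X) t) =
        (toSheafify J (seq F).X₃).app (op X) ((seq F).g.app (op X) t) := fun t =>
    (ConcreteCategory.congr_hom (NatTrans.congr_app (toSheafify_naturality J (seq F).g) (op X)) t).symm
  have hb : Function.Bijective ((toSheafify J (seq F).X₂).app (op X)) := by
    haveI : IsIso (toSheafify J (seq F).X₂) := isIso_toSheafify J (Injective.under F).2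
    exact ConcreteCategory.bijective_of_isIso _
  refine ⟨fun h s => ?_, fun h => ?_⟩
  · obtain ⟨y, hy⟩ := HomAcyclic.surjective_comp (sseq_shortExact F)
      (subsingleton_hu_of_iso (sheafificationIso F) 1 X h) ((Basic.homEquiv X _).symm s)
    obtain ⟨t, ht⟩ := hb.2 (Basic.homEquiv X _ y)
    refine ⟨t, (hg t).symm.trans ?_⟩
    refine (congrArg ((sseq F).g.hom.app (op X)) ht).trans ?_
    refine (Basic.homEquiv_comp y (sseq F).g).symm.trans ?_
    exact (congrArg (Basic.homEquiv X (sseq F).X₃) hy).trans (AddEquiv.apply_symm_apply _ s)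
  · refine subsingleton_hu_of_iso (sheafificationIso F).symm 1 X ?_
    rw [Basic.subsingleton_hu_iff]
    intro x
    obtain ⟨y, rfl⟩ := Ext.covariant_sequence_exact₁ _ (sseq_shortExact F) x
      (Ext.eq_zero_of_injective _) rfl
    obtain ⟨t, ht⟩ := h (Basic.ext0Equiv _ _ y)
    let a : Ext (CohCx.freeSheaf J X) (sseq F).X₂ 0 :=
      (Basic.ext0Equiv (sseq F).X₂ X).symm ((toSheafify J (seq F).X₂).app (op X) t)
    have : y = a.comp (Ext.mk₀ (sseq F).g) (add_zero 0) := by
      apply (Basic.ext0Equiv (sseq F).X₃ X).injective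
      refine ht.symm.trans (((hg t).symm.trans ?_).trans (Basic.ext0Equiv_comp_mk₀ _ X a).symm)
      exact congrArg ((sseq F).g.hom.app (op X)) (AddEquiv.apply_symm_apply _ _).symm
    rw [this, Ext.comp_assoc a _ _ (add_zero 0) (zero_add 1) (by omega),
      ShortComplex.ShortExact.comp_extClass, Ext.comp_zero]
    rfl

end Dimension

lemma isIso_map_toSheafify (P : Cᵒᵖ ⥤ AddCommGrpCat.{u}) :
    IsIso ((presheafToSheaf J AddCommGrpCat.{u}).map (toSheafify J P)) :=
  (J.W_iff _).1 (J.W_toSheafify P)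

lemma dies_zero_iff (F : Sheaf J AddCommGrpCat.{u}) :
    Dies.Dies X J F.obj 0 ↔ Subsingleton (CohSite.HU F 0 X) := by
  have e : Subsingleton (CohSite.HU F 0 X) ↔ Subsingleton (F.obj.obj (op X)) :=
    ((Basic.huEquiv F 0 X).trans (Basic.ext0Equiv F X)).toEquiv.subsingleton_congr
  rw [e]
  refine ⟨fun h => subsingleton_of_forall_eq 0 fun s => ?_, fun h K hK ξ => ?_⟩
  · obtain ⟨K, hK⟩ := exists_hypercovering J X
    obtain ⟨L, f, hL, hf⟩ := h K hK (aug K F.obj s)
    rw [aug_refine] at hf
    exact (bijective_aug hL F).1 (hf.trans (map_zero (aug L F.obj).hom).symm)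
  · obtain ⟨s, rfl⟩ := (bijective_aug hK F).2 ξ
    refine ⟨K, 𝟙 K, hK, ?_⟩
    rw [Subsingleton.elim s 0]
    exact (congrArg _ (map_zero (aug K F.obj).hom)).trans (map_zero _)

lemma dies_one_iff (F : Sheaf J AddCommGrpCat.{u}) :
    Dies.Dies X J F.obj 1 ↔ Subsingleton (CohSite.HU F 1 X) := by
  rw [hu_one_iff]
  let p := (seq F).g
  let η := toSheafify J (seq F).X₃
  let Q : Sheaf J AddCommGrpCat.{u} := (presheafToSheaf J AddCommGrpCat.{u}).obj (seq F).X₃
  obtain ⟨hinj, hsurj⟩ := locBij_of_isIso_sheafify (X := X) (J := J) η (isIso_map_toSheafify _) 0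
  have hS := seq_shortExact F
  refine ⟨fun h s => ?_, fun h K hK ξ => ?_⟩
  · obtain ⟨K, hK⟩ := exists_hypercovering J X
    obtain ⟨L, f, ξ, hL, hξ⟩ := hsurj K hK (aug K Q.obj s)
    obtain ⟨M, g, hM, hg⟩ := h L hL (del hS L 0 ξ)
    replace hg := (del_nat hS g 0 ξ).trans hg
    obtain ⟨z, hz⟩ := exact₃ hS M 0 _ hg
    obtain ⟨t, rfl⟩ := (bijective_aug hM (Injective.under F)).2 z
    refine ⟨t, (bijective_aug hM Q).1 ?_⟩
    have hz' : aug M (seq F).X₃ (p.app (op X) t) = Hyper.cechHMap X g (seq F).X₃ 0 ξ :=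
      (aug_coef (K := M) p t).symm.trans hz
    refine ((aug_coef (K := M) η (p.app (op X) t)).symm.trans ?_).trans (aug_refine (g ≫ f) s)
    rw [hz', coefMap_nat, hξ, cechHMap_comp]
  · have h0 : coefMap K (seq F).f 1 ξ = 0 :=
      @Subsingleton.elim _ (subsingleton_cech_injective (Injective.under F) hK 0) _ _
    obtain ⟨y, rfl⟩ := exact₁ hS K 0 ξ h0
    obtain ⟨s, hs⟩ := (bijective_aug hK Q).2 (coefMap K η 0 y)
    obtain ⟨t, ht⟩ := h s
    have hzero : coefMap K η 0 (y - aug K (seq F).X₃ (p.app (op X) t)) = 0 := by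
      rw [map_sub, aug_coef (K := K) η, sub_eq_zero, ← hs]
      exact congrArg _ ht.symm
    obtain ⟨L, f, hL, hf⟩ := hinj K hK _ hzero
    refine ⟨L, f, hL, ?_⟩
    rw [map_sub, sub_eq_zero, aug_refine, ← aug_coef (K := L) p t] at hf
    exact (del_nat hS f 0 y).symm.trans ((congrArg (del hS L 0) hf).trans (del_g hS L 0 _))

lemma dies_succ_succ_iff (F : Sheaf J AddCommGrpCat.{u}) (n : ℕ) :
    Dies.Dies X J F.obj (n + 2) ↔ Dies.Dies X J (seq F).X₃ (n + 1) := by
  have hS := seq_shortExact F
  refine ⟨fun h K hK y => ?_, fun h K hK ξ => ?_⟩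
  · obtain ⟨L, f, hL, hf⟩ := h K hK (del hS K (n + 1) y)
    replace hf := (del_nat hS f (n + 1) y).trans hf
    obtain ⟨z, hz⟩ := exact₃ hS L (n + 1) _ hf
    haveI : Subsingleton (Hyper.cechH X L (seq F).X₂ (n + 1)) :=
      subsingleton_cech_injective (Injective.under F) hL n
    refine ⟨L, f, hL, ?_⟩
    rw [← hz, Subsingleton.elim z 0, map_zero]
  · have h0 : coefMap K (seq F).f (n + 2) ξ = 0 :=
      @Subsingleton.elim _ (subsingleton_cech_injective (Injective.under F) hK (n + 1)) _ _
    obtain ⟨y, rfl⟩ := exact₁ hS K (n + 1) ξ h0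
    obtain ⟨L, f, hL, hf⟩ := h K hK y
    exact ⟨L, f, hL, (del_nat hS f (n + 1) y).symm.trans
      ((congrArg (del hS L (n + 1)) hf).trans (map_zero _))⟩

/-- Cohomology vanishes iff all Cech classes die. -/
theorem dies_iff (q : ℕ) : ∀ F : Sheaf J AddCommGrpCat.{u},
    Dies.Dies X J F.obj q ↔ Subsingleton (CohSite.HU F q X) := by
  induction q with
  | zero => exact dies_zero_iff
  | succ q ih =>
    intro F
    match q, ih with
    | 0, _ => exact dies_one_iff F
    | n + 1, ih =>
      rw [dies_succ_succ_iff, dies_iff_of_isIso_sheafify (toSheafify J (seq F).X₃)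
        (isIso_map_toSheafify _), hu_succ_succ_iff]
      exact ih ((presheafToSheaf J AddCommGrpCat.{u}).obj (seq F).X₃)

theorem dies_sheafify_iff (G : Cᵒᵖ ⥤ AddCommGrpCat.{u}) (q : ℕ) :
    Dies.Dies X J G q ↔
      Subsingleton (CohSite.HU ((presheafToSheaf J AddCommGrpCat.{u}).obj G) q X) :=
  (dies_iff_of_isIso_sheafify (toSheafify J G) (isIso_map_toSheafify G) q).trans
    (dies_iff q ((presheafToSheaf J AddCommGrpCat.{u}).obj G))

end Groth.Agent.Lib.Hypercov.VerdierFree
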